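import Mathlib
import Groth.Prelude.Def_EtRam

set_option autoImplicit false

/-!
# Valuation subrings dominating a discrete valuation ring (helper9)

Basic facts on `EtRam.Dominates`, and the theorem that a valuation subring of a finite extension
of the fraction field of a DVR `A` which dominates `A` is itself a DVR.
-/

namespace Groth.Agent.Helper9.EtRamLib
open IsLocalRing EtRam

universe u

section OrdGrp
variable {Γ : Type*} [LinearOrderedCommGroupWithZero Γ]

theorem pow_inj_of_pos {a b : Γ} {N : ℕ} (hN : N ≠ 0) (h : a ^ N = b ^ N) : a = b := by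
  rcases lt_trichotomy a b with hlt | heq | hgt
  · exact absurd h (ne_of_lt (pow_lt_pow_left₀ hlt zero_le hN))
  · exact heq
  · exact absurd h.symm (ne_of_lt (pow_lt_pow_left₀ hgt zero_le hN))

theorem zpow_lt_one_of_pos {a : Γ} (ha0 : a ≠ 0) (ha : a < 1) {m : ℤ} (hm : 0 < m) : a ^ m < 1 := by
  obtain ⟨n, rfl⟩ := Int.eq_ofNat_of_zero_le hm.le
  rw [zpow_natCast]
  exact pow_lt_one₀ zero_le ha (by omega)

theorem one_lt_zpow_of_neg {a : Γ} (ha0 : a ≠ 0) (ha : a < 1) {m : ℤ} (hm : m < 0) : 1 < a ^ m := by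
  have h1 : a ^ (-m) < 1 := zpow_lt_one_of_pos ha0 ha (by omega)
  rw [zpow_neg] at h1
  have h2 : a ^ m ≠ 0 := zpow_ne_zero _ ha0
  by_contra hcon
  push Not at hcon
  have : 1 ≤ (a ^ m)⁻¹ := by
    rw [one_le_inv₀ (zero_lt_iff.2 h2)]
    exact hcon
  exact absurd h1 (not_lt.2 this)

theorem zpow_eq_one_iff_of_lt_one {a : Γ} (ha0 : a ≠ 0) (ha : a < 1) {m : ℤ} : a ^ m = 1 ↔ m = 0 := by
  constructor
  · intro h
    rcases lt_trichotomy m 0 with hlt | heq | hgt
    · exact absurd h (ne_of_gt (one_lt_zpow_of_neg ha0 ha hlt))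
    · exact heq
    · exact absurd h (ne_of_lt (zpow_lt_one_of_pos ha0 ha hgt))
  · rintro rfl; simp

theorem zpow_inj_of_lt_one {a : Γ} (ha0 : a ≠ 0) (ha : a < 1) {m n : ℤ} (h : a ^ m = a ^ n) : m = n := by
  have : a ^ (m - n) = 1 := by
    rw [zpow_sub₀ ha0, h, div_self (zpow_ne_zero _ ha0)]
  have := (zpow_eq_one_iff_of_lt_one ha0 ha).1 this
  omega

end OrdGrp

section Val
variable {K L : Type u} [Field K] [Field L] [Algebra K L] {Γ : Type*}
  [LinearOrderedCommGroupWithZero Γ] (v : Valuation L Γ)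

/-- In a finite extension, some bounded power of any nonzero element has the value of an
element of the base field. -/
theorem exists_pow_val_eq [FiniteDimensional K L] (x : L) (hx : x ≠ 0) :
    ∃ n : ℕ, 0 < n ∧ n ≤ Module.finrank K L ∧
      ∃ c : K, c ≠ 0 ∧ v x ^ n = v (algebraMap K L c) := by
  classical
  set d := Module.finrank K L with hd
  have hnli : ¬ LinearIndependent K (fun i : Fin (d + 1) => x ^ (i : ℕ)) := by
    intro hli
    have := hli.fintype_card_le_finrank
    simp at this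
    omega
  rw [Fintype.not_linearIndependent_iff] at hnli
  obtain ⟨c, hsum, i', hi'⟩ := hnli
  set S := Finset.univ.filter (fun i : Fin (d+1) => c i ≠ 0) with hS
  have hSne : S.Nonempty := ⟨i', by simp [hS, hi']⟩
  set f : Fin (d+1) → L := fun i => c i • x ^ (i : ℕ) with hf
  have hvx : v x ≠ 0 := (Valuation.ne_zero_iff v).2 hx
  have hfne : ∀ i ∈ S, v (f i) ≠ 0 := by
    intro i hi
    have hci : c i ≠ 0 := (Finset.mem_filter.1 hi).2
    rw [hf]
    simp only [Algebra.smul_def, map_mul, map_pow]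
    refine mul_ne_zero ?_ (pow_ne_zero _ hvx)
    rw [Valuation.ne_zero_iff]
    simpa using hci
  have hsumS : ∑ i ∈ S, f i = 0 := by
    rw [← hsum, hS, Finset.sum_filter]
    refine Finset.sum_congr rfl fun i _ => ?_
    by_cases hci : c i = 0
    · simp [hci, hf]
    · simp [hci, hf]
  obtain ⟨i₀, hi₀S, hi₀⟩ := Finset.exists_max_image S (fun i => v (f i)) hSne
  have hex : ∃ i₁ ∈ S, i₁ ≠ i₀ ∧ v (f i₁) = v (f i₀) := by
    by_contra hcon
    push Not at hcon
    have hlt : ∀ i ∈ S \ {i₀}, v (f i) < v (f i₀) := by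
      intro i hi
      rw [Finset.mem_sdiff, Finset.mem_singleton] at hi
      exact lt_of_le_of_ne (hi₀ i hi.1) (hcon i hi.1 hi.2)
    have := Valuation.map_sum_eq_of_lt v hi₀S hlt
    rw [hsumS, map_zero] at this
    exact hfne i₀ hi₀S this.symm
  obtain ⟨i₁, hi₁S, hne, heq⟩ := hex
  -- wlog ordering
  have key : ∀ (lo hi : Fin (d+1)), lo ∈ S → hi ∈ S → (lo : ℕ) < hi → v (f lo) = v (f hi) →
      ∃ n : ℕ, 0 < n ∧ n ≤ d ∧ ∃ c : K, c ≠ 0 ∧ v x ^ n = v (algebraMap K L c) := by
    intro lo hi hlo hhi hlt heq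
    have hclo : c lo ≠ 0 := (Finset.mem_filter.1 hlo).2
    have hchi : c hi ≠ 0 := (Finset.mem_filter.1 hhi).2
    refine ⟨hi - lo, by omega, by omega, c lo / c hi, div_ne_zero hclo hchi, ?_⟩
    simp only [hf, Algebra.smul_def, map_mul, map_pow] at heq
    have h1 : (hi : ℕ) = (hi - lo) + lo := by omega
    rw [h1, pow_add, ← mul_assoc] at heq
    have h2 := mul_right_cancel₀ (pow_ne_zero _ hvx) heq
    have h3 : v (algebraMap K L (c hi)) ≠ 0 := by
      rw [Valuation.ne_zero_iff]; simpa using hchi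
    rw [map_div₀, map_div₀, eq_div_iff h3, mul_comm, ← h2]
  rcases lt_or_gt_of_ne (fun h => hne (Fin.ext h) : (i₁ : ℕ) ≠ i₀) with hlt | hlt
  · exact key i₁ i₀ hi₁S hi₀S hlt heq
  · exact key i₀ i₁ hi₀S hi₁S hlt heq.symm

end Val

section Basic
variable {A : Type u} [CommRing A] [IsLocalRing A] {F : Type u} [Field F] {g : A →+* F}
  {V : ValuationSubring F}

theorem dom_val_le_one (h : Dominates A g V) (a : A) : V.valuation (g a) ≤ 1 :=
  (V.valuation_le_one_iff _).2 (h.1 a)

theorem dom_val_eq_one_of_isUnit (h : Dominates A g V) {a : A} (ha : IsUnit a) :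
    V.valuation (g a) = 1 := by
  obtain ⟨u, rfl⟩ := ha
  have h1 := dom_val_le_one h (u : A)
  have h2 := dom_val_le_one h ((u⁻¹ : Aˣ) : A)
  have h3 : V.valuation (g u) * V.valuation (g ((u⁻¹ : Aˣ) : A)) = 1 := by
    rw [← map_mul, ← map_mul, Units.mul_inv, map_one, map_one]
  refine le_antisymm h1 ?_
  by_contra hlt
  push Not at hlt
  have : V.valuation (g u) * V.valuation (g ((u⁻¹ : Aˣ) : A)) < 1 := by
    calc _ ≤ V.valuation (g u) * 1 := mul_le_mul_right h2 _
      _ < 1 := by rwa [mul_one]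
  rw [h3] at this
  exact lt_irrefl _ this

theorem dom_val_lt_one_iff (h : Dominates A g V) (a : A) :
    V.valuation (g a) < 1 ↔ a ∈ maximalIdeal A := by
  constructor
  · intro hlt
    by_contra hna
    have : IsUnit a := by
      by_contra hu
      exact hna ((mem_maximalIdeal a).2 hu)
    rw [dom_val_eq_one_of_isUnit h this] at hlt
    exact lt_irrefl _ hlt
  · exact h.2 a

theorem dom_isLocalHom (h : Dominates A g V) :
    IsLocalHom (RingHom.codRestrict g V h.1) := by
  constructor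
  intro a ha
  by_contra hna
  have hm : a ∈ maximalIdeal A := (mem_maximalIdeal a).2 hna
  have h1 := h.2 a hm
  have h2 : V.valuation ((RingHom.codRestrict g V h.1 a : V) : F) = 1 :=
    (V.valuation_eq_one_iff _).1 ha
  rw [RingHom.codRestrict_apply] at h2  
  rw [h2] at h1
  exact lt_irrefl _ h1

end Basic

section DVR
variable {A : Type u} [CommRing A] [IsDomain A] [IsDiscreteValuationRing A] {K : Type u} [Field K]
  [Algebra A K] [IsFractionRing A K] {L : Type u} [Field L] [Algebra K L]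
  {g : A →+* L} (hg : ∀ a, g a = algebraMap K L (algebraMap A K a))
  {V : ValuationSubring L} (h : Dominates A g V)

include hg in
theorem g_ne_zero {a : A} (ha : a ≠ 0) : g a ≠ 0 := by
  rw [hg, Ne, map_eq_zero, map_eq_zero_iff _ (IsFractionRing.injective A K)]
  exact ha

include hg h in
theorem val_unif_lt_one {π : A} (hπ : Irreducible π) :
    V.valuation (g π) < 1 ∧ V.valuation (g π) ≠ 0 := by
  refine ⟨h.2 π ?_, (Valuation.ne_zero_iff _).2 (g_ne_zero hg hπ.ne_zero)⟩
  rw [mem_maximalIdeal]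
  exact hπ.not_isUnit

include h in
theorem val_eq_pow {π : A} (hπ : Irreducible π) {a : A} (ha : a ≠ 0) :
    ∃ n : ℕ, V.valuation (g a) = V.valuation (g π) ^ n := by
  obtain ⟨n, u, rfl⟩ := IsDiscreteValuationRing.eq_unit_mul_pow_irreducible ha hπ
  refine ⟨n, ?_⟩
  rw [map_mul, map_mul, dom_val_eq_one_of_isUnit h u.isUnit, one_mul, map_pow, map_pow]

include hg h in
theorem val_algebraMap_eq_zpow {π : A} (hπ : Irreducible π) {c : K} (hc : c ≠ 0) :
    ∃ m : ℤ, V.valuation (algebraMap K L c) = V.valuation (g π) ^ m := by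
  obtain ⟨a, b, hb, rfl⟩ := IsFractionRing.div_surjective (A := A) c
  have hb0 : b ≠ 0 := nonZeroDivisors.ne_zero hb
  have ha0 : a ≠ 0 := by
    rintro rfl
    simp at hc
  obtain ⟨n, hn⟩ := val_eq_pow h hπ ha0
  obtain ⟨m, hm⟩ := val_eq_pow h hπ hb0
  refine ⟨(n : ℤ) - m, ?_⟩
  rw [map_div₀, map_div₀, ← hg, ← hg, hn, hm, zpow_sub₀ (val_unif_lt_one hg h hπ).2, zpow_natCast,
    zpow_natCast]

include hg h in
/-- Structure of the value group: generated by the value of one element. -/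
theorem exists_val_generator [FiniteDimensional K L] :
    ∃ ϖ : L, ϖ ≠ 0 ∧ V.valuation ϖ < 1 ∧
      ∀ x : L, x ≠ 0 → ∃ q : ℤ, V.valuation x = V.valuation ϖ ^ q := by
  obtain ⟨π, hπ⟩ := IsDiscreteValuationRing.exists_irreducible A
  obtain ⟨hγ1, hγ0⟩ := val_unif_lt_one hg h hπ
  set γ := V.valuation (g π) with hγ
  set d := Module.finrank K L with hd
  set N := d.factorial with hN
  have hN0 : N ≠ 0 := Nat.factorial_ne_zero d
  have hstep : ∀ x : L, x ≠ 0 → ∃ m : ℤ, V.valuation x ^ N = γ ^ m := by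
    intro x hx
    obtain ⟨n, hn0, hnd, c, hc, hv⟩ := exists_pow_val_eq (K := K) V.valuation x hx
    obtain ⟨m, hm⟩ := val_algebraMap_eq_zpow hg h hπ hc
    obtain ⟨t, ht⟩ : n ∣ N := Nat.dvd_factorial hn0 hnd
    refine ⟨m * t, ?_⟩
    rw [ht, pow_mul, hv, hm, zpow_mul, zpow_natCast]
  -- the subgroup of exponents
  let S : AddSubgroup ℤ :=
    { carrier := {m | ∃ x : L, x ≠ 0 ∧ V.valuation x ^ N = γ ^ m}
      zero_mem' := ⟨1, one_ne_zero, by simp⟩
      add_mem' := by
        rintro m n ⟨x, hx, hxm⟩ ⟨y, hy, hyn⟩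
        exact ⟨x * y, mul_ne_zero hx hy, by rw [map_mul, mul_pow, hxm, hyn, zpow_add₀ hγ0]⟩
      neg_mem' := by
        rintro m ⟨x, hx, hxm⟩
        exact ⟨x⁻¹, inv_ne_zero hx, by rw [map_inv₀, inv_pow, hxm, zpow_neg]⟩ }
  have hNS : (N : ℤ) ∈ S := ⟨g π, g_ne_zero hg hπ.ne_zero, by rw [zpow_natCast]⟩
  -- least positive element
  have hex : ∃ f : ℕ, 0 < f ∧ (f : ℤ) ∈ S := ⟨N, Nat.pos_of_ne_zero hN0, hNS⟩
  classical
  set f := Nat.find hex with hf
  obtain ⟨hf0, hfS⟩ := Nat.find_spec hex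
  have hmin : ∀ m : ℤ, m ∈ S → (f : ℤ) ∣ m := by
    intro m hm
    have h1 : m % f ∈ S := by
      have : m % (f : ℤ) = m - (f : ℤ) * (m / f) := by
        have := Int.emod_add_mul_ediv m f
        omega
      rw [this]
      exact S.sub_mem hm (by
        have := S.zsmul_mem hfS (m / f)
        rwa [smul_eq_mul, mul_comm] at this)
    have h2 : 0 ≤ m % (f : ℤ) := Int.emod_nonneg _ (by exact_mod_cast hf0.ne')
    have h3 : m % (f : ℤ) < f := Int.emod_lt_of_pos _ (by exact_mod_cast hf0)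
    by_contra hnd
    have h4 : m % (f : ℤ) ≠ 0 := fun h0 => hnd (Int.dvd_of_emod_eq_zero h0)
    obtain ⟨r, hr⟩ := Int.eq_ofNat_of_zero_le h2
    have h5 : 0 < r ∧ (r : ℤ) ∈ S := ⟨by omega, hr ▸ h1⟩
    have := Nat.find_min' hex h5
    omega
  obtain ⟨ϖ, hϖ0, hϖ⟩ := hfS
  have hvϖ0 : V.valuation ϖ ≠ 0 := (Valuation.ne_zero_iff _).2 hϖ0
  have hvϖ1 : V.valuation ϖ < 1 := by
    by_contra hcon
    push Not at hcon
    have h1 : 1 ≤ V.valuation ϖ ^ N := one_le_pow₀ hcon
    rw [hϖ] at h1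
    exact absurd (zpow_lt_one_of_pos hγ0 hγ1 (by exact_mod_cast hf0 : (0 : ℤ) < f)) (not_lt.2 h1)
  refine ⟨ϖ, hϖ0, hvϖ1, fun x hx => ?_⟩
  obtain ⟨m, hm⟩ := hstep x hx
  obtain ⟨q, rfl⟩ := hmin m ⟨x, hx, hm⟩
  refine ⟨q, pow_inj_of_pos hN0 ?_⟩
  rw [hm, zpow_mul, ← hϖ, ← zpow_natCast, ← zpow_natCast, ← zpow_mul, ← zpow_mul, mul_comm]

end DVR

section DVRcrit
variable {L : Type u} [Field L] (V : ValuationSubring L)

/-- A valuation subring whose value group is generated by the value of one element `ϖ` with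
`v ϖ < 1` is a discrete valuation ring. -/
theorem isDVR_of_generator (ϖ : L) (hϖ0 : ϖ ≠ 0) (hϖ1 : V.valuation ϖ < 1)
    (hgen : ∀ x : L, x ≠ 0 → ∃ q : ℤ, V.valuation x = V.valuation ϖ ^ q) :
    IsDiscreteValuationRing V := by
  classical
  have hv0 : V.valuation ϖ ≠ 0 := (Valuation.ne_zero_iff _).2 hϖ0
  have hnat : ∀ y : V, y ≠ 0 → ∃ q : ℕ, V.valuation (y : L) = V.valuation ϖ ^ q := by
    intro y hy
    have hy' : (y : L) ≠ 0 := fun h0 => hy (Subtype.ext h0)
    obtain ⟨q, hq⟩ := hgen y hy'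
    have hle : V.valuation (y : L) ≤ 1 := (V.valuation_le_one_iff _).2 y.2
    have hq0 : 0 ≤ q := by
      by_contra hneg
      push Not at hneg
      have := one_lt_zpow_of_neg hv0 hϖ1 hneg
      rw [← hq] at this
      exact absurd hle (not_le.2 this)
    obtain ⟨n, rfl⟩ := Int.eq_ofNat_of_zero_le hq0
    exact ⟨n, by rw [hq, zpow_natCast]⟩
  have hpid : IsPrincipalIdealRing V := by
    constructor
    intro I
    by_cases hI : I = ⊥
    · rw [hI]; exact bot_isPrincipal
    have hex : ∃ q : ℕ, ∃ y ∈ I, y ≠ 0 ∧ V.valuation (y : L) = V.valuation ϖ ^ q := by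
      obtain ⟨y, hyI, hy0⟩ := Submodule.exists_mem_ne_zero_of_ne_bot hI
      obtain ⟨q, hq⟩ := hnat y hy0
      exact ⟨q, y, hyI, hy0, hq⟩
    obtain ⟨x, hxI, hx0, hxv⟩ := Nat.find_spec hex
    refine ⟨x, le_antisymm ?_ ?_⟩
    · intro y hyI
      by_cases hy0 : y = 0
      · rw [hy0]; exact Submodule.zero_mem _
      obtain ⟨q, hq⟩ := hnat y hy0
      have hnq : Nat.find hex ≤ q := Nat.find_min' hex ⟨y, hyI, hy0, hq⟩
      have hle : V.valuation (y : L) ≤ V.valuation (x : L) := by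
        rw [hq, hxv]
        exact pow_le_pow_of_le_one zero_le hϖ1.le hnq
      have hx0' : (x : L) ≠ 0 := fun h0 => hx0 (Subtype.ext h0)
      have hmem : (y : L) / x ∈ V := by
        rw [← V.valuation_le_one_iff, map_div₀]
        exact div_le_one_of_le₀ hle zero_le
      rw [Submodule.mem_span_singleton]
      refine ⟨⟨(y : L) / x, hmem⟩, Subtype.ext ?_⟩
      simp only [smul_eq_mul, MulMemClass.coe_mul]
      field_simp
    · rw [Submodule.span_le]
      intro y hy
      rw [Set.mem_singleton_iff] at hy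
      rw [hy]; exact hxI
  have hϖV : ϖ ∈ V := (V.valuation_le_one_iff _).1 hϖ1.le
  refine { toIsPrincipalIdealRing := hpid, toIsLocalRing := inferInstance, not_a_field' := ?_ }
  intro hbot
  have hmem : (⟨ϖ, hϖV⟩ : V) ∈ maximalIdeal V := by
    rw [mem_maximalIdeal, mem_nonunits_iff, V.valuation_eq_one_iff]
    exact ne_of_lt hϖ1
  rw [hbot, Ideal.mem_bot] at hmem
  exact hϖ0 (congrArg Subtype.val hmem)

end DVRcrit

section Main
variable {A : Type u} [CommRing A] [IsDomain A] [IsDiscreteValuationRing A] {K : Type u} [Field K]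
  [Algebra A K] [IsFractionRing A K] {L : Type u} [Field L] [Algebra K L] [FiniteDimensional K L]
  {g : A →+* L} (hg : ∀ a, g a = algebraMap K L (algebraMap A K a))
  {V : ValuationSubring L} (h : Dominates A g V)

include hg h in
/-- A valuation subring of a finite extension of `Frac A` dominating the DVR `A` is a DVR. -/
theorem isDVR_of_dominates : IsDiscreteValuationRing V := by
  obtain ⟨ϖ, h0, h1, hgen⟩ := exists_val_generator hg h
  exact isDVR_of_generator V ϖ h0 h1 hgen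

end Main

end Groth.Agent.Helper9.EtRamLib
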