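import Mathlib
import Groth.Prelude.Def_EtRam
import Groth.Agent.Lib.Helper9.EtRam.Dom1
import Groth.Agent.Lib.Helper5.Misc.DVRRam

set_option autoImplicit false

namespace Groth.Agent.Helper9.EtRamLib
open IsLocalRing EtRam

universe u

section ValSub
variable {L M : Type u} [Field L] [Field M]

theorem val_lt_one_iff (V : ValuationSubring L) (x : L) :
    V.valuation x < 1 ↔ x = 0 ∨ x⁻¹ ∉ V := by
  by_cases hx : x = 0
  · simp [hx]
  · simp only [hx, false_or]
    rw [← V.valuation_le_one_iff, map_inv₀, not_le, one_lt_inv₀]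
    exact zero_lt_iff.2 ((Valuation.ne_zero_iff _).2 hx)

theorem val_comap_lt_one_iff (W : ValuationSubring M) (f : L →+* M) (x : L) :
    (W.comap f).valuation x < 1 ↔ W.valuation (f x) < 1 := by
  rw [val_lt_one_iff, val_lt_one_iff, ValuationSubring.mem_comap, map_inv₀, map_eq_zero]

end ValSub

section Trans
variable {A : Type u} [CommRing A] [IsLocalRing A] {L M : Type u} [Field L] [Field M]
  {g : A →+* L} {f : L →+* M}

theorem dom_comap {W : ValuationSubring M} (h : Dominates A (f.comp g) W) :
    Dominates A g (W.comap f) :=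
  ⟨fun a => h.1 a, fun a ha => (val_comap_lt_one_iff W f (g a)).2 (h.2 a ha)⟩

theorem dom_trans {V : ValuationSubring L} {W : ValuationSubring M} (h : Dominates A g V)
    (h' : Dominates V (f.comp V.subtype) W) : Dominates A (f.comp g) W := by
  refine ⟨fun a => h'.1 ⟨g a, h.1 a⟩, fun a ha => ?_⟩
  have h1 : (⟨g a, h.1 a⟩ : V) ∈ maximalIdeal V := by
    rw [ValuationSubring.valuation_lt_one_iff]
    exact h.2 a ha
  exact h'.2 _ h1

theorem dom_self_comap (W : ValuationSubring M) (f : L →+* M) :
    Dominates (W.comap f) (f.comp (W.comap f).subtype) W := by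
  refine ⟨fun a => a.2, fun a ha => ?_⟩
  rw [ValuationSubring.valuation_lt_one_iff] at ha
  exact (val_comap_lt_one_iff W f a).1 ha

theorem exists_dom_ext (V : ValuationSubring L) (f : L →+* M) :
    ∃ W : ValuationSubring M, Dominates V (f.comp V.subtype) W := by
  obtain ⟨W, hW, hloc⟩ := IsLocalRing.exists_factor_valuationRing (f.comp V.subtype)
  refine ⟨W, hW, fun a ha => ?_⟩
  by_contra hcon
  push Not at hcon
  have h1 : W.valuation ((f.comp V.subtype) a) = 1 :=
    le_antisymm ((W.valuation_le_one_iff _).2 (hW a)) hcon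
  have h2 : IsUnit ((f.comp V.subtype).codRestrict W.toSubring hW a) := by
    have := (W.valuation_eq_one_iff ⟨(f.comp V.subtype) a, hW a⟩).2 h1
    exact this
  have h3 := hloc.map_nonunit a h2
  exact ha h3

theorem comap_eq_of_dom {V : ValuationSubring L} {W : ValuationSubring M}
    (h : Dominates V (f.comp V.subtype) W) : W.comap f = V := by
  apply le_antisymm
  · intro x hx
    by_contra hxV
    have hx0 : x ≠ 0 := fun h0 => hxV (h0 ▸ V.zero_mem)
    have hinv : x⁻¹ ∈ V := (V.mem_or_inv_mem x).resolve_left hxV
    have hm : (⟨x⁻¹, hinv⟩ : V) ∈ maximalIdeal V := by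
      rw [ValuationSubring.valuation_lt_one_iff, val_lt_one_iff]
      right
      simpa using hxV
    have := h.2 _ hm
    rw [val_lt_one_iff] at this
    rcases this with h0 | h1
    · simp at h0
      exact hx0 h0
    · apply h1
      simp only [RingHom.coe_comp, Function.comp_apply, ValuationSubring.subtype_apply, map_inv₀, inv_inv]
      exact hx
  · intro x hx
    exact h.1 ⟨x, hx⟩

end Trans

section DVRExt
variable (A B : Type u) [CommRing A] [IsDomain A] [IsDiscreteValuationRing A]
  [CommRing B] [IsDomain B] [IsDiscreteValuationRing B] [Algebra A B]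
  [IsLocalHom (algebraMap A B)]

theorem map_maximalIdeal_eq_pow (hinj : Function.Injective (algebraMap A B)) :
    (maximalIdeal A).map (algebraMap A B) =
      maximalIdeal B ^ Ideal.ramificationIdx' (maximalIdeal A) (maximalIdeal B) := by
  obtain ⟨ϖA, ϖB, w0, hA, hB, h, hpos⟩ := Groth.Agent.Helper5.DVRRam.exists_uniformizers A B hinj
  set e := Ideal.ramificationIdx' (maximalIdeal A) (maximalIdeal B) with he
  rw [hA.maximalIdeal_eq, hB.maximalIdeal_eq, Ideal.map_span, Set.image_singleton,
    Ideal.span_singleton_pow, h]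
  rw [Ideal.span_singleton_eq_span_singleton]
  exact associated_unit_mul_left _ _ w0.isUnit

theorem ramificationIdx_pos (hinj : Function.Injective (algebraMap A B)) :
    0 < Ideal.ramificationIdx' (maximalIdeal A) (maximalIdeal B) := by
  obtain ⟨ϖA, ϖB, w0, hA, hB, h, hpos⟩ := Groth.Agent.Helper5.DVRRam.exists_uniformizers A B hinj
  exact hpos

theorem isWeaklyUnramified_iff (hinj : Function.Injective (algebraMap A B)) :
    IsWeaklyUnramified A B ↔ Ideal.ramificationIdx' (maximalIdeal A) (maximalIdeal B) = 1 := by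
  unfold IsWeaklyUnramified
  rw [map_maximalIdeal_eq_pow A B hinj]
  constructor
  · intro h
    obtain ⟨ϖB, hB⟩ := IsDiscreteValuationRing.exists_irreducible B
    have hpos := ramificationIdx_pos A B hinj
    set e := Ideal.ramificationIdx' (maximalIdeal A) (maximalIdeal B)
    rw [hB.maximalIdeal_eq, Ideal.span_singleton_pow, Ideal.span_singleton_eq_span_singleton] at h
    have h2 : Associated (ϖB ^ e) (ϖB ^ 1) := by rwa [pow_one]
    obtain ⟨u, hu⟩ := h2
    have := IsDiscreteValuationRing.unit_mul_pow_congr_pow hB hB u 1 e 1 (by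
      rw [Units.val_one, one_mul, ← hu, mul_comm])
    exact this
  · intro h
    rw [h, pow_one]

end DVRExt

section Tower
variable (A B C : Type u) [CommRing A] [IsDomain A] [IsDiscreteValuationRing A]
  [CommRing B] [IsDomain B] [IsDiscreteValuationRing B] [Algebra A B]
  [CommRing C] [IsDomain C] [IsDiscreteValuationRing C] [Algebra B C] [Algebra A C]
  [IsScalarTower A B C]

theorem ramificationIdx_tower [IsLocalHom (algebraMap A B)] [IsLocalHom (algebraMap B C)]
    (hAB : Function.Injective (algebraMap A B)) (hBC : Function.Injective (algebraMap B C)) :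
    Ideal.ramificationIdx' (maximalIdeal A) (maximalIdeal C) =
      Ideal.ramificationIdx' (maximalIdeal A) (maximalIdeal B) *
        Ideal.ramificationIdx' (maximalIdeal B) (maximalIdeal C) := by
  have hmB : maximalIdeal B ≠ ⊥ := IsDiscreteValuationRing.not_a_field B
  have hmA : maximalIdeal A ≠ ⊥ := IsDiscreteValuationRing.not_a_field A
  have hAC : Function.Injective (algebraMap A C) := by
    rw [IsScalarTower.algebraMap_eq A B C]
    exact hBC.comp hAB
  refine Ideal.ramificationIdx'_algebra_tower ?_ ?_ ?_
  · exact (Ideal.map_eq_bot_iff_of_injective hBC).not.2 hmB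
  · exact (Ideal.map_eq_bot_iff_of_injective hAC).not.2 hmA
  · exact ((local_hom_TFAE (algebraMap B C)).out 0 2).1 ‹_›

end Tower

end Groth.Agent.Helper9.EtRamLib
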