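import Mathlib
import Groth.Prelude.Def_EtRam
import Groth.Agent.Lib.Helper9.EtRam.Dom2

set_option autoImplicit false

namespace Groth.Agent.Helper9.EtRamLib
open IsLocalRing EtRam

universe u

section TowerPkg
variable {A : Type u} [CommRing A] [IsDomain A] [IsDiscreteValuationRing A]
  {L M : Type u} [Field L] [Field M] {g : A →+* L} {f : L →+* M} {gM : A →+* M}
  {V : ValuationSubring L} {W : ValuationSubring M}

theorem codRestrict_injective {R : Type u} [CommRing R] {g : R →+* L} (hinj : Function.Injective g)
    (hV : ∀ a, g a ∈ V) : Function.Injective (RingHom.codRestrict g V hV) := by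
  intro a b hab
  apply hinj
  exact congrArg Subtype.val hab

/-- multiplicativity of the ramification index in a tower `A → V → W`. -/
theorem tower_ram (hgM : gM = f.comp g) (hinj : Function.Injective g)
    (hV : Dominates A g V) (hVW : Dominates V (f.comp V.subtype) W) (hW : Dominates A gM W)
    [IsDiscreteValuationRing V] [IsDiscreteValuationRing W] :
    letI : Algebra A V := (RingHom.codRestrict g V hV.1).toAlgebra
    letI : Algebra A W := (RingHom.codRestrict gM W hW.1).toAlgebra
    letI : Algebra V W := (RingHom.codRestrict (f.comp V.subtype) W hVW.1).toAlgebra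
    Ideal.ramificationIdx' (maximalIdeal A) (maximalIdeal W) =
      Ideal.ramificationIdx' (maximalIdeal A) (maximalIdeal V) *
      Ideal.ramificationIdx' (maximalIdeal V) (maximalIdeal W) := by
  subst hgM
  letI : Algebra A V := (RingHom.codRestrict g V hV.1).toAlgebra
  letI : Algebra A W := (RingHom.codRestrict (f.comp g) W hW.1).toAlgebra
  letI : Algebra V W := (RingHom.codRestrict (f.comp V.subtype) W hVW.1).toAlgebra
  haveI : IsScalarTower A V W := IsScalarTower.of_algebraMap_eq (fun a => rfl)
  haveI : IsLocalHom (algebraMap A V) := dom_isLocalHom hV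
  haveI : IsLocalHom (algebraMap V W) := dom_isLocalHom hVW
  have h1 : Function.Injective (algebraMap A V) := codRestrict_injective hinj hV.1
  have h2 : Function.Injective (algebraMap V W) :=
    codRestrict_injective (g := f.comp V.subtype)
      (fun a b hab => Subtype.ext (f.injective hab)) hVW.1
  exact ramificationIdx_tower A V W h1 h2

end TowerPkg

section ResTower
variable {A : Type u} [CommRing A] [IsLocalRing A]
  {L M : Type u} [Field L] [Field M] {g : A →+* L} {f : L →+* M} {gM : A →+* M}
  {V : ValuationSubring L} {W : ValuationSubring M}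

theorem tower_sep_bot (hgM : gM = f.comp g)
    (hV : Dominates A g V) (hVW : Dominates V (f.comp V.subtype) W) (hW : Dominates A gM W) :
    letI : Algebra A V := (RingHom.codRestrict g V hV.1).toAlgebra
    letI : Algebra A W := (RingHom.codRestrict gM W hW.1).toAlgebra
    ∀ [IsLocalHom (algebraMap A V)] [IsLocalHom (algebraMap A W)],
      Algebra.IsSeparable (ResidueField A) (ResidueField W) →
      Algebra.IsSeparable (ResidueField A) (ResidueField V) := by
  subst hgM
  letI : Algebra A V := (RingHom.codRestrict g V hV.1).toAlgebra
  letI : Algebra A W := (RingHom.codRestrict (f.comp g) W hW.1).toAlgebra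
  letI : Algebra V W := (RingHom.codRestrict (f.comp V.subtype) W hVW.1).toAlgebra
  intro i1 i2 hsep
  haveI : IsScalarTower A V W := IsScalarTower.of_algebraMap_eq (fun a => rfl)
  haveI : IsLocalHom (algebraMap V W) := dom_isLocalHom hVW
  exact Algebra.isSeparable_tower_bot_of_isSeparable (ResidueField A) (ResidueField V) (ResidueField W)

theorem tower_sep_trans (hgM : gM = f.comp g)
    (hV : Dominates A g V) (hVW : Dominates V (f.comp V.subtype) W) (hW : Dominates A gM W) :
    letI : Algebra A V := (RingHom.codRestrict g V hV.1).toAlgebra
    letI : Algebra A W := (RingHom.codRestrict gM W hW.1).toAlgebra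
    letI : Algebra V W := (RingHom.codRestrict (f.comp V.subtype) W hVW.1).toAlgebra
    ∀ [IsLocalHom (algebraMap A V)] [IsLocalHom (algebraMap A W)] [IsLocalHom (algebraMap V W)],
      Algebra.IsSeparable (ResidueField A) (ResidueField V) →
      Algebra.IsSeparable (ResidueField V) (ResidueField W) →
      Algebra.IsSeparable (ResidueField A) (ResidueField W) := by
  subst hgM
  letI : Algebra A V := (RingHom.codRestrict g V hV.1).toAlgebra
  letI : Algebra A W := (RingHom.codRestrict (f.comp g) W hW.1).toAlgebra
  letI : Algebra V W := (RingHom.codRestrict (f.comp V.subtype) W hVW.1).toAlgebra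
  intro i1 i2 i3 hsep1 hsep2
  haveI : IsScalarTower A V W := IsScalarTower.of_algebraMap_eq (fun a => rfl)
  exact Algebra.IsSeparable.trans (ResidueField A) (ResidueField V) (ResidueField W)

theorem tower_charP (hV : Dominates A g V) (p : ℕ) :
    letI : Algebra A V := (RingHom.codRestrict g V hV.1).toAlgebra
    ∀ [IsLocalHom (algebraMap A V)], CharP (ResidueField A) p → CharP (ResidueField V) p := by
  letI : Algebra A V := (RingHom.codRestrict g V hV.1).toAlgebra
  intro i1 hp
  exact charP_of_injective_algebraMap (algebraMap (ResidueField A) (ResidueField V)).injective p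

end ResTower

end Groth.Agent.Helper9.EtRamLib
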