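import Mathlib
import Groth.Prelude.Def_EtRam
import Groth.Agent.Lib.Helper9.EtRam.Dom3

set_option autoImplicit false
set_option linter.style.haveILetI false

namespace Groth.Agent.Helper9.EtRamLib
open IsLocalRing EtRam

universe u

/-- von Neumann regularity -/
def IsVNR (R : Type*) [CommRing R] : Prop := ∀ x : R, ∃ y : R, x = x * x * y

theorem isVNR_of_reduced_artinian (R : Type*) [CommRing R] [IsArtinianRing R] [IsReduced R] :
    IsVNR R := by
  classical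
  intro x
  let e := IsArtinianRing.equivPi R
  letI : ∀ I : MaximalSpectrum R, Field (R ⧸ I.asIdeal) := fun I => Ideal.Quotient.field I.asIdeal
  let y' : ∀ I : MaximalSpectrum R, R ⧸ I.asIdeal := fun I => (e x I)⁻¹
  refine ⟨e.symm y', ?_⟩
  apply e.injective
  rw [map_mul, map_mul, AlgEquiv.apply_symm_apply]
  funext I
  simp only [Pi.mul_apply, y']
  by_cases h : e x I = 0
  · simp [h]
  · field_simp

theorem IsVNR.of_surjective {R S : Type*} [CommRing R] [CommRing S] (f : R →+* S)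
    (hf : Function.Surjective f) (h : IsVNR R) : IsVNR S := by
  intro x
  obtain ⟨r, rfl⟩ := hf x
  obtain ⟨y, hy⟩ := h r
  exact ⟨f y, by rw [← map_mul, ← map_mul, ← hy]⟩

section LemmaU
open TensorProduct
variable {A B₁ B₂ : Type u} [CommRing A] [IsDomain A] [IsDiscreteValuationRing A]
  [CommRing B₁] [IsDomain B₁] [IsDiscreteValuationRing B₁] [Algebra A B₁]
  [IsLocalHom (algebraMap A B₁)]
  [CommRing B₂] [IsDomain B₂] [IsDiscreteValuationRing B₂] [Algebra A B₂]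
  [IsLocalHom (algebraMap A B₂)]
  {F : Type u} [Field F]

/-- the subring generated by both images -/
def genRing (g₁ : B₁ →+* F) (g₂ : B₂ →+* F) : Subring F :=
  Subring.closure (Set.range g₁ ∪ Set.range g₂)

variable {g₁ : B₁ →+* F} {g₂ : B₂ →+* F}

theorem g₁_mem (b : B₁) : g₁ b ∈ genRing g₁ g₂ := Subring.subset_closure (Or.inl ⟨b, rfl⟩)
theorem g₂_mem (b : B₂) : g₂ b ∈ genRing g₁ g₂ := Subring.subset_closure (Or.inr ⟨b, rfl⟩)

theorem quotient_isVNR (hcompat : g₁.comp (algebraMap A B₁) = g₂.comp (algebraMap A B₂))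
    (hwu : IsWeaklyUnramified A B₁)
    (hVNR : IsVNR (ResidueField B₁ ⊗[ResidueField A] ResidueField B₂))
    {ϖ₂ : B₂} (hϖ₂ : Irreducible ϖ₂) :
    IsVNR (genRing g₁ g₂ ⧸ Ideal.span {(⟨g₂ ϖ₂, g₂_mem ϖ₂⟩ : genRing g₁ g₂)}) := by
  set R := genRing g₁ g₂ with hR
  set p : R := ⟨g₂ ϖ₂, g₂_mem ϖ₂⟩ with hp
  set C := R ⧸ Ideal.span {p} with hC
  let q : R →+* C := Ideal.Quotient.mk _
  let g₁' : B₁ →+* R := RingHom.codRestrict g₁ R (fun b => g₁_mem b)
  let g₂' : B₂ →+* R := RingHom.codRestrict g₂ R (fun b => g₂_mem b)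
  let ψ₁ : B₁ →+* C := q.comp g₁'
  let ψ₂ : B₂ →+* C := q.comp g₂'
  have hψ₂ : ∀ b ∈ maximalIdeal B₂, ψ₂ b = 0 := by
    intro b hb
    rw [hϖ₂.maximalIdeal_eq, Ideal.mem_span_singleton] at hb
    obtain ⟨c, rfl⟩ := hb
    have : g₂' (ϖ₂ * c) = p * g₂' c := by
      apply Subtype.ext
      simp [g₂', hp]
    show q (g₂' (ϖ₂ * c)) = 0
    rw [this, map_mul]
    have : q p = 0 := Ideal.Quotient.eq_zero_iff_mem.2 (Ideal.mem_span_singleton_self p)
    rw [this, zero_mul]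
  have hcomm : ∀ a : A, ψ₁ (algebraMap A B₁ a) = ψ₂ (algebraMap A B₂ a) := by
    intro a
    show q (g₁' _) = q (g₂' _)
    congr 1
    apply Subtype.ext
    exact RingHom.congr_fun hcompat a
  have hψ₁ : ∀ b ∈ maximalIdeal B₁, ψ₁ b = 0 := by
    intro b hb
    rw [← hwu] at hb
    have hle : (maximalIdeal A).map (algebraMap A B₁) ≤ RingHom.ker ψ₁ := by
      rw [Ideal.map_le_iff_le_comap]
      intro a ha
      rw [Ideal.mem_comap, RingHom.mem_ker, hcomm]
      apply hψ₂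
      have h3 : maximalIdeal A ≤ (maximalIdeal B₂).comap (algebraMap A B₂) :=
        ((local_hom_TFAE (algebraMap A B₂)).out 0 3).1 (inferInstance : IsLocalHom (algebraMap A B₂))
      exact h3 ha
    exact hle hb
  let ψb₁ : ResidueField B₁ →+* C := Ideal.Quotient.lift (maximalIdeal B₁) ψ₁ hψ₁
  let ψb₂ : ResidueField B₂ →+* C := Ideal.Quotient.lift (maximalIdeal B₂) ψ₂ hψ₂
  letI : Algebra (ResidueField A) C :=
    (ψb₁.comp (algebraMap (ResidueField A) (ResidueField B₁))).toAlgebra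
  let φ₁ : ResidueField B₁ →ₐ[ResidueField A] C := { ψb₁ with commutes' := fun r => rfl }
  let φ₂ : ResidueField B₂ →ₐ[ResidueField A] C :=
    { ψb₂ with
      commutes' := fun r => by
        obtain ⟨a, rfl⟩ := residue_surjective r
        show ψb₂ (algebraMap (ResidueField A) (ResidueField B₂) (residue A a)) =
          ψb₁ (algebraMap (ResidueField A) (ResidueField B₁) (residue A a))
        rw [ResidueField.algebraMap_residue, ResidueField.algebraMap_residue]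
        exact (hcomm a).symm }
  let Φ := Algebra.TensorProduct.productMap φ₁ φ₂
  refine IsVNR.of_surjective Φ.toRingHom ?_ hVNR
  intro c
  obtain ⟨r, rfl⟩ := Ideal.Quotient.mk_surjective c
  obtain ⟨r, hr⟩ := r
  induction hr using Subring.closure_induction with
  | mem x hx =>
    rcases hx with ⟨b, rfl⟩ | ⟨b, rfl⟩
    · exact ⟨residue B₁ b ⊗ₜ 1, by simp [Φ, φ₁, ψb₁]; rfl⟩
    · exact ⟨1 ⊗ₜ residue B₂ b, by simp [Φ, φ₂, ψb₂]; rfl⟩
  | zero => exact ⟨0, by simp; rfl⟩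
  | one => exact ⟨1, by simp; rfl⟩
  | add x y hx hy ihx ihy =>
    obtain ⟨a, ha⟩ := ihx
    obtain ⟨b, hb⟩ := ihy
    refine ⟨a + b, ?_⟩
    rw [map_add, ha, hb]
    rfl
  | neg x hx ihx =>
    obtain ⟨a, ha⟩ := ihx
    refine ⟨-a, ?_⟩
    rw [map_neg, ha]
    rfl
  | mul x y hx hy ihx ihy =>
    obtain ⟨a, ha⟩ := ihx
    obtain ⟨b, hb⟩ := ihy
    refine ⟨a * b, ?_⟩
    rw [map_mul, ha, hb]
    rfl


variable {W : ValuationSubring F}

theorem genRing_le (h₁ : Dominates B₁ g₁ W) (h₂ : Dominates B₂ g₂ W) :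
    genRing g₁ g₂ ≤ W.toSubring := by
  refine Subring.closure_le.2 ?_
  rintro x (⟨b, rfl⟩ | ⟨b, rfl⟩)
  · exact h₁.1 b
  · exact h₂.1 b

theorem genRing_val_le (h₁ : Dominates B₁ g₁ W) (h₂ : Dominates B₂ g₂ W) {r : F}
    (hr : r ∈ genRing g₁ g₂) : W.valuation r ≤ 1 :=
  (W.valuation_le_one_iff _).2 (genRing_le h₁ h₂ hr)

section Star
variable (hcompat : g₁.comp (algebraMap A B₁) = g₂.comp (algebraMap A B₂))
    (hwu : IsWeaklyUnramified A B₁)
    (hVNR : IsVNR (ResidueField B₁ ⊗[ResidueField A] ResidueField B₂))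
    (h₁ : Dominates B₁ g₁ W) (h₂ : Dominates B₂ g₂ W)
    {ϖ₂ : B₂} (hϖ₂ : Irreducible ϖ₂)

include hcompat hwu hVNR h₁ h₂ hϖ₂

omit h₁ h₂ in
/-- for any element of the generated ring there is a "quasi-inverse" -/
theorem exists_quasi_inv {r : F} (hr : r ∈ genRing g₁ g₂) :
    ∃ y ∈ genRing g₁ g₂, ∃ c ∈ genRing g₁ g₂, r - r * r * y = g₂ ϖ₂ * c := by
  obtain ⟨y, hy⟩ := quotient_isVNR hcompat hwu hVNR hϖ₂ (Ideal.Quotient.mk _ ⟨r, hr⟩)
  obtain ⟨⟨y', hy'⟩, rfl⟩ := Ideal.Quotient.mk_surjective y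
  rw [← map_mul, ← map_mul, Ideal.Quotient.eq, Ideal.mem_span_singleton] at hy
  obtain ⟨⟨c, hc⟩, hcc⟩ := hy
  refine ⟨y', hy', c, hc, ?_⟩
  have := congrArg Subtype.val hcc
  simpa using this

theorem star {r : F} (hr : r ∈ genRing g₁ g₂) (hlt : W.valuation r < 1) :
    ∃ s ∈ genRing g₁ g₂, ∃ r' ∈ genRing g₁ g₂, W.valuation s = 1 ∧ s * r = g₂ ϖ₂ * r' := by
  obtain ⟨y, hy, c, hc, h⟩ := exists_quasi_inv hcompat hwu hVNR hϖ₂ hr
  refine ⟨1 - r * y, Subring.sub_mem _ (Subring.one_mem _) (Subring.mul_mem _ hr hy), c, hc, ?_, ?_⟩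
  · apply Valuation.map_one_sub_of_lt
    rw [map_mul]
    calc W.valuation r * W.valuation y ≤ W.valuation r * 1 :=
          mul_le_mul_right (genRing_val_le h₁ h₂ hy) _
      _ < 1 := by rwa [mul_one]
  · rw [← h]; ring

theorem exists_inv_mod {z : F} (hz : z ∈ genRing g₁ g₂) (hz1 : W.valuation z = 1) :
    ∃ u ∈ genRing g₁ g₂, W.valuation (1 - z * u) < 1 := by
  obtain ⟨y, hy, c, hc, h⟩ := exists_quasi_inv hcompat hwu hVNR hϖ₂ hz
  refine ⟨y, hy, ?_⟩
  have h1 : z * (1 - z * y) = g₂ ϖ₂ * c := by rw [← h]; ring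
  have h2 := congrArg W.valuation h1
  rw [map_mul, map_mul, hz1, one_mul] at h2
  rw [h2]
  have hp : W.valuation (g₂ ϖ₂) < 1 := h₂.2 _ (by
    rw [mem_maximalIdeal]; exact hϖ₂.not_isUnit)
  calc W.valuation (g₂ ϖ₂) * W.valuation c ≤ W.valuation (g₂ ϖ₂) * 1 :=
        mul_le_mul_right (genRing_val_le h₁ h₂ hc) _
    _ < 1 := by rwa [mul_one]

theorem star_pow (hinj₂ : Function.Injective g₂) (n : ℕ) : ∀ {r : F}, r ∈ genRing g₁ g₂ →
    W.valuation r ≤ W.valuation (g₂ ϖ₂) ^ n →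
    ∃ t ∈ genRing g₁ g₂, ∃ r' ∈ genRing g₁ g₂, W.valuation t = 1 ∧ t * r = g₂ ϖ₂ ^ n * r' := by
  have hp : W.valuation (g₂ ϖ₂) < 1 := h₂.2 _ (by
    rw [mem_maximalIdeal]; exact hϖ₂.not_isUnit)
  have hp0 : W.valuation (g₂ ϖ₂) ≠ 0 := by
    rw [Valuation.ne_zero_iff, Ne, map_eq_zero_iff _ hinj₂]
    exact hϖ₂.ne_zero
  induction n with
  | zero =>
    intro r hr _
    exact ⟨1, Subring.one_mem _, r, hr, map_one _, by simp⟩
  | succ n ih =>
    intro r hr hle
    have hle' : W.valuation r ≤ W.valuation (g₂ ϖ₂) ^ n :=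
      hle.trans (pow_le_pow_of_le_one zero_le hp.le (Nat.le_succ n))
    obtain ⟨t, ht, r', hr', ht1, hrel⟩ := ih hr hle'
    have hv : W.valuation r' < 1 := by
      have h2 := congrArg W.valuation hrel
      rw [map_mul, map_mul, ht1, one_mul, map_pow] at h2
      rw [h2, pow_succ] at hle
      have := le_of_mul_le_mul_left hle (zero_lt_iff.2 (pow_ne_zero n hp0))
      exact lt_of_le_of_lt this hp
    obtain ⟨s, hs, r'', hr'', hs1, hrel'⟩ := star hcompat hwu hVNR h₁ h₂ hϖ₂ hr' hv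
    refine ⟨s * t, Subring.mul_mem _ hs ht, r'', hr'', by rw [map_mul, hs1, ht1, one_mul], ?_⟩
    rw [mul_assoc, hrel, ← mul_assoc, mul_comm s, mul_assoc, hrel', pow_succ]
    ring

theorem val_mem_pow [IsDiscreteValuationRing W] (hinj₂ : Function.Injective g₂) :
    ∀ {r : F}, r ∈ genRing g₁ g₂ → r ≠ 0 →
      ∃ n : ℕ, W.valuation r = W.valuation (g₂ ϖ₂) ^ n := by
  have hp : W.valuation (g₂ ϖ₂) < 1 := h₂.2 _ (by
    rw [mem_maximalIdeal]; exact hϖ₂.not_isUnit)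
  have hp0' : g₂ ϖ₂ ≠ 0 := by
    rw [Ne, map_eq_zero_iff _ hinj₂]
    exact hϖ₂.ne_zero
  have hp0 : W.valuation (g₂ ϖ₂) ≠ 0 := (Valuation.ne_zero_iff _).2 hp0'
  obtain ⟨ϖW, hϖW⟩ := IsDiscreteValuationRing.exists_irreducible W
  set ω := W.valuation (ϖW : F) with hω
  have hω1 : ω < 1 := by
    rw [hω, ← ValuationSubring.valuation_lt_one_iff, mem_maximalIdeal]
    exact hϖW.not_isUnit
  have hω0 : ω ≠ 0 := by
    rw [hω, Valuation.ne_zero_iff]
    intro h0
    exact hϖW.ne_zero (Subtype.ext h0)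
  have hWval : ∀ w : F, w ∈ W → w ≠ 0 → ∃ k : ℕ, W.valuation w = ω ^ k := by
    intro w hw hw0
    have hw0' : (⟨w, hw⟩ : W) ≠ 0 := fun h0 => hw0 (congrArg Subtype.val h0)
    obtain ⟨k, u, hu⟩ := IsDiscreteValuationRing.eq_unit_mul_pow_irreducible hw0' hϖW
    refine ⟨k, ?_⟩
    have h1 := congrArg Subtype.val hu
    simp only [MulMemClass.coe_mul, SubmonoidClass.coe_pow] at h1
    rw [h1, map_mul, map_pow, (W.valuation_eq_one_iff _).1 u.isUnit, one_mul]
  obtain ⟨e, he⟩ := hWval _ (h₂.1 ϖ₂) hp0'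
  have hωinj : ∀ a b : ℕ, ω ^ a = ω ^ b → a = b := by
    intro a b hab
    have := zpow_inj_of_lt_one hω0 hω1 (m := a) (n := b) (by simpa using hab)
    exact_mod_cast this
  have he1 : 1 ≤ e := by
    by_contra hcon
    have : e = 0 := by omega
    rw [this, pow_zero] at he
    rw [he] at hp
    exact lt_irrefl _ hp
  have key : ∀ k : ℕ, ∀ r : F, r ∈ genRing g₁ g₂ → r ≠ 0 → W.valuation r = ω ^ k →
      ∃ n : ℕ, W.valuation r = W.valuation (g₂ ϖ₂) ^ n := by
    intro k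
    induction k using Nat.strong_induction_on with
    | _ k ih =>
      intro r hr hr0 hrk
      by_cases h1 : W.valuation r = 1
      · exact ⟨0, by rw [h1, pow_zero]⟩
      have hlt : W.valuation r < 1 := lt_of_le_of_ne (genRing_val_le h₁ h₂ hr) h1
      obtain ⟨s, hs, r', hr', hs1, hrel⟩ := star hcompat hwu hVNR h₁ h₂ hϖ₂ hr hlt
      have hs0 : s ≠ 0 := by
        intro h0
        rw [h0, map_zero] at hs1
        exact zero_ne_one hs1
      have hr'0 : r' ≠ 0 := by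
        intro h0
        rw [h0, mul_zero] at hrel
        exact (mul_ne_zero hs0 hr0) hrel
      have hv := congrArg W.valuation hrel
      rw [map_mul, map_mul, hs1, one_mul] at hv
      obtain ⟨k', hk'⟩ := hWval r' (genRing_le h₁ h₂ hr') hr'0
      have hkk : e + k' = k := by
        apply hωinj
        rw [pow_add, ← he, ← hk', ← hv, hrk]
      obtain ⟨n', hn'⟩ := ih k' (by omega) r' hr' hr'0 hk'
      exact ⟨n' + 1, by rw [hv, hn', pow_succ, mul_comm]⟩
  intro r hr hr0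
  obtain ⟨k, hk⟩ := hWval r (genRing_le h₁ h₂ hr) hr0
  exact key k r hr hr0 hk

theorem val_field [IsDiscreteValuationRing W] (hinj₂ : Function.Injective g₂)
    (hgen : Subfield.closure (Set.range g₁ ∪ Set.range g₂) = ⊤) {x : F} (hx : x ≠ 0) :
    ∃ m : ℤ, W.valuation x = W.valuation (g₂ ϖ₂) ^ m := by
  have hx' : x ∈ Subfield.closure (Set.range g₁ ∪ Set.range g₂) := by rw [hgen]; trivial
  rw [Subfield.mem_closure_iff] at hx'
  obtain ⟨y, hy, z, hz, rfl⟩ := hx'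
  have hy0 : y ≠ 0 := by rintro rfl; simp at hx
  have hz0 : z ≠ 0 := by rintro rfl; simp at hx
  obtain ⟨n, hn⟩ := val_mem_pow hcompat hwu hVNR h₁ h₂ hϖ₂ hinj₂ hy hy0
  obtain ⟨m, hm⟩ := val_mem_pow hcompat hwu hVNR h₁ h₂ hϖ₂ hinj₂ hz hz0
  refine ⟨(n : ℤ) - m, ?_⟩
  have hp0 : W.valuation (g₂ ϖ₂) ≠ 0 := by
    rw [Valuation.ne_zero_iff, Ne, map_eq_zero_iff _ hinj₂]
    exact hϖ₂.ne_zero
  rw [map_div₀, hn, hm, zpow_sub₀ hp0, zpow_natCast, zpow_natCast]

/-- Lemma U, part 1: `B₂ → W` is weakly unramified. -/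
theorem lemmaU_wu [IsDiscreteValuationRing W] (hinj₂ : Function.Injective g₂)
    (hgen : Subfield.closure (Set.range g₁ ∪ Set.range g₂) = ⊤) :
    letI : Algebra B₂ W := (RingHom.codRestrict g₂ W h₂.1).toAlgebra
    IsWeaklyUnramified B₂ W := by
  letI : Algebra B₂ W := (RingHom.codRestrict g₂ W h₂.1).toAlgebra
  have hp : W.valuation (g₂ ϖ₂) < 1 := h₂.2 _ (by
    rw [mem_maximalIdeal]; exact hϖ₂.not_isUnit)
  have hp0' : g₂ ϖ₂ ≠ 0 := by
    rw [Ne, map_eq_zero_iff _ hinj₂]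
    exact hϖ₂.ne_zero
  have hp0 : W.valuation (g₂ ϖ₂) ≠ 0 := (Valuation.ne_zero_iff _).2 hp0'
  unfold IsWeaklyUnramified
  have hmap : ∀ I : Ideal B₂, I = Ideal.span {ϖ₂} →
      Ideal.map (algebraMap B₂ W) I = Ideal.span {algebraMap B₂ W ϖ₂} := by
    rintro I rfl
    rw [Ideal.map_span, Set.image_singleton]
  rw [hmap _ hϖ₂.maximalIdeal_eq]
  apply le_antisymm
  · rw [Ideal.span_le]
    intro x hx
    rw [Set.mem_singleton_iff] at hx
    rw [hx]
    show algebraMap B₂ W ϖ₂ ∈ maximalIdeal W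
    rw [ValuationSubring.valuation_lt_one_iff]
    exact hp
  · intro w hw
    rw [ValuationSubring.valuation_lt_one_iff] at hw
    by_cases hw0 : (w : F) = 0
    · have : w = 0 := Subtype.ext hw0
      rw [this]; exact Submodule.zero_mem _
    obtain ⟨m, hm⟩ := val_field hcompat hwu hVNR h₁ h₂ hϖ₂ hinj₂ hgen hw0
    have hm1 : 1 ≤ m := by
      by_contra hcon
      push Not at hcon
      have hm0 : m ≤ 0 := by omega
      rcases eq_or_lt_of_le hm0 with h0 | hneg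
      · rw [h0, zpow_zero] at hm
        rw [hm] at hw
        exact lt_irrefl _ hw
      · have := one_lt_zpow_of_neg hp0 hp hneg
        rw [← hm] at this
        exact lt_irrefl _ (lt_trans hw this)
    have hle : W.valuation (w : F) ≤ W.valuation (g₂ ϖ₂) := by
      rw [hm]
      obtain ⟨n, rfl⟩ := Int.eq_ofNat_of_zero_le (by omega : 0 ≤ m)
      rw [zpow_natCast]
      calc W.valuation (g₂ ϖ₂) ^ n ≤ W.valuation (g₂ ϖ₂) ^ 1 :=
            pow_le_pow_of_le_one zero_le hp.le (by omega)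
        _ = _ := pow_one _
    have hmem : (w : F) / g₂ ϖ₂ ∈ W := by
      rw [← W.valuation_le_one_iff, map_div₀]
      exact div_le_one_of_le₀ hle zero_le
    rw [Ideal.mem_span_singleton]
    refine ⟨⟨(w : F) / g₂ ϖ₂, hmem⟩, Subtype.ext ?_⟩
    show (w : F) = g₂ ϖ₂ * ((w : F) / g₂ ϖ₂)
    field_simp

/-- Lemma U, part 2: the generated ring surjects onto the residue field of `W`. -/
theorem lemmaU_res [IsDiscreteValuationRing W] (hinj₂ : Function.Injective g₂)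
    (hgen : Subfield.closure (Set.range g₁ ∪ Set.range g₂) = ⊤) (x : ResidueField W) :
    ∃ (r : F) (hr : r ∈ genRing g₁ g₂), residue W ⟨r, genRing_le h₁ h₂ hr⟩ = x := by
  obtain ⟨⟨w, hwW⟩, rfl⟩ := residue_surjective x
  by_cases hw0 : w = 0
  · refine ⟨0, Subring.zero_mem _, ?_⟩
    congr 1
    exact Subtype.ext hw0.symm
  have hp0' : g₂ ϖ₂ ≠ 0 := by
    rw [Ne, map_eq_zero_iff _ hinj₂]
    exact hϖ₂.ne_zero
  have hp0 : W.valuation (g₂ ϖ₂) ≠ 0 := (Valuation.ne_zero_iff _).2 hp0'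
  have hw' : w ∈ Subfield.closure (Set.range g₁ ∪ Set.range g₂) := by rw [hgen]; trivial
  rw [Subfield.mem_closure_iff] at hw'
  obtain ⟨y, hy, z, hz, hyz⟩ := hw'
  have hy0 : y ≠ 0 := by rintro rfl; simp at hyz; exact hw0 hyz.symm
  have hz0 : z ≠ 0 := by rintro rfl; simp at hyz; exact hw0 hyz.symm
  obtain ⟨n, hn⟩ := val_mem_pow hcompat hwu hVNR h₁ h₂ hϖ₂ hinj₂ hz hz0
  have hyv : W.valuation y ≤ W.valuation (g₂ ϖ₂) ^ n := by
    have : y = w * z := by rw [← hyz]; field_simp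
    rw [this, map_mul, hn]
    calc W.valuation w * _ ≤ 1 * _ := mul_le_mul_left ((W.valuation_le_one_iff _).2 hwW) _
      _ = _ := one_mul _
  obtain ⟨t, ht, zn, hzn, ht1, hrelz⟩ := star_pow hcompat hwu hVNR h₁ h₂ hϖ₂ hinj₂ n hz hn.le
  obtain ⟨t', ht', yn, hyn, ht'1, hrely⟩ := star_pow hcompat hwu hVNR h₁ h₂ hϖ₂ hinj₂ n hy hyv
  have hzn1 : W.valuation zn = 1 := by
    have h2 := congrArg W.valuation hrelz
    rw [map_mul, map_mul, ht1, one_mul, hn, map_pow] at h2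
    have h3 : W.valuation (g₂ ϖ₂) ^ n * 1 = W.valuation (g₂ ϖ₂) ^ n * W.valuation zn := by
      rw [mul_one]; exact h2
    exact (mul_left_cancel₀ (pow_ne_zero n hp0) h3).symm
  -- key relation: w * zn * t' = yn * t
  have hkey : w * zn * t' = yn * t := by
    have hpn : g₂ ϖ₂ ^ n ≠ 0 := pow_ne_zero n hp0'
    apply mul_left_cancel₀ hpn
    have : y = w * z := by rw [← hyz]; field_simp
    calc g₂ ϖ₂ ^ n * (w * zn * t') = w * t' * (g₂ ϖ₂ ^ n * zn) := by ring
      _ = w * t' * (t * z) := by rw [hrelz]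
      _ = t * (t' * (w * z)) := by ring
      _ = t * (t' * y) := by rw [this]
      _ = t * (g₂ ϖ₂ ^ n * yn) := by rw [hrely]
      _ = g₂ ϖ₂ ^ n * (yn * t) := by ring
  obtain ⟨u, hu, huv⟩ := exists_inv_mod hcompat hwu hVNR h₁ h₂ hϖ₂ hzn hzn1
  obtain ⟨u', hu', hu'v⟩ := exists_inv_mod hcompat hwu hVNR h₁ h₂ hϖ₂ ht' ht'1
  have hle := genRing_le h₁ h₂
  refine ⟨yn * t * u * u', Subring.mul_mem _ (Subring.mul_mem _ (Subring.mul_mem _ hyn ht) hu) hu', ?_⟩
  -- residue computation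
  rw [← sub_eq_zero, ← map_sub, residue_eq_zero_iff, ValuationSubring.valuation_lt_one_iff]
  show W.valuation (yn * t * u * u' - w) < 1
  have e1 : yn * t * u * u' - w = -(w * ((1 - zn * u) + zn * u * (1 - t' * u'))) := by
    rw [← hkey]; ring
  rw [e1, Valuation.map_neg, map_mul]
  have hb : W.valuation ((1 - zn * u) + zn * u * (1 - t' * u')) < 1 := by
    refine lt_of_le_of_lt (Valuation.map_add _ _ _) (max_lt huv ?_)
    rw [map_mul]
    calc W.valuation (zn * u) * W.valuation (1 - t' * u') ≤ 1 * W.valuation (1 - t' * u') :=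
          mul_le_mul_left (genRing_val_le h₁ h₂ (Subring.mul_mem _ hzn hu)) _
      _ < 1 := by rwa [one_mul]
  calc W.valuation w * _ ≤ 1 * _ := mul_le_mul_left ((W.valuation_le_one_iff _).2 hwW) _
    _ < 1 := by rwa [one_mul]

end Star

end LemmaU

end Groth.Agent.Helper9.EtRamLib
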