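import Mathlib
import Groth.Prelude.Def_EtRam
import Groth.Agent.Lib.Helper9.EtRam.Dom4
import Groth.Agent.S7124

set_option autoImplicit false
set_option linter.style.haveILetI false

namespace Groth.Agent.Helper9.EtRamLib
open IsLocalRing EtRam TensorProduct

universe u

theorem dom_comp_local {A B : Type u} [CommRing A] [IsLocalRing A] [CommRing B] [IsLocalRing B]
    [Algebra A B] [IsLocalHom (algebraMap A B)] {F : Type u} [Field F] {g : B →+* F}
    {W : ValuationSubring F} (h : Dominates B g W) : Dominates A (g.comp (algebraMap A B)) W := by
  refine ⟨fun a => h.1 _, fun a ha => h.2 _ ?_⟩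
  have h3 : maximalIdeal A ≤ (maximalIdeal B).comap (algebraMap A B) :=
    ((local_hom_TFAE (algebraMap A B)).out 0 3).1 (inferInstance : IsLocalHom (algebraMap A B))
  exact h3 ha

section FinRes
variable {A : Type u} [CommRing A] [IsDomain A] [IsDiscreteValuationRing A] {K : Type u} [Field K]
  [Algebra A K] [IsFractionRing A K] {L : Type u} [Field L] [Algebra K L] [FiniteDimensional K L]
  {g : A →+* L} (hg : ∀ a, g a = algebraMap K L (algebraMap A K a))
  {V : ValuationSubring L} (h : Dominates A g V)

include hg in
theorem finite_residue_of_dominates :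
    letI : Algebra A V := (RingHom.codRestrict g V h.1).toAlgebra
    ∀ [IsLocalHom (algebraMap A V)], Module.Finite (ResidueField A) (ResidueField V) := by
  letI : Algebra A V := (RingHom.codRestrict g V h.1).toAlgebra
  intro iloc
  letI : Algebra A L := g.toAlgebra
  haveI : IsScalarTower A K L := IsScalarTower.of_algebraMap_eq (fun a => hg a)
  haveI : IsScalarTower A V L := IsScalarTower.of_algebraMap_eq (fun a => rfl)
  have hinj : Function.Injective (algebraMap A V) := by
    apply codRestrict_injective _ h.1
    intro a b hab
    rw [hg, hg] at hab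
    exact IsFractionRing.injective A K ((algebraMap K L).injective hab)
  exact (Groth.Agent.S7124.result A V K L hinj).1

end FinRes

theorem isVNR_tensor_of_separable (k k' l : Type u) [Field k] [Field k'] [Field l] [Algebra k k']
    [Algebra k l] [Module.Finite k k'] [Algebra.IsSeparable k k'] : IsVNR (l ⊗[k] k') := by
  haveI : Algebra.FormallyUnramified k k' := Algebra.FormallyUnramified.of_isSeparable k k'
  haveI : IsReduced (l ⊗[k] k') := Algebra.FormallyUnramified.isReduced_of_field l (l ⊗[k] k')
  haveI : IsArtinianRing (l ⊗[k] k') := IsArtinianRing.of_finite l _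
  exact isVNR_of_reduced_artinian _

theorem isVNR_tensor_of_separable' (k k' l : Type u) [Field k] [Field k'] [Field l] [Algebra k k']
    [Algebra k l] [Module.Finite k k'] [Algebra.IsSeparable k k'] : IsVNR (k' ⊗[k] l) :=
  IsVNR.of_surjective (Algebra.TensorProduct.comm k l k').toRingEquiv.toRingHom
    (Algebra.TensorProduct.comm k l k').surjective (isVNR_tensor_of_separable k k' l)

end Groth.Agent.Helper9.EtRamLib
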