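import Mathlib
import Groth.Prelude.Def_EtRam
import Groth.Agent.Lib.Helper9.EtRam.Dom5

set_option autoImplicit false
set_option linter.style.haveILetI false

namespace Groth.Agent.Helper9.EtRamLib
open IsLocalRing EtRam TensorProduct

universe u

section Core
variable {A B K L K' : Type u} [CommRing A] [IsDomain A]
    [IsDiscreteValuationRing A] [CommRing B] [IsDomain B] [IsDiscreteValuationRing B] [Algebra A B]
    [IsLocalHom (algebraMap A B)]
    [Field K] [Field L] [Field K'] [Algebra A K] [IsFractionRing A K] [Algebra B L] [IsFractionRing B L]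
    [Algebra K L] [Algebra A L] [IsScalarTower A K L] [IsScalarTower A B L]
    [Algebra K K'] [FiniteDimensional K K']
    {F : Type u} [Field F] [Algebra L F] [FiniteDimensional L F]

/-- generation: the subfield generated by the images of `V'` and `B` is everything -/
theorem closure_eq_top_of_fields {φ : K' →+* F}
    (hgen : Subfield.closure (Set.range φ ∪ Set.range (algebraMap L F)) = ⊤)
    (V' : ValuationSubring K') :
    Subfield.closure (Set.range (φ.comp V'.subtype) ∪
      Set.range ((algebraMap L F).comp (algebraMap B L))) = ⊤ := by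
  rw [eq_top_iff, ← hgen, Subfield.closure_le]
  set S := Subfield.closure (Set.range (φ.comp V'.subtype) ∪
      Set.range ((algebraMap L F).comp (algebraMap B L))) with hS
  rintro x (⟨k, rfl⟩ | ⟨l, rfl⟩)
  · rcases V'.mem_or_inv_mem k with hk | hk
    · exact Subfield.subset_closure (Or.inl ⟨⟨k, hk⟩, rfl⟩)
    · have : φ k⁻¹ ∈ S := Subfield.subset_closure (Or.inl ⟨⟨k⁻¹, hk⟩, rfl⟩)
      have h2 := S.inv_mem this
      rwa [map_inv₀, inv_inv] at h2
  · obtain ⟨b, b', hb', rfl⟩ := IsFractionRing.div_surjective (A := B) l
    rw [map_div₀]
    exact S.div_mem (Subfield.subset_closure (Or.inr ⟨b, rfl⟩))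
      (Subfield.subset_closure (Or.inr ⟨b', rfl⟩))

/-- Unramified extensions stay unramified after base change along an extension of DVRs. -/
theorem unramified_base_change
    (h : IsUnramifiedExt A ((algebraMap K K').comp (algebraMap A K)))
    (φ : K' →+* F) (hφ : φ.comp (algebraMap K K') = (algebraMap L F).comp (algebraMap K L))
    (hgen : Subfield.closure (Set.range φ ∪ Set.range (algebraMap L F)) = ⊤) :
    IsUnramifiedExt B ((algebraMap L F).comp (algebraMap B L)) := by
  intro W hW iW
  set gF := (algebraMap L F).comp (algebraMap B L) with hgF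
  set gK' := (algebraMap K K').comp (algebraMap A K) with hgK'
  set V' := W.comap φ with hV'
  have hcompat0 : φ.comp gK' = gF.comp (algebraMap A B) := by
    ext a
    simp only [gK', gF, RingHom.comp_apply]
    have := RingHom.congr_fun hφ (algebraMap A K a)
    simp only [RingHom.comp_apply] at this
    rw [this, ← IsScalarTower.algebraMap_apply A K L, ← IsScalarTower.algebraMap_apply A B L]
  have hWA : Dominates A (φ.comp gK') W := hcompat0 ▸ dom_comp_local hW
  have hV'dom : Dominates A gK' V' := dom_comap hWA
  haveI : IsDiscreteValuationRing V' :=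
    isDVR_of_dominates (A := A) (K := K) (g := gK') (fun a => rfl) hV'dom
  have hgFinj : Function.Injective gF :=
    (algebraMap L F).injective.comp (IsFractionRing.injective B L)
  haveI : IsDiscreteValuationRing W :=
    isDVR_of_dominates (A := B) (K := L) (g := gF) (fun a => rfl) hW
  letI algAV' : Algebra A V' := (RingHom.codRestrict gK' V' hV'dom.1).toAlgebra
  haveI : IsLocalHom (algebraMap A V') := dom_isLocalHom hV'dom
  obtain ⟨hwu, hsep⟩ := h V' hV'dom
  haveI hfin : Module.Finite (ResidueField A) (ResidueField V') :=
    finite_residue_of_dominates (A := A) (K := K) (g := gK') (fun a => rfl) hV'dom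
  have hVNR : IsVNR (ResidueField V' ⊗[ResidueField A] ResidueField B) :=
    isVNR_tensor_of_separable' _ _ _
  have hV'W : Dominates V' (φ.comp V'.subtype) W := dom_self_comap W φ
  have hcompat : (φ.comp V'.subtype).comp (algebraMap A V') = gF.comp (algebraMap A B) := by
    rw [← hcompat0]; rfl
  obtain ⟨ϖB, hϖB⟩ := IsDiscreteValuationRing.exists_irreducible B
  have hgen' := closure_eq_top_of_fields (B := B) hgen V'
  refine ⟨lemmaU_wu hcompat hwu hVNR hV'W hW hϖB hgFinj hgen', ?_⟩
  -- separability
  letI algBW : Algebra B W := (RingHom.codRestrict gF W hW.1).toAlgebra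
  letI algV'W : Algebra V' W := (RingHom.codRestrict (φ.comp V'.subtype) W hV'W.1).toAlgebra
  haveI : IsLocalHom (algebraMap V' W) := dom_isLocalHom hV'W
  letI algAW : Algebra A W := ((algebraMap B W).comp (algebraMap A B)).toAlgebra
  haveI : IsScalarTower A B W := IsScalarTower.of_algebraMap_eq (fun a => rfl)
  haveI : IsScalarTower A V' W := IsScalarTower.of_algebraMap_eq
    (fun a => Subtype.ext (RingHom.congr_fun hcompat a).symm)
  haveI : IsLocalHom (algebraMap A W) := by
    rw [IsScalarTower.algebraMap_eq A B W]
    exact RingHom.isLocalHom_comp _ _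
  have key : ∀ r ∈ genRing (φ.comp V'.subtype) gF, ∀ hrW : r ∈ W,
      residue W ⟨r, hrW⟩ ∈ separableClosure (ResidueField B) (ResidueField W) := by
    intro r hr
    induction hr using Subring.closure_induction with
    | mem x hx =>
      rcases hx with ⟨v, rfl⟩ | ⟨b, rfl⟩
      · intro hrW
        have h1 : IsSeparable (ResidueField A) (residue V' v) :=
          Algebra.IsSeparable.isSeparable _ _
        have h2 : IsSeparable (ResidueField A)
            (algebraMap (ResidueField V') (ResidueField W) (residue V' v)) := by
          rw [IsSeparable, minpoly.algebraMap_eq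
            (algebraMap (ResidueField V') (ResidueField W)).injective]
          exact h1
        exact mem_separableClosure_iff.2 (h2.tower_top (ResidueField B))
      · intro hrW
        exact (separableClosure _ _).algebraMap_mem (residue B b)
    | zero =>
      intro hrW
      have : residue W ⟨0, hrW⟩ = 0 := map_zero _
      rw [this]; exact zero_mem _
    | one =>
      intro hrW
      have : residue W ⟨1, hrW⟩ = 1 := map_one _
      rw [this]; exact one_mem _
    | add x y hx hy ihx ihy =>
      intro hrW
      have hxW := genRing_le hV'W hW hx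
      have hyW := genRing_le hV'W hW hy
      have : residue W ⟨x + y, hrW⟩ = residue W ⟨x, hxW⟩ + residue W ⟨y, hyW⟩ := by
        rw [← map_add]; rfl
      rw [this]; exact add_mem (ihx hxW) (ihy hyW)
    | neg x hx ihx =>
      intro hrW
      have hxW := genRing_le hV'W hW hx
      have : residue W ⟨-x, hrW⟩ = - residue W ⟨x, hxW⟩ := by
        rw [← map_neg]; rfl
      rw [this]; exact neg_mem (ihx hxW)
    | mul x y hx hy ihx ihy =>
      intro hrW
      have hxW := genRing_le hV'W hW hx
      have hyW := genRing_le hV'W hW hy
      have : residue W ⟨x * y, hrW⟩ = residue W ⟨x, hxW⟩ * residue W ⟨y, hyW⟩ := by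
        rw [← map_mul]; rfl
      rw [this]; exact mul_mem (ihx hxW) (ihy hyW)
  constructor
  intro x
  obtain ⟨r, hr, rfl⟩ := lemmaU_res hcompat hwu hVNR hV'W hW hϖB hgFinj hgen' x
  exact mem_separableClosure_iff.1 (key r hr _)

end Core

end Groth.Agent.Helper9.EtRamLib
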