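import Mathlib
import Groth.Prelude.Def_EtRam
import Groth.Agent.Lib.Helper9.EtRam.Dom6

set_option autoImplicit false
set_option linter.style.haveILetI false

namespace Groth.Agent.Helper9.EtRamLib
open IsLocalRing EtRam TensorProduct

universe u

theorem isVNR_ideal_eq_span_idem {T : Type*} [CommRing T] [IsNoetherianRing T] (hT : IsVNR T)
    (I : Ideal T) : ∃ e : T, IsIdempotentElem e ∧ I = Ideal.span {e} := by
  have hfg : I.FG := IsNoetherian.noetherian I
  refine (Ideal.isIdempotentElem_iff_of_fg I hfg).1 ?_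
  apply le_antisymm
  · exact Ideal.mul_le_left
  · intro x hx
    obtain ⟨y, hy⟩ := hT x
    rw [hy, mul_assoc]
    exact Ideal.mul_mem_mul hx (I.mul_mem_right _ hx)

theorem isReduced_tensor_quot {k₁ : Type*} [Field k₁] {T Q Ω : Type*} [CommRing T] [CommRing Q]
    [CommRing Ω] [Algebra k₁ T] [Algebra k₁ Q] [Algebra k₁ Ω] (Φ : T →ₐ[k₁] Q)
    (hΦ : Function.Surjective Φ) {e : T} (he : IsIdempotentElem e)
    (hker : RingHom.ker Φ = Ideal.span {e}) [IsReduced (Ω ⊗[k₁] T)] : IsReduced (Ω ⊗[k₁] Q) := by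
  constructor
  intro z hz
  set m := Algebra.TensorProduct.map (AlgHom.id k₁ Ω) Φ with hm
  have hms : Function.Surjective m :=
    Algebra.TensorProduct.map_surjective (AlgHom.id k₁ Ω) Φ Function.surjective_id hΦ
  have hmker : RingHom.ker m = Ideal.span {(1 : Ω) ⊗ₜ[k₁] e} := by
    rw [hm, Algebra.TensorProduct.lTensor_ker _ hΦ, hker, Ideal.map_span, Set.image_singleton]
    rfl
  obtain ⟨z', rfl⟩ := hms z
  obtain ⟨n, hn⟩ := hz
  set ε : Ω ⊗[k₁] T := (1 : Ω) ⊗ₜ[k₁] e with hε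
  have hεid : ε * ε = ε := by
    rw [hε, Algebra.TensorProduct.tmul_mul_tmul, one_mul, he.eq]
  have h1 : z' ^ n ∈ RingHom.ker m := by
    rw [RingHom.mem_ker, map_pow]; exact hn
  rw [hmker, Ideal.mem_span_singleton] at h1
  obtain ⟨c, hc⟩ := h1
  have h2 : ((1 - ε) * z') ^ (n + 1) = 0 := by
    rw [mul_pow, pow_succ z', hc]
    have : (1 - ε) ^ (n + 1) * (ε * c * z') = ((1 - ε) ^ n * c * z') * ((1 - ε) * ε) := by ring
    rw [this]
    have : (1 - ε) * ε = 0 := by rw [sub_mul, one_mul, hεid, sub_self]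
    rw [this, mul_zero]
  have h3 : (1 - ε) * z' = 0 := IsReduced.eq_zero _ ⟨n + 1, h2⟩
  have h4 : z' = ε * z' := by
    have : z' = (1 - ε) * z' + ε * z' := by ring
    rw [h3, zero_add] at this
    exact this
  have h5 : z' ∈ RingHom.ker m := by
    rw [hmker, Ideal.mem_span_singleton]
    exact ⟨z', h4⟩
  exact h5

/-- tensor of a finite extension with a geometrically reduced extension: VNR and noetherian -/
theorem tensor_finite_geomReduced (k k₁ kB : Type u) [Field k] [Field k₁] [Field kB]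
    [Algebra k k₁] [Algebra k kB] [Module.Finite k k₁] [Algebra.IsGeometricallyReduced k kB] :
    IsVNR (k₁ ⊗[k] kB) ∧ IsNoetherianRing (k₁ ⊗[k] kB) ∧ IsVNR (kB ⊗[k] k₁) := by
  haveI : Algebra.IsAlgebraic k k₁ := Algebra.IsAlgebraic.of_finite k k₁
  haveI : IsReduced (k₁ ⊗[k] kB) := inferInstance
  let e := Algebra.TensorProduct.comm k kB k₁
  haveI : IsArtinianRing (kB ⊗[k] k₁) := IsArtinianRing.of_finite kB _
  haveI : IsNoetherianRing (kB ⊗[k] k₁) := IsNoetherianRing.of_finite kB _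
  haveI : IsArtinianRing (k₁ ⊗[k] kB) := e.toRingEquiv.isArtinianRing
  haveI : IsNoetherianRing (k₁ ⊗[k] kB) := isNoetherianRing_of_ringEquiv _ e.toRingEquiv
  have h1 : IsVNR (k₁ ⊗[k] kB) := isVNR_of_reduced_artinian _
  refine ⟨h1, inferInstance, ?_⟩
  exact IsVNR.of_surjective e.symm.toRingEquiv.toRingHom e.symm.surjective h1

theorem geomReduced_of_tensor_surj (k k₁ kB kW : Type u) [Field k] [Field k₁] [Field kB] [Field kW]
    [Algebra k k₁] [Algebra k kB] [Algebra k₁ kW] [Algebra k kW] [IsScalarTower k k₁ kW]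
    [Module.Finite k k₁] [Algebra.IsGeometricallyReduced k kB]
    (ι : kB →ₐ[k] kW)
    (hsurj : Function.Surjective
      (Algebra.TensorProduct.lift (Algebra.ofId k₁ kW) ι (fun _ _ => Commute.all _ _))) :
    Algebra.IsGeometricallyReduced k₁ kW := by
  rw [Algebra.isGeometricallyReduced_field_iff]
  let Φ : k₁ ⊗[k] kB →ₐ[k₁] kW :=
    Algebra.TensorProduct.lift (Algebra.ofId k₁ kW) ι (fun _ _ => Commute.all _ _)
  obtain ⟨hvnr, hnoeth, -⟩ := tensor_finite_geomReduced k k₁ kB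
  obtain ⟨e, he, hker⟩ := isVNR_ideal_eq_span_idem hvnr (RingHom.ker Φ)
  haveI : Algebra.IsAlgebraic k k₁ := Algebra.IsAlgebraic.of_finite k k₁
  haveI : Algebra.IsAlgebraic k (AlgebraicClosure k₁) := Algebra.IsAlgebraic.trans k k₁ _
  haveI : IsReduced (AlgebraicClosure k₁ ⊗[k] kB) := inferInstance
  haveI : IsReduced (AlgebraicClosure k₁ ⊗[k₁] (k₁ ⊗[k] kB)) :=
    isReduced_of_injective
      (Algebra.TensorProduct.cancelBaseChange k k₁ k₁ (AlgebraicClosure k₁) kB).toRingEquiv.toRingHom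
      (Algebra.TensorProduct.cancelBaseChange k k₁ k₁ (AlgebraicClosure k₁) kB).injective
  exact isReduced_tensor_quot Φ hsurj he hker

end Groth.Agent.Helper9.EtRamLib
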