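import Mathlib
import Groth.Prelude.Def_EtRam
import Groth.Agent.Lib.Helper9.EtRam.Dom7

set_option autoImplicit false
set_option linter.style.haveILetI false

namespace Groth.Agent.Helper9.EtRamLib
open IsLocalRing EtRam TensorProduct

universe u

section Compositum
variable {K L K₁ M : Type u} [Field K] [Field L] [Field K₁] [Field M]
  [Algebra K L] [Algebra K K₁] [Algebra K M] [Algebra L M] [Algebra K₁ M] [IsScalarTower K L M]
  [IsScalarTower K K₁ M]

theorem finite_of_adjoin_eq_top [FiniteDimensional K K₁]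
    (hadj : Algebra.adjoin L (Set.range (algebraMap K₁ M)) = ⊤) : FiniteDimensional L M := by
  let Φ : L ⊗[K] K₁ →ₐ[L] M :=
    Algebra.TensorProduct.lift (Algebra.ofId L M) (IsScalarTower.toAlgHom K K₁ M)
      (fun _ _ => Commute.all _ _)
  have hr : Φ.range = ⊤ := by
    rw [eq_top_iff, ← hadj]
    apply Algebra.adjoin_le
    rintro x ⟨k, rfl⟩
    exact ⟨1 ⊗ₜ k, by simp [Φ]⟩
  have hs : Function.Surjective Φ := by
    intro x
    have : x ∈ Φ.range := by rw [hr]; trivial
    exact this
  exact Module.Finite.of_surjective Φ.toLinearMap hs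

theorem closure_eq_top_of_adjoin {B : Type u} [CommRing B] [IsDomain B] [Algebra B L]
    [IsFractionRing B L]
    (hadj : Algebra.adjoin L (Set.range (algebraMap K₁ M)) = ⊤) (V₁ : ValuationSubring K₁) :
    Subfield.closure (Set.range ((algebraMap L M).comp (algebraMap B L)) ∪
      Set.range ((algebraMap K₁ M).comp V₁.subtype)) = ⊤ := by
  rw [eq_top_iff]
  set S := Subfield.closure (Set.range ((algebraMap L M).comp (algebraMap B L)) ∪
      Set.range ((algebraMap K₁ M).comp V₁.subtype)) with hS
  intro x _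
  have hx : x ∈ Algebra.adjoin L (Set.range (algebraMap K₁ M)) := by rw [hadj]; trivial
  induction hx using Algebra.adjoin_induction with
  | mem x hx =>
    obtain ⟨k, rfl⟩ := hx
    rcases V₁.mem_or_inv_mem k with hk | hk
    · exact Subfield.subset_closure (Or.inr ⟨⟨k, hk⟩, rfl⟩)
    · have : algebraMap K₁ M k⁻¹ ∈ S := Subfield.subset_closure (Or.inr ⟨⟨k⁻¹, hk⟩, rfl⟩)
      have h2 := S.inv_mem this
      rwa [map_inv₀, inv_inv] at h2
  | algebraMap l =>
    obtain ⟨b, b', hb', rfl⟩ := IsFractionRing.div_surjective (A := B) l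
    rw [map_div₀]
    exact S.div_mem (Subfield.subset_closure (Or.inl ⟨b, rfl⟩))
      (Subfield.subset_closure (Or.inl ⟨b', rfl⟩))
  | add x y _ _ hx hy => exact S.add_mem (hx trivial) (hy trivial)
  | mul x y _ _ hx hy => exact S.mul_mem (hx trivial) (hy trivial)

end Compositum

end Groth.Agent.Helper9.EtRamLib
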