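import Mathlib
import Groth.Prelude.Def_EtRam
import Groth.Agent.Lib.Helper9.EtRam.Dom8

set_option autoImplicit false
set_option linter.style.haveILetI false

/-!
# Abstract form of "Lemma U" (helper9)

`W` a valuation subring of `F` which is a DVR, `R ≤ W` a subring generating `F` as a field,
`p ∈ R` a nonzero nonunit of `W` such that `R ⧸ (p)` is von Neumann regular.  Then `p` is a
uniformizer of `W` and `R → κ(W)` is surjective.
-/

namespace Groth.Agent.Helper9.EtRamLib
open IsLocalRing EtRam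

universe u

section AbsU
variable {F : Type u} [Field F] {W : ValuationSubring F} {R : Subring F}
  (hR : R ≤ W.toSubring) {p : F} (hpR : p ∈ R) (hp1 : W.valuation p < 1) (hp0 : p ≠ 0)
  (hV : IsVNR (R ⧸ Ideal.span {(⟨p, hpR⟩ : R)}))

include hR in
theorem absU_val_le {r : F} (hr : r ∈ R) : W.valuation r ≤ 1 :=
  (W.valuation_le_one_iff _).2 (hR hr)

include hV in
theorem absU_quasi_inv {r : F} (hr : r ∈ R) :
    ∃ y ∈ R, ∃ c ∈ R, r - r * r * y = p * c := by
  obtain ⟨y, hy⟩ := hV (Ideal.Quotient.mk _ ⟨r, hr⟩)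
  obtain ⟨⟨y', hy'⟩, rfl⟩ := Ideal.Quotient.mk_surjective y
  rw [← map_mul, ← map_mul, Ideal.Quotient.eq, Ideal.mem_span_singleton] at hy
  obtain ⟨⟨c, hc⟩, hcc⟩ := hy
  refine ⟨y', hy', c, hc, ?_⟩
  have := congrArg Subtype.val hcc
  simpa using this

include hR hV in
theorem absU_star {r : F} (hr : r ∈ R) (hlt : W.valuation r < 1) :
    ∃ s ∈ R, ∃ r' ∈ R, W.valuation s = 1 ∧ s * r = p * r' := by
  obtain ⟨y, hy, c, hc, h⟩ := absU_quasi_inv hpR hV hr
  refine ⟨1 - r * y, Subring.sub_mem _ (Subring.one_mem _) (Subring.mul_mem _ hr hy), c, hc, ?_, ?_⟩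
  · apply Valuation.map_one_sub_of_lt
    rw [map_mul]
    calc W.valuation r * W.valuation y ≤ W.valuation r * 1 :=
          mul_le_mul_right (absU_val_le hR hy) _
      _ < 1 := by rwa [mul_one]
  · rw [← h]; ring

include hR hp1 hV in
theorem absU_inv_mod {z : F} (hz : z ∈ R) (hz1 : W.valuation z = 1) :
    ∃ u ∈ R, W.valuation (1 - z * u) < 1 := by
  obtain ⟨y, hy, c, hc, h⟩ := absU_quasi_inv hpR hV hz
  refine ⟨y, hy, ?_⟩
  have h1 : z * (1 - z * y) = p * c := by rw [← h]; ring
  have h2 := congrArg W.valuation h1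
  rw [map_mul, map_mul, hz1, one_mul] at h2
  rw [h2]
  calc W.valuation p * W.valuation c ≤ W.valuation p * 1 :=
        mul_le_mul_right (absU_val_le hR hc) _
    _ < 1 := by rwa [mul_one]

include hR hp1 hp0 hV in
theorem absU_star_pow (n : ℕ) : ∀ {r : F}, r ∈ R →
    W.valuation r ≤ W.valuation p ^ n →
    ∃ t ∈ R, ∃ r' ∈ R, W.valuation t = 1 ∧ t * r = p ^ n * r' := by
  have hpv0 : W.valuation p ≠ 0 := (Valuation.ne_zero_iff _).2 hp0
  induction n with
  | zero =>
    intro r hr _
    exact ⟨1, Subring.one_mem _, r, hr, map_one _, by simp⟩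
  | succ n ih =>
    intro r hr hle
    have hle' : W.valuation r ≤ W.valuation p ^ n :=
      hle.trans (pow_le_pow_of_le_one zero_le hp1.le (Nat.le_succ n))
    obtain ⟨t, ht, r', hr', ht1, hrel⟩ := ih hr hle'
    have hv : W.valuation r' < 1 := by
      have h2 := congrArg W.valuation hrel
      rw [map_mul, map_mul, ht1, one_mul, map_pow] at h2
      rw [h2, pow_succ] at hle
      have := le_of_mul_le_mul_left hle (zero_lt_iff.2 (pow_ne_zero n hpv0))
      exact lt_of_le_of_lt this hp1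
    obtain ⟨s, hs, r'', hr'', hs1, hrel'⟩ := absU_star hR hpR hV hr' hv
    refine ⟨s * t, Subring.mul_mem _ hs ht, r'', hr'', by rw [map_mul, hs1, ht1, one_mul], ?_⟩
    rw [mul_assoc, hrel, ← mul_assoc, mul_comm s, mul_assoc, hrel', pow_succ]
    ring

include hR hp1 hp0 hV in
theorem absU_val_mem_pow [IsDiscreteValuationRing W] :
    ∀ {r : F}, r ∈ R → r ≠ 0 → ∃ n : ℕ, W.valuation r = W.valuation p ^ n := by
  have hpv0 : W.valuation p ≠ 0 := (Valuation.ne_zero_iff _).2 hp0
  obtain ⟨ϖW, hϖW⟩ := IsDiscreteValuationRing.exists_irreducible W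
  set ω := W.valuation (ϖW : F) with hω
  have hω1 : ω < 1 := by
    rw [hω, ← ValuationSubring.valuation_lt_one_iff, mem_maximalIdeal]
    exact hϖW.not_isUnit
  have hω0 : ω ≠ 0 := by
    rw [hω, Valuation.ne_zero_iff]
    intro h0
    exact hϖW.ne_zero (Subtype.ext h0)
  have hWval : ∀ w : F, w ∈ W → w ≠ 0 → ∃ k : ℕ, W.valuation w = ω ^ k := by
    intro w hw hw0
    have hw0' : (⟨w, hw⟩ : W) ≠ 0 := fun h0 => hw0 (congrArg Subtype.val h0)
    obtain ⟨k, u, hu⟩ := IsDiscreteValuationRing.eq_unit_mul_pow_irreducible hw0' hϖW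
    refine ⟨k, ?_⟩
    have h1 := congrArg Subtype.val hu
    simp only [MulMemClass.coe_mul, SubmonoidClass.coe_pow] at h1
    rw [h1, map_mul, map_pow, (W.valuation_eq_one_iff _).1 u.isUnit, one_mul]
  obtain ⟨e, he⟩ := hWval _ (hR hpR) hp0
  have hωinj : ∀ a b : ℕ, ω ^ a = ω ^ b → a = b := by
    intro a b hab
    have := zpow_inj_of_lt_one hω0 hω1 (m := a) (n := b) (by simpa using hab)
    exact_mod_cast this
  have key : ∀ k : ℕ, ∀ r : F, r ∈ R → r ≠ 0 → W.valuation r = ω ^ k →
      ∃ n : ℕ, W.valuation r = W.valuation p ^ n := by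
    intro k
    induction k using Nat.strong_induction_on with
    | _ k ih =>
      intro r hr hr0 hrk
      by_cases h1 : W.valuation r = 1
      · exact ⟨0, by rw [h1, pow_zero]⟩
      have hlt : W.valuation r < 1 := lt_of_le_of_ne (absU_val_le hR hr) h1
      obtain ⟨s, hs, r', hr', hs1, hrel⟩ := absU_star hR hpR hV hr hlt
      have hs0 : s ≠ 0 := by
        intro h0
        rw [h0, map_zero] at hs1
        exact zero_ne_one hs1
      have hr'0 : r' ≠ 0 := by
        intro h0
        rw [h0, mul_zero] at hrel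
        exact (mul_ne_zero hs0 hr0) hrel
      have hv := congrArg W.valuation hrel
      rw [map_mul, map_mul, hs1, one_mul] at hv
      obtain ⟨k', hk'⟩ := hWval r' (hR hr') hr'0
      have he1 : 1 ≤ e := by
        by_contra hcon
        have : e = 0 := by omega
        rw [this, pow_zero] at he
        rw [he] at hp1
        exact lt_irrefl _ hp1
      have hkk : e + k' = k := by
        apply hωinj
        rw [pow_add, ← he, ← hk', ← hv, hrk]
      obtain ⟨n', hn'⟩ := ih k' (by omega) r' hr' hr'0 hk'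
      exact ⟨n' + 1, by rw [hv, hn', pow_succ, mul_comm]⟩
  intro r hr hr0
  obtain ⟨k, hk⟩ := hWval r (hR hr) hr0
  exact key k r hr hr0 hk

include hR hp1 hp0 hV in
theorem absU_val_field [IsDiscreteValuationRing W]
    (hgen : ∀ x : F, ∃ y ∈ R, ∃ z ∈ R, y / z = x) {x : F} (hx : x ≠ 0) :
    ∃ m : ℤ, W.valuation x = W.valuation p ^ m := by
  obtain ⟨y, hy, z, hz, rfl⟩ := hgen x
  have hy0 : y ≠ 0 := by rintro rfl; simp at hx
  have hz0 : z ≠ 0 := by rintro rfl; simp at hx
  obtain ⟨n, hn⟩ := absU_val_mem_pow hR hpR hp1 hp0 hV hy hy0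
  obtain ⟨m, hm⟩ := absU_val_mem_pow hR hpR hp1 hp0 hV hz hz0
  refine ⟨(n : ℤ) - m, ?_⟩
  have hpv0 : W.valuation p ≠ 0 := (Valuation.ne_zero_iff _).2 hp0
  rw [map_div₀, hn, hm, zpow_sub₀ hpv0, zpow_natCast, zpow_natCast]

include hR hp1 hp0 hV in
/-- `p` generates the maximal ideal of `W`. -/
theorem absU_maximalIdeal [IsDiscreteValuationRing W]
    (hgen : ∀ x : F, ∃ y ∈ R, ∃ z ∈ R, y / z = x) :
    maximalIdeal W = Ideal.span {(⟨p, hR hpR⟩ : W)} := by
  have hpv0 : W.valuation p ≠ 0 := (Valuation.ne_zero_iff _).2 hp0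
  apply le_antisymm
  · intro w hw
    rw [ValuationSubring.valuation_lt_one_iff] at hw
    by_cases hw0 : (w : F) = 0
    · have : w = 0 := Subtype.ext hw0
      rw [this]; exact Submodule.zero_mem _
    obtain ⟨m, hm⟩ := absU_val_field hR hpR hp1 hp0 hV hgen hw0
    have hm1 : 1 ≤ m := by
      by_contra hcon
      push Not at hcon
      have hm0 : m ≤ 0 := by omega
      rcases eq_or_lt_of_le hm0 with h0 | hneg
      · rw [h0, zpow_zero] at hm
        rw [hm] at hw
        exact lt_irrefl _ hw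
      · have := one_lt_zpow_of_neg hpv0 hp1 hneg
        rw [← hm] at this
        exact lt_irrefl _ (lt_trans hw this)
    have hle : W.valuation (w : F) ≤ W.valuation p := by
      rw [hm]
      obtain ⟨n, rfl⟩ := Int.eq_ofNat_of_zero_le (by omega : 0 ≤ m)
      rw [zpow_natCast]
      calc W.valuation p ^ n ≤ W.valuation p ^ 1 :=
            pow_le_pow_of_le_one zero_le hp1.le (by omega)
        _ = _ := pow_one _
    have hmem : (w : F) / p ∈ W := by
      rw [← W.valuation_le_one_iff, map_div₀]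
      exact div_le_one_of_le₀ hle zero_le
    rw [Ideal.mem_span_singleton]
    refine ⟨⟨(w : F) / p, hmem⟩, Subtype.ext ?_⟩
    show (w : F) = p * ((w : F) / p)
    field_simp
  · rw [Ideal.span_le]
    intro x hx
    rw [Set.mem_singleton_iff] at hx
    rw [hx]
    show _ ∈ maximalIdeal W
    rw [ValuationSubring.valuation_lt_one_iff]
    exact hp1

include hR hp1 hp0 hV in
/-- the ring `R` surjects onto the residue field of `W`. -/
theorem absU_res [IsDiscreteValuationRing W]
    (hgen : ∀ x : F, ∃ y ∈ R, ∃ z ∈ R, y / z = x) (x : ResidueField W) :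
    ∃ (r : F) (hr : r ∈ R), residue W ⟨r, hR hr⟩ = x := by
  obtain ⟨⟨w, hwW⟩, rfl⟩ := residue_surjective x
  by_cases hw0 : w = 0
  · refine ⟨0, Subring.zero_mem _, ?_⟩
    congr 1
    exact Subtype.ext hw0.symm
  have hpv0 : W.valuation p ≠ 0 := (Valuation.ne_zero_iff _).2 hp0
  obtain ⟨y, hy, z, hz, hyz⟩ := hgen w
  have hy0 : y ≠ 0 := by rintro rfl; simp at hyz; exact hw0 hyz.symm
  have hz0 : z ≠ 0 := by rintro rfl; simp at hyz; exact hw0 hyz.symm
  obtain ⟨n, hn⟩ := absU_val_mem_pow hR hpR hp1 hp0 hV hz hz0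
  have hyv : W.valuation y ≤ W.valuation p ^ n := by
    have : y = w * z := by rw [← hyz]; field_simp
    rw [this, map_mul, hn]
    calc W.valuation w * _ ≤ 1 * _ := mul_le_mul_left ((W.valuation_le_one_iff _).2 hwW) _
      _ = _ := one_mul _
  obtain ⟨t, ht, zn, hzn, ht1, hrelz⟩ := absU_star_pow hR hpR hp1 hp0 hV n hz hn.le
  obtain ⟨t', ht', yn, hyn, ht'1, hrely⟩ := absU_star_pow hR hpR hp1 hp0 hV n hy hyv
  have hzn1 : W.valuation zn = 1 := by
    have h2 := congrArg W.valuation hrelz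
    rw [map_mul, map_mul, ht1, one_mul, hn, map_pow] at h2
    have h3 : W.valuation p ^ n * 1 = W.valuation p ^ n * W.valuation zn := by
      rw [mul_one]; exact h2
    exact (mul_left_cancel₀ (pow_ne_zero n hpv0) h3).symm
  have hkey : w * zn * t' = yn * t := by
    have hpn : p ^ n ≠ 0 := pow_ne_zero n hp0
    apply mul_left_cancel₀ hpn
    have : y = w * z := by rw [← hyz]; field_simp
    calc p ^ n * (w * zn * t') = w * t' * (p ^ n * zn) := by ring
      _ = w * t' * (t * z) := by rw [hrelz]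
      _ = t * (t' * (w * z)) := by ring
      _ = t * (t' * y) := by rw [this]
      _ = t * (p ^ n * yn) := by rw [hrely]
      _ = p ^ n * (yn * t) := by ring
  obtain ⟨u, hu, huv⟩ := absU_inv_mod hR hpR hp1 hV hzn hzn1
  obtain ⟨u', hu', hu'v⟩ := absU_inv_mod hR hpR hp1 hV ht' ht'1
  refine ⟨yn * t * u * u', Subring.mul_mem _ (Subring.mul_mem _ (Subring.mul_mem _ hyn ht) hu) hu', ?_⟩
  rw [← sub_eq_zero, ← map_sub, residue_eq_zero_iff, ValuationSubring.valuation_lt_one_iff]
  show W.valuation (yn * t * u * u' - w) < 1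
  have e1 : yn * t * u * u' - w = -(w * ((1 - zn * u) + zn * u * (1 - t' * u'))) := by
    rw [← hkey]; ring
  rw [e1, Valuation.map_neg, map_mul]
  have hb : W.valuation ((1 - zn * u) + zn * u * (1 - t' * u')) < 1 := by
    refine lt_of_le_of_lt (Valuation.map_add _ _ _) (max_lt huv ?_)
    rw [map_mul]
    calc W.valuation (zn * u) * W.valuation (1 - t' * u') ≤ 1 * W.valuation (1 - t' * u') :=
          mul_le_mul_left (absU_val_le hR (Subring.mul_mem _ hzn hu)) _
      _ < 1 := by rwa [one_mul]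
  calc W.valuation w * _ ≤ 1 * _ := mul_le_mul_left ((W.valuation_le_one_iff _).2 hwW) _
    _ < 1 := by rwa [one_mul]

end AbsU

end Groth.Agent.Helper9.EtRamLib
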