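import Mathlib
import Groth.Prelude.Def_EtRam
import Groth.Agent.Lib.Helper9.EtRam.Dom9

set_option autoImplicit false
set_option linter.style.haveILetI false

namespace Groth.Agent.Helper9.EtRamLib
open IsLocalRing EtRam

universe u

section FieldAlg
variable {F : Type u} [Field F] {P₁ P₂ : F} (h1 : P₁ ≠ 0) (h2 : P₂ ≠ 0) (e₁ e₂ : ℕ) (a b : ℤ)
  (hab : a * e₁ + b * e₂ = 1)

include h1 h2 hab in
theorem bezout_id₁ :
    (P₁ ^ b * P₂ ^ a) ^ e₂ * (P₁ ^ e₁ / P₂ ^ e₂) ^ a = P₁ := by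
  have hl : (P₁ ^ b * P₂ ^ a) ^ e₂ * (P₁ ^ e₁ / P₂ ^ e₂) ^ a =
      P₁ ^ (b * e₂ + e₁ * a) * P₂ ^ (a * e₂ + -(e₂ * a)) := by
    rw [zpow_add₀ h1, zpow_add₀ h2, zpow_neg, ← zpow_natCast (P₁ ^ b * P₂ ^ a), mul_zpow,
      ← zpow_mul, ← zpow_mul, div_zpow, ← zpow_natCast P₁, ← zpow_natCast P₂, ← zpow_mul,
      ← zpow_mul, div_eq_mul_inv]
    ring
  rw [hl]
  have e1 : b * e₂ + e₁ * a = 1 := by linarith
  have e2 : a * (e₂ : ℤ) + -(e₂ * a) = 0 := by ring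
  rw [e1, e2, zpow_one, zpow_zero, mul_one]

include h1 h2 hab in
theorem bezout_id₂ :
    (P₁ ^ b * P₂ ^ a) ^ e₁ * ((P₁ ^ e₁ / P₂ ^ e₂) ^ b)⁻¹ = P₂ := by
  have hl : (P₁ ^ b * P₂ ^ a) ^ e₁ * ((P₁ ^ e₁ / P₂ ^ e₂) ^ b)⁻¹ =
      P₁ ^ (b * e₁ + -(e₁ * b)) * P₂ ^ (a * e₁ + e₂ * b) := by
    rw [zpow_add₀ h1, zpow_add₀ h2, zpow_neg, ← zpow_natCast (P₁ ^ b * P₂ ^ a), mul_zpow,
      ← zpow_mul, ← zpow_mul, div_zpow, ← zpow_natCast P₁, ← zpow_natCast P₂, ← zpow_mul,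
      ← zpow_mul, div_eq_mul_inv, mul_inv, inv_inv]
    ring
  rw [hl]
  have e1 : a * e₁ + e₂ * b = 1 := by linarith
  have e2 : b * (e₁ : ℤ) + -(e₁ * b) = 0 := by ring
  rw [e1, e2, zpow_one, zpow_zero, one_mul]

end FieldAlg

section OrdAlg
variable {Γ : Type*} [LinearOrderedCommGroupWithZero Γ] {p₁ p₂ : Γ} (h1 : p₁ ≠ 0) (h2 : p₂ ≠ 0)
  (e₁ e₂ : ℕ) (a b : ℤ) (hab : a * e₁ + b * e₂ = 1) (heq : p₁ ^ e₁ = p₂ ^ e₂)

include h1 h2 hab heq in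
theorem bezout_val₁ : (p₁ ^ b * p₂ ^ a) ^ e₂ = p₁ := by
  have hl : (p₁ ^ b * p₂ ^ a) ^ e₂ = p₁ ^ (b * e₂) * (p₂ ^ (e₂ : ℤ)) ^ a := by
    rw [← zpow_natCast (p₁ ^ b * p₂ ^ a), mul_zpow, ← zpow_mul, ← zpow_mul, ← zpow_mul,
      mul_comm (e₂ : ℤ) a]
  rw [hl, zpow_natCast, ← heq, ← zpow_natCast, ← zpow_mul, ← zpow_add₀ h1]
  have : b * e₂ + e₁ * a = 1 := by linarith
  rw [this, zpow_one]

include h1 h2 hab heq in
theorem bezout_val₂ : (p₁ ^ b * p₂ ^ a) ^ e₁ = p₂ := by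
  have hl : (p₁ ^ b * p₂ ^ a) ^ e₁ = (p₁ ^ (e₁ : ℤ)) ^ b * p₂ ^ (a * e₁) := by
    rw [← zpow_natCast (p₁ ^ b * p₂ ^ a), mul_zpow, ← zpow_mul, ← zpow_mul, ← zpow_mul,
      mul_comm (e₁ : ℤ) b]
  rw [hl, zpow_natCast, heq, ← zpow_natCast, ← zpow_mul, ← zpow_add₀ h2]
  have : e₂ * b + a * e₁ = 1 := by linarith
  rw [this, zpow_one]

end OrdAlg

section Helpers
variable {A B : Type u} [CommRing A] [IsDomain A] [IsDiscreteValuationRing A]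
  [CommRing B] [IsDomain B] [IsDiscreteValuationRing B] [Algebra A B] [IsLocalHom (algebraMap A B)]

theorem exists_unit_mul_pow (hinj : Function.Injective (algebraMap A B)) {π : A}
    (hπ : Irreducible π) {ϖ : B} (hϖ : Irreducible ϖ) :
    ∃ u : Bˣ, algebraMap A B π =
      u * ϖ ^ Ideal.ramificationIdx' (maximalIdeal A) (maximalIdeal B) := by
  have h := map_maximalIdeal_eq_pow A B hinj
  set e := Ideal.ramificationIdx' (maximalIdeal A) (maximalIdeal B) with he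
  have hmap : ∀ I : Ideal A, I = Ideal.span {π} →
      Ideal.map (algebraMap A B) I = Ideal.span {algebraMap A B π} := by
    rintro I rfl
    rw [Ideal.map_span, Set.image_singleton]
  rw [hmap _ hπ.maximalIdeal_eq, hϖ.maximalIdeal_eq, Ideal.span_singleton_pow,
    Ideal.span_singleton_eq_span_singleton] at h
  obtain ⟨u, hu⟩ := h.symm
  exact ⟨u, by rw [← hu, mul_comm]⟩

end Helpers

section RamVal
variable {B : Type u} [CommRing B] [IsDomain B] [IsDiscreteValuationRing B]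
  {F : Type u} [Field F] {W : ValuationSubring F} {g : B →+* F}

theorem ramIdx_eq_of_val (h : Dominates B g W) {ϖ : F} (hϖW : ϖ ∈ W)
    (hmax : maximalIdeal W = Ideal.span {(⟨ϖ, hϖW⟩ : W)}) (hϖ1 : W.valuation ϖ < 1)
    (hϖ0 : ϖ ≠ 0) {ϖB : B} (hϖB : Irreducible ϖB) {n : ℕ}
    (hv : W.valuation (g ϖB) = W.valuation ϖ ^ n) :
    letI : Algebra B W := (RingHom.codRestrict g W h.1).toAlgebra
    Ideal.ramificationIdx' (maximalIdeal B) (maximalIdeal W) = n := by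
  letI : Algebra B W := (RingHom.codRestrict g W h.1).toAlgebra
  have hv0 : W.valuation ϖ ≠ 0 := (Valuation.ne_zero_iff _).2 hϖ0
  have hmap : ∀ I : Ideal B, I = Ideal.span {ϖB} →
      Ideal.map (algebraMap B W) I = Ideal.span {algebraMap B W ϖB} := by
    rintro I rfl
    rw [Ideal.map_span, Set.image_singleton]
  have hle : ∀ m : ℕ, Ideal.map (algebraMap B W) (maximalIdeal B) ≤ maximalIdeal W ^ m ↔
      W.valuation (g ϖB) ≤ W.valuation ϖ ^ m := by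
    intro m
    rw [hmap _ hϖB.maximalIdeal_eq, hmax, Ideal.span_singleton_pow,
      Ideal.span_singleton_le_span_singleton]
    constructor
    · rintro ⟨c, hc⟩
      have h1 := congrArg Subtype.val hc
      have h2 : g ϖB = ϖ ^ m * (c : F) := h1
      rw [h2, map_mul, map_pow]
      calc _ ≤ W.valuation ϖ ^ m * 1 := mul_le_mul_right ((W.valuation_le_one_iff _).2 c.2) _
        _ = _ := mul_one _
    · intro hle
      have hmem : g ϖB / ϖ ^ m ∈ W := by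
        rw [← W.valuation_le_one_iff, map_div₀, map_pow]
        exact div_le_one_of_le₀ hle zero_le
      refine ⟨⟨g ϖB / ϖ ^ m, hmem⟩, Subtype.ext ?_⟩
      show g ϖB = ϖ ^ m * (g ϖB / ϖ ^ m)
      field_simp
  apply Ideal.ramificationIdx'_spec
  · rw [hle, hv]
  · rw [hle, hv, not_le, pow_succ]
    calc W.valuation ϖ ^ n * W.valuation ϖ < W.valuation ϖ ^ n * 1 :=
          mul_lt_mul_of_pos_left hϖ1 (zero_lt_iff.2 (pow_ne_zero n hv0))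
      _ = _ := mul_one _

end RamVal

section ThmT
variable {A B₁ B₂ : Type u} [CommRing A] [IsDomain A] [IsDiscreteValuationRing A]
  [CommRing B₁] [IsDomain B₁] [IsDiscreteValuationRing B₁] [Algebra A B₁]
  [IsLocalHom (algebraMap A B₁)]
  [CommRing B₂] [IsDomain B₂] [IsDiscreteValuationRing B₂] [Algebra A B₂]
  [IsLocalHom (algebraMap A B₂)]
  {F : Type u} [Field F] {W : ValuationSubring F}
  {g₁ : B₁ →+* F} {g₂ : B₂ →+* F}

theorem thmT_elements (hcompat : g₁.comp (algebraMap A B₁) = g₂.comp (algebraMap A B₂))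
    (h₁ : Dominates B₁ g₁ W) (h₂ : Dominates B₂ g₂ W)
    (hinj₁ : Function.Injective g₁) (hinj₂ : Function.Injective g₂)
    (hinjA₁ : Function.Injective (algebraMap A B₁)) (hinjA₂ : Function.Injective (algebraMap A B₂))
    {ϖ₁ : B₁} (hϖ₁ : Irreducible ϖ₁) {ϖ₂ : B₂} (hϖ₂ : Irreducible ϖ₂) :
    ∃ (y ϖ : F) (u₁ : B₁ˣ) (u₂ : B₂ˣ) (a b : ℤ) (e₁' e₂' : ℕ),
      0 < e₁' ∧ 0 < e₂' ∧
      Ideal.ramificationIdx' (maximalIdeal A) (maximalIdeal B₁) =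
        Nat.gcd (Ideal.ramificationIdx' (maximalIdeal A) (maximalIdeal B₁))
          (Ideal.ramificationIdx' (maximalIdeal A) (maximalIdeal B₂)) * e₁' ∧
      Ideal.ramificationIdx' (maximalIdeal A) (maximalIdeal B₂) =
        Nat.gcd (Ideal.ramificationIdx' (maximalIdeal A) (maximalIdeal B₁))
          (Ideal.ramificationIdx' (maximalIdeal A) (maximalIdeal B₂)) * e₂' ∧
      W.valuation y = 1 ∧ W.valuation ϖ < 1 ∧ ϖ ≠ 0 ∧
      g₁ ϖ₁ = ϖ ^ e₂' * y ^ a ∧ g₂ ϖ₂ = ϖ ^ e₁' * (y ^ b)⁻¹ ∧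
      y ^ Nat.gcd (Ideal.ramificationIdx' (maximalIdeal A) (maximalIdeal B₁))
          (Ideal.ramificationIdx' (maximalIdeal A) (maximalIdeal B₂)) * g₁ u₁ = g₂ u₂ ∧
      W.valuation (g₁ ϖ₁) = W.valuation ϖ ^ e₂' ∧ W.valuation (g₂ ϖ₂) = W.valuation ϖ ^ e₁' := by
  obtain ⟨π, hπ⟩ := IsDiscreteValuationRing.exists_irreducible A
  set e₁ := Ideal.ramificationIdx' (maximalIdeal A) (maximalIdeal B₁) with he₁
  set e₂ := Ideal.ramificationIdx' (maximalIdeal A) (maximalIdeal B₂) with he₂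
  obtain ⟨u₁, hu₁⟩ := exists_unit_mul_pow hinjA₁ hπ hϖ₁
  obtain ⟨u₂, hu₂⟩ := exists_unit_mul_pow hinjA₂ hπ hϖ₂
  have he₁pos : 0 < e₁ := ramificationIdx_pos A B₁ hinjA₁
  have he₂pos : 0 < e₂ := ramificationIdx_pos A B₂ hinjA₂
  set d := Nat.gcd e₁ e₂ with hd
  have hdpos : 0 < d := Nat.gcd_pos_of_pos_left _ he₁pos
  obtain ⟨e₁', he₁'⟩ : d ∣ e₁ := Nat.gcd_dvd_left _ _
  obtain ⟨e₂', he₂'⟩ : d ∣ e₂ := Nat.gcd_dvd_right _ _
  have he₁'pos : 0 < e₁' := by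
    rcases Nat.eq_zero_or_pos e₁' with h0 | h0
    · rw [h0, mul_zero] at he₁'; omega
    · exact h0
  have he₂'pos : 0 < e₂' := by
    rcases Nat.eq_zero_or_pos e₂' with h0 | h0
    · rw [h0, mul_zero] at he₂'; omega
    · exact h0
  have hcop : Nat.Coprime e₁' e₂' := by
    have := Nat.coprime_div_gcd_div_gcd (m := e₁) (n := e₂) hdpos
    rwa [← hd, he₁', he₂', Nat.mul_div_cancel_left _ hdpos, Nat.mul_div_cancel_left _ hdpos] at this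
  have hbez := Nat.gcd_eq_gcd_ab e₁' e₂'
  rw [hcop.gcd_eq_one] at hbez
  set a := Nat.gcdA e₁' e₂' with ha
  set b := Nat.gcdB e₁' e₂' with hb
  have hab : a * (e₁' : ℤ) + b * e₂' = 1 := by
    have : ((1 : ℕ) : ℤ) = e₁' * a + e₂' * b := hbez
    push_cast at this
    linarith
  set P₁ := g₁ ϖ₁ with hP₁
  set P₂ := g₂ ϖ₂ with hP₂
  have hP₁0 : P₁ ≠ 0 := by
    rw [hP₁, Ne, map_eq_zero_iff _ hinj₁]; exact hϖ₁.ne_zero
  have hP₂0 : P₂ ≠ 0 := by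
    rw [hP₂, Ne, map_eq_zero_iff _ hinj₂]; exact hϖ₂.ne_zero
  have hU₁ : W.valuation (g₁ u₁) = 1 := dom_val_eq_one_of_isUnit h₁ u₁.isUnit
  have hU₂ : W.valuation (g₂ u₂) = 1 := dom_val_eq_one_of_isUnit h₂ u₂.isUnit
  have hU₁0 : g₁ u₁ ≠ 0 := by
    intro h0; rw [h0, map_zero] at hU₁; exact zero_ne_one hU₁
  have hU₂0 : g₂ u₂ ≠ 0 := by
    intro h0; rw [h0, map_zero] at hU₂; exact zero_ne_one hU₂
  have hPi : g₁ u₁ * P₁ ^ e₁ = g₂ u₂ * P₂ ^ e₂ := by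
    have := RingHom.congr_fun hcompat π
    simp only [RingHom.comp_apply] at this
    rw [hu₁, hu₂, map_mul, map_mul, map_pow, map_pow] at this
    exact this
  have hvP₁0 : W.valuation P₁ ≠ 0 := (Valuation.ne_zero_iff _).2 hP₁0
  have hvP₂0 : W.valuation P₂ ≠ 0 := (Valuation.ne_zero_iff _).2 hP₂0
  have hvP : W.valuation P₁ ^ e₁' = W.valuation P₂ ^ e₂' := by
    apply pow_inj_of_pos hdpos.ne'
    rw [← pow_mul, ← pow_mul, mul_comm e₁', mul_comm e₂', ← he₁', ← he₂']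
    have := congrArg W.valuation hPi
    rw [map_mul, map_mul, hU₁, hU₂, one_mul, one_mul, map_pow, map_pow] at this
    exact this
  refine ⟨P₁ ^ e₁' / P₂ ^ e₂', P₁ ^ b * P₂ ^ a, u₁, u₂, a, b, e₁', e₂', he₁'pos, he₂'pos,
    he₁', he₂', ?_, ?_, ?_, ?_, ?_, ?_, ?_, ?_⟩
  · rw [map_div₀, map_pow, map_pow, hvP, div_self (pow_ne_zero _ hvP₂0)]
  · have hval : W.valuation (P₁ ^ b * P₂ ^ a) ^ e₂' = W.valuation P₁ := by
      rw [map_mul, map_zpow₀, map_zpow₀]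
      exact bezout_val₁ hvP₁0 hvP₂0 e₁' e₂' a b hab hvP
    by_contra hcon
    push Not at hcon
    have h1 : 1 ≤ W.valuation (P₁ ^ b * P₂ ^ a) ^ e₂' := one_le_pow₀ hcon
    rw [hval] at h1
    have h2 : W.valuation P₁ < 1 := h₁.2 _ (by rw [mem_maximalIdeal]; exact hϖ₁.not_isUnit)
    exact absurd h2 (not_lt.2 h1)
  · exact mul_ne_zero (zpow_ne_zero _ hP₁0) (zpow_ne_zero _ hP₂0)
  · exact (bezout_id₁ hP₁0 hP₂0 e₁' e₂' a b hab).symm
  · exact (bezout_id₂ hP₁0 hP₂0 e₁' e₂' a b hab).symm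
  · rw [div_pow, ← pow_mul, ← pow_mul, mul_comm e₁', mul_comm e₂', ← he₁', ← he₂']
    have h3 : P₂ ^ e₂ ≠ 0 := pow_ne_zero _ hP₂0
    field_simp
    rw [mul_comm, hPi, mul_comm]
  · rw [map_mul, map_zpow₀, map_zpow₀]
    exact (bezout_val₁ hvP₁0 hvP₂0 e₁' e₂' a b hab hvP).symm
  · rw [map_mul, map_zpow₀, map_zpow₀]
    exact (bezout_val₂ hvP₁0 hvP₂0 e₁' e₂' a b hab hvP).symm

end ThmT

theorem zpow_mem_of_mem_inv_mem {F : Type*} [Field F] {R : Subring F} {y : F} (hy : y ∈ R)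
    (hy' : y⁻¹ ∈ R) (n : ℤ) : y ^ n ∈ R := by
  rcases le_or_gt 0 n with hn | hn
  · obtain ⟨m, rfl⟩ := Int.eq_ofNat_of_zero_le hn
    rw [zpow_natCast]; exact Subring.pow_mem _ hy m
  · obtain ⟨m, hm⟩ := Int.eq_ofNat_of_zero_le (by omega : 0 ≤ -n)
    have : n = -(m : ℤ) := by omega
    rw [this, zpow_neg, zpow_natCast, ← inv_pow]
    exact Subring.pow_mem _ hy' m

section ThmT2
open TensorProduct Polynomial
variable {A B₁ B₂ : Type u} [CommRing A] [IsDomain A] [IsDiscreteValuationRing A]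
  [CommRing B₁] [IsDomain B₁] [IsDiscreteValuationRing B₁] [Algebra A B₁]
  [IsLocalHom (algebraMap A B₁)]
  [CommRing B₂] [IsDomain B₂] [IsDiscreteValuationRing B₂] [Algebra A B₂]
  [IsLocalHom (algebraMap A B₂)]
  {F : Type u} [Field F] {W : ValuationSubring F}
  {g₁ : B₁ →+* F} {g₂ : B₂ →+* F}

/-- the big generated ring -/
def genRing' (g₁ : B₁ →+* F) (g₂ : B₂ →+* F) (y ϖ : F) : Subring F :=
  Subring.closure (Set.range g₁ ∪ Set.range g₂ ∪ {y, y⁻¹, ϖ})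

theorem quotient'_isVNR (hcompat : g₁.comp (algebraMap A B₁) = g₂.comp (algebraMap A B₂))
    {ϖ₁ : B₁} (hϖ₁ : Irreducible ϖ₁) {ϖ₂ : B₂} (hϖ₂ : Irreducible ϖ₂)
    {y ϖ : F} {u₁ : B₁ˣ} {u₂ : B₂ˣ} {a b : ℤ} {e₁' e₂' d : ℕ} (he₁' : 0 < e₁') (he₂' : 0 < e₂')
    (hd : 0 < d) (hy0 : y ≠ 0)
    (hP₁ : g₁ ϖ₁ = ϖ ^ e₂' * y ^ a) (hP₂ : g₂ ϖ₂ = ϖ ^ e₁' * (y ^ b)⁻¹)
    (hyd : y ^ d * g₁ u₁ = g₂ u₂)
    (hVNR : ∀ c : ResidueField B₁ ⊗[ResidueField A] ResidueField B₂, IsUnit c →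
      IsVNR (AdjoinRoot (X ^ d - C c)))
    (hϖR : ϖ ∈ genRing' g₁ g₂ y ϖ) :
    IsVNR (genRing' g₁ g₂ y ϖ ⧸ Ideal.span {(⟨ϖ, hϖR⟩ : genRing' g₁ g₂ y ϖ)}) := by
  set R := genRing' g₁ g₂ y ϖ with hR
  have hg₁R : ∀ b, g₁ b ∈ R := fun b => Subring.subset_closure (Or.inl (Or.inl ⟨b, rfl⟩))
  have hg₂R : ∀ b, g₂ b ∈ R := fun b => Subring.subset_closure (Or.inl (Or.inr ⟨b, rfl⟩))
  have hyR : y ∈ R := Subring.subset_closure (Or.inr (by simp))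
  have hyiR : y⁻¹ ∈ R := Subring.subset_closure (Or.inr (by simp))
  set p : R := ⟨ϖ, hϖR⟩ with hp
  set Qt := R ⧸ Ideal.span {p} with hQt
  let q : R →+* Qt := Ideal.Quotient.mk _
  have hqp : q p = 0 := Ideal.Quotient.eq_zero_iff_mem.2 (Ideal.mem_span_singleton_self p)
  let g₁' : B₁ →+* R := RingHom.codRestrict g₁ R hg₁R
  let g₂' : B₂ →+* R := RingHom.codRestrict g₂ R hg₂R
  let ψ₁ : B₁ →+* Qt := q.comp g₁'
  let ψ₂ : B₂ →+* Qt := q.comp g₂'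
  have hψ₁ : ∀ x ∈ maximalIdeal B₁, ψ₁ x = 0 := by
    intro x hx
    rw [hϖ₁.maximalIdeal_eq, Ideal.mem_span_singleton] at hx
    obtain ⟨c, rfl⟩ := hx
    have hmem : ϖ ^ (e₂' - 1) * y ^ a ∈ R :=
      Subring.mul_mem _ (Subring.pow_mem _ hϖR _) (zpow_mem_of_mem_inv_mem hyR hyiR a)
    have : g₁' (ϖ₁ * c) = p * (⟨ϖ ^ (e₂' - 1) * y ^ a, hmem⟩ * g₁' c) := by
      apply Subtype.ext
      show g₁ (ϖ₁ * c) = ϖ * (ϖ ^ (e₂' - 1) * y ^ a * g₁ c)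
      rw [map_mul, hP₁]
      have : e₂' = (e₂' - 1) + 1 := by omega
      conv_lhs => rw [this, pow_succ]
      ring
    show q (g₁' (ϖ₁ * c)) = 0
    rw [this, map_mul, hqp, zero_mul]
  have hψ₂ : ∀ x ∈ maximalIdeal B₂, ψ₂ x = 0 := by
    intro x hx
    rw [hϖ₂.maximalIdeal_eq, Ideal.mem_span_singleton] at hx
    obtain ⟨c, rfl⟩ := hx
    have hmem : ϖ ^ (e₁' - 1) * (y ^ b)⁻¹ ∈ R := by
      refine Subring.mul_mem _ (Subring.pow_mem _ hϖR _) ?_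
      rw [← zpow_neg]
      exact zpow_mem_of_mem_inv_mem hyR hyiR _
    have : g₂' (ϖ₂ * c) = p * (⟨ϖ ^ (e₁' - 1) * (y ^ b)⁻¹, hmem⟩ * g₂' c) := by
      apply Subtype.ext
      show g₂ (ϖ₂ * c) = ϖ * (ϖ ^ (e₁' - 1) * (y ^ b)⁻¹ * g₂ c)
      rw [map_mul, hP₂]
      have : e₁' = (e₁' - 1) + 1 := by omega
      conv_lhs => rw [this, pow_succ]
      ring
    show q (g₂' (ϖ₂ * c)) = 0
    rw [this, map_mul, hqp, zero_mul]
  have hcomm : ∀ a : A, ψ₁ (algebraMap A B₁ a) = ψ₂ (algebraMap A B₂ a) := by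
    intro a
    show q (g₁' _) = q (g₂' _)
    congr 1
    apply Subtype.ext
    exact RingHom.congr_fun hcompat a
  let ψb₁ : ResidueField B₁ →+* Qt := Ideal.Quotient.lift (maximalIdeal B₁) ψ₁ hψ₁
  let ψb₂ : ResidueField B₂ →+* Qt := Ideal.Quotient.lift (maximalIdeal B₂) ψ₂ hψ₂
  letI : Algebra (ResidueField A) Qt :=
    (ψb₁.comp (algebraMap (ResidueField A) (ResidueField B₁))).toAlgebra
  let φ₁ : ResidueField B₁ →ₐ[ResidueField A] Qt := { ψb₁ with commutes' := fun r => rfl }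
  let φ₂ : ResidueField B₂ →ₐ[ResidueField A] Qt :=
    { ψb₂ with
      commutes' := fun r => by
        obtain ⟨a, rfl⟩ := residue_surjective r
        show ψb₂ (algebraMap (ResidueField A) (ResidueField B₂) (residue A a)) =
          ψb₁ (algebraMap (ResidueField A) (ResidueField B₁) (residue A a))
        rw [ResidueField.algebraMap_residue, ResidueField.algebraMap_residue]
        exact (hcomm a).symm }
  let Φ₀ := Algebra.TensorProduct.productMap φ₁ φ₂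
  set cE : ResidueField B₁ ⊗[ResidueField A] ResidueField B₂ :=
    residue B₁ ((u₁⁻¹ : B₁ˣ) : B₁) ⊗ₜ residue B₂ (u₂ : B₂) with hcE
  set cE' : ResidueField B₁ ⊗[ResidueField A] ResidueField B₂ :=
    residue B₁ (u₁ : B₁) ⊗ₜ residue B₂ ((u₂⁻¹ : B₂ˣ) : B₂) with hcE'
  have hcc : cE * cE' = 1 := by
    rw [hcE, hcE', Algebra.TensorProduct.tmul_mul_tmul, ← map_mul, ← map_mul, Units.inv_mul,
      Units.mul_inv, map_one, map_one]
    rfl
  have hunit : IsUnit cE := IsUnit.of_mul_eq_one _ hcc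
  set ybar : Qt := q ⟨y, hyR⟩ with hybar
  have hΦc : Φ₀ cE = ybar ^ d := by
    show φ₁ (residue B₁ ((u₁⁻¹ : B₁ˣ) : B₁)) * φ₂ (residue B₂ (u₂ : B₂)) = ybar ^ d
    show q (g₁' ((u₁⁻¹ : B₁ˣ) : B₁)) * q (g₂' (u₂ : B₂)) = (q ⟨y, hyR⟩) ^ d
    rw [← map_mul, ← map_pow]
    congr 1
    apply Subtype.ext
    show g₁ ((u₁⁻¹ : B₁ˣ) : B₁) * g₂ (u₂ : B₂) = y ^ d
    rw [← hyd, mul_comm, mul_assoc, ← map_mul, Units.mul_inv, map_one, mul_one]
  have hΦc' : ybar ^ d * Φ₀ cE' = 1 := by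
    rw [← hΦc, ← map_mul, hcc, map_one]
  let Ψ : AdjoinRoot (X ^ d - C cE) →+* Qt :=
    AdjoinRoot.lift Φ₀.toRingHom ybar (by
      rw [eval₂_sub, eval₂_pow, eval₂_X, eval₂_C]
      show ybar ^ d - Φ₀ cE = 0
      rw [hΦc, sub_self])
  refine IsVNR.of_surjective Ψ ?_ (hVNR cE hunit)
  intro c
  obtain ⟨r, rfl⟩ := Ideal.Quotient.mk_surjective c
  obtain ⟨r, hr⟩ := r
  have hΨof : ∀ t, Ψ (AdjoinRoot.of _ t) = Φ₀ t := fun t => AdjoinRoot.lift_of _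
  have hΨroot : Ψ (AdjoinRoot.root _) = ybar := AdjoinRoot.lift_root _
  induction hr using Subring.closure_induction with
  | mem x hx =>
    rcases hx with (⟨b, rfl⟩ | ⟨b, rfl⟩) | hx
    · refine ⟨AdjoinRoot.of _ (residue B₁ b ⊗ₜ 1), ?_⟩
      rw [hΨof]
      show φ₁ (residue B₁ b) * φ₂ 1 = _
      rw [map_one, mul_one]; rfl
    · refine ⟨AdjoinRoot.of _ (1 ⊗ₜ residue B₂ b), ?_⟩
      rw [hΨof]
      show φ₁ 1 * φ₂ (residue B₂ b) = _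
      rw [map_one, one_mul]; rfl
    · simp only [Set.mem_insert_iff, Set.mem_singleton_iff] at hx
      rcases hx with rfl | rfl | rfl
      · exact ⟨AdjoinRoot.root _, hΨroot⟩
      · refine ⟨AdjoinRoot.root _ ^ (d - 1) * AdjoinRoot.of _ cE', ?_⟩
        rw [map_mul, map_pow, hΨroot, hΨof]
        have h1 : ybar * (Ideal.Quotient.mk (Ideal.span {p}) ⟨y⁻¹, hyiR⟩) = 1 := by
          rw [hybar]
          show q _ * q _ = 1
          rw [← map_mul]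
          have : (⟨y, hyR⟩ : R) * ⟨y⁻¹, hyiR⟩ = 1 := Subtype.ext (mul_inv_cancel₀ hy0)
          rw [this, map_one]
        have h2 : ybar * (ybar ^ (d - 1) * Φ₀ cE') = 1 := by
          rw [← mul_assoc, ← pow_succ']
          have : d - 1 + 1 = d := by omega
          rw [this, hΦc']
        calc ybar ^ (d - 1) * Φ₀ cE'
            = (ybar * (Ideal.Quotient.mk (Ideal.span {p}) ⟨y⁻¹, hyiR⟩)) *
                (ybar ^ (d - 1) * Φ₀ cE') := by rw [h1, one_mul]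
          _ = (Ideal.Quotient.mk (Ideal.span {p}) ⟨y⁻¹, hyiR⟩) *
                (ybar * (ybar ^ (d - 1) * Φ₀ cE')) := by ring
          _ = _ := by rw [h2, mul_one]
      · exact ⟨0, by rw [map_zero]; exact hqp.symm⟩
  | zero => exact ⟨0, by simp; rfl⟩
  | one => exact ⟨1, by simp; rfl⟩
  | add x y hx hy ihx ihy =>
    obtain ⟨a, ha⟩ := ihx
    obtain ⟨b, hb⟩ := ihy
    refine ⟨a + b, ?_⟩
    rw [map_add, ha, hb]
    rfl
  | neg x hx ihx =>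
    obtain ⟨a, ha⟩ := ihx
    refine ⟨-a, ?_⟩
    rw [map_neg, ha]
    rfl
  | mul x y hx hy ihx ihy =>
    obtain ⟨a, ha⟩ := ihx
    obtain ⟨b, hb⟩ := ihy
    refine ⟨a * b, ?_⟩
    rw [map_mul, ha, hb]
    rfl

end ThmT2

end Groth.Agent.Helper9.EtRamLib
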