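import Mathlib
import Groth.Prelude.Def_EtRam
import Groth.Agent.Lib.Helper9.EtRam.Dom10

set_option autoImplicit false
set_option linter.style.haveILetI false

namespace Groth.Agent.Helper9.EtRamLib
open IsLocalRing EtRam

universe u

section ThmT3
open TensorProduct Polynomial
variable {A B₁ B₂ : Type u} [CommRing A] [IsDomain A] [IsDiscreteValuationRing A]
  [CommRing B₁] [IsDomain B₁] [IsDiscreteValuationRing B₁] [Algebra A B₁]
  [IsLocalHom (algebraMap A B₁)]
  [CommRing B₂] [IsDomain B₂] [IsDiscreteValuationRing B₂] [Algebra A B₂]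
  [IsLocalHom (algebraMap A B₂)]
  {F : Type u} [Field F] {W : ValuationSubring F}
  {g₁ : B₁ →+* F} {g₂ : B₂ →+* F}

theorem thmT_main [IsDiscreteValuationRing W]
    (hcompat : g₁.comp (algebraMap A B₁) = g₂.comp (algebraMap A B₂))
    (h₁ : Dominates B₁ g₁ W) (h₂ : Dominates B₂ g₂ W)
    (hgen : Subfield.closure (Set.range g₁ ∪ Set.range g₂) = ⊤)
    {ϖ₁ : B₁} (hϖ₁ : Irreducible ϖ₁) {ϖ₂ : B₂} (hϖ₂ : Irreducible ϖ₂)
    {y ϖ : F} {u₁ : B₁ˣ} {u₂ : B₂ˣ} {a b : ℤ} {e₁' e₂' d : ℕ} (he₁' : 0 < e₁') (he₂' : 0 < e₂')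
    (hd : 0 < d) (hy1 : W.valuation y = 1) (hϖ1 : W.valuation ϖ < 1) (hϖ0 : ϖ ≠ 0)
    (hP₁ : g₁ ϖ₁ = ϖ ^ e₂' * y ^ a) (hP₂ : g₂ ϖ₂ = ϖ ^ e₁' * (y ^ b)⁻¹)
    (hyd : y ^ d * g₁ u₁ = g₂ u₂)
    (hVNR : ∀ c : ResidueField B₁ ⊗[ResidueField A] ResidueField B₂, IsUnit c →
      IsVNR (AdjoinRoot (X ^ d - C c))) :
    (∃ hϖW : ϖ ∈ W, maximalIdeal W = Ideal.span {(⟨ϖ, hϖW⟩ : W)}) ∧
    ∀ x : ResidueField W, ∃ r ∈ Subring.closure (Set.range g₁ ∪ Set.range g₂ ∪ {y, y⁻¹}),
      ∃ hr : r ∈ W, residue W ⟨r, hr⟩ = x := by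
  have hy0 : y ≠ 0 := by
    intro h0; rw [h0, map_zero] at hy1; exact zero_ne_one hy1
  set R := genRing' g₁ g₂ y ϖ with hRdef
  have hϖR : ϖ ∈ R := Subring.subset_closure (Or.inr (by simp))
  have hyW : y ∈ W := (W.valuation_le_one_iff _).1 hy1.le
  have hyiW : y⁻¹ ∈ W := by
    rw [← W.valuation_le_one_iff, map_inv₀, hy1, inv_one]
  have hϖW : ϖ ∈ W := (W.valuation_le_one_iff _).1 hϖ1.le
  have hR : R ≤ W.toSubring := by
    refine Subring.closure_le.2 ?_
    rintro x ((⟨b, rfl⟩ | ⟨b, rfl⟩) | hx)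
    · exact h₁.1 b
    · exact h₂.1 b
    · simp only [Set.mem_insert_iff, Set.mem_singleton_iff] at hx
      rcases hx with rfl | rfl | rfl
      · exact hyW
      · exact hyiW
      · exact hϖW
  have hV := quotient'_isVNR hcompat hϖ₁ hϖ₂ he₁' he₂' hd hy0 hP₁ hP₂ hyd hVNR hϖR
  have hgen' : ∀ x : F, ∃ y' ∈ R, ∃ z ∈ R, y' / z = x := by
    intro x
    have hx : x ∈ Subfield.closure (Set.range g₁ ∪ Set.range g₂) := by rw [hgen]; trivial
    rw [Subfield.mem_closure_iff] at hx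
    obtain ⟨y', hy', z, hz, rfl⟩ := hx
    have hle : Subring.closure (Set.range g₁ ∪ Set.range g₂) ≤ R :=
      Subring.closure_mono Set.subset_union_left
    exact ⟨y', hle hy', z, hle hz, rfl⟩
  refine ⟨⟨hϖW, absU_maximalIdeal hR hϖR hϖ1 hϖ0 hV hgen'⟩, fun x => ?_⟩
  obtain ⟨r, hr, rfl⟩ := absU_res hR hϖR hϖ1 hϖ0 hV hgen' x
  -- remove ϖ
  set R₀ := Subring.closure (Set.range g₁ ∪ Set.range g₂ ∪ {y, y⁻¹}) with hR₀
  have hR₀R : R₀ ≤ R := by
    apply Subring.closure_mono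
    apply Set.union_subset_union_right
    intro z hz
    simp only [Set.mem_insert_iff, Set.mem_singleton_iff] at hz ⊢
    rcases hz with rfl | rfl
    · exact Or.inl rfl
    · exact Or.inr (Or.inl rfl)
  have key : ∀ r ∈ R, ∃ r' ∈ R₀, W.valuation (r - r') < 1 := by
    intro r hr
    induction hr using Subring.closure_induction with
    | mem x hx =>
      rcases hx with hx | hx
      · exact ⟨x, Subring.subset_closure (Or.inl hx), by simp⟩
      · simp only [Set.mem_insert_iff, Set.mem_singleton_iff] at hx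
        rcases hx with rfl | rfl | rfl
        · exact ⟨x, Subring.subset_closure (Or.inr (by simp)), by simp⟩
        · exact ⟨y⁻¹, Subring.subset_closure (Or.inr (by simp)), by simp⟩
        · exact ⟨0, Subring.zero_mem _, by simpa using hϖ1⟩
    | zero => exact ⟨0, Subring.zero_mem _, by simp⟩
    | one => exact ⟨1, Subring.one_mem _, by simp⟩
    | add x z hx hz ihx ihz =>
      obtain ⟨x', hx', hxv⟩ := ihx
      obtain ⟨z', hz', hzv⟩ := ihz
      refine ⟨x' + z', Subring.add_mem _ hx' hz', ?_⟩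
      have : x + z - (x' + z') = (x - x') + (z - z') := by ring
      rw [this]
      exact lt_of_le_of_lt (Valuation.map_add _ _ _) (max_lt hxv hzv)
    | neg x hx ihx =>
      obtain ⟨x', hx', hxv⟩ := ihx
      refine ⟨-x', Subring.neg_mem _ hx', ?_⟩
      have : -x - -x' = -(x - x') := by ring
      rw [this, Valuation.map_neg]
      exact hxv
    | mul x z hx hz ihx ihz =>
      obtain ⟨x', hx', hxv⟩ := ihx
      obtain ⟨z', hz', hzv⟩ := ihz
      refine ⟨x' * z', Subring.mul_mem _ hx' hz', ?_⟩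
      have : x * z - x' * z' = (x - x') * z + x' * (z - z') := by ring
      rw [this]
      refine lt_of_le_of_lt (Valuation.map_add _ _ _) (max_lt ?_ ?_)
      · rw [map_mul]
        calc W.valuation (x - x') * W.valuation z ≤ W.valuation (x - x') * 1 :=
              mul_le_mul_right (absU_val_le hR hz) _
          _ < 1 := by rwa [mul_one]
      · rw [map_mul]
        calc W.valuation x' * W.valuation (z - z') ≤ 1 * W.valuation (z - z') :=
              mul_le_mul_left (absU_val_le hR (hR₀R hx')) _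
          _ < 1 := by rwa [one_mul]
  obtain ⟨r', hr', hv⟩ := key r hr
  refine ⟨r', hr', hR (hR₀R hr'), ?_⟩
  rw [← sub_eq_zero, ← map_sub, residue_eq_zero_iff, ValuationSubring.valuation_lt_one_iff]
  show W.valuation (r' - r) < 1
  rw [← Valuation.map_neg]
  have : -(r' - r) = r - r' := by ring
  rw [this]; exact hv

end ThmT3

end Groth.Agent.Helper9.EtRamLib
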