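import Mathlib
import Groth.Prelude.Def_EtRam
import Groth.Agent.Lib.Helper9.EtRam.Dom11

set_option autoImplicit false
set_option linter.style.haveILetI false

namespace Groth.Agent.Helper9.EtRamLib
open IsLocalRing EtRam Polynomial

universe u

theorem isVNR_of_unramified_field (k E : Type u) [Field k] [CommRing E] [Algebra k E]
    [Algebra.EssFiniteType k E] [Algebra.FormallyUnramified k E] : IsVNR E := by
  haveI : Module.Finite k E := Algebra.FormallyUnramified.finite_of_free k E
  haveI : IsReduced E := Algebra.FormallyUnramified.isReduced_of_field k E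
  haveI : IsArtinianRing E := IsArtinianRing.of_finite k E
  exact isVNR_of_reduced_artinian E

theorem formallyUnramified_adjoinRoot_pow_sub {E : Type u} [CommRing E] {d : ℕ}
    (hd : IsUnit (d : E)) {c : E} (hc : IsUnit c) :
    Algebra.FormallyUnramified E (AdjoinRoot (X ^ d - C c : E[X])) := by
  rw [Algebra.FormallyUnramified.iff_comp_injective]
  intro B _ _ I hI f₁ f₂ e
  apply AdjoinRoot.algHom_ext
  by_cases hd0 : d = 0
  · rw [hd0, Nat.cast_zero] at hd
    have hE : (0 : E) = 1 := by
      obtain ⟨u, hu⟩ := hd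
      have := u.mul_inv
      rw [hu, zero_mul] at this
      exact this
    have h01 : (0 : B) = 1 := by
      rw [← map_zero (algebraMap E B), ← map_one (algebraMap E B), hE]
    haveI : Subsingleton B := subsingleton_of_zero_eq_one h01
    exact Subsingleton.elim _ _
  have hdpos : 0 < d := Nat.pos_of_ne_zero hd0
  generalize hx₁ : f₁ (AdjoinRoot.root _) = x₁
  generalize hx₂ : f₂ (AdjoinRoot.root _) = x₂
  have hmem : x₁ - x₂ ∈ I := by
    have := AlgHom.congr_fun e (AdjoinRoot.root _)
    rw [← hx₁, ← hx₂]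
    simpa [Ideal.Quotient.mk_eq_mk_iff_sub_mem] using this
  have hroot : ∀ g : AdjoinRoot (X ^ d - C c : E[X]) →ₐ[E] B,
      (g (AdjoinRoot.root _)) ^ d = algebraMap E B c := by
    intro g
    have h0 : aeval (g (AdjoinRoot.root _)) (X ^ d - C c : E[X]) = 0 := by
      rw [aeval_algHom_apply, AdjoinRoot.aeval_eq, AdjoinRoot.mk_self, map_zero]
    simpa [sub_eq_zero] using h0
  have hx₁d : x₁ ^ d = algebraMap E B c := hx₁ ▸ hroot f₁
  have hx₂d : x₂ ^ d = algebraMap E B c := hx₂ ▸ hroot f₂
  have h1 := Polynomial.eval_add_of_sq_eq_zero ((X ^ d - C c : E[X]).map (algebraMap E B)) x₂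
    (x₁ - x₂) (show (x₁ - x₂) ^ 2 ∈ (⊥ : Ideal B) from hI ▸ Ideal.pow_mem_pow hmem 2)
  simp only [add_sub_cancel, Polynomial.map_sub, Polynomial.map_pow, map_X, map_C, eval_sub,
    eval_pow, eval_X, eval_C, hx₁d, hx₂d, sub_self, derivative_sub, derivative_C, sub_zero,
    derivative_X_pow, eval_mul, zero_add] at h1
  have hx₂u : IsUnit x₂ := by
    have : IsUnit (x₂ ^ d) := hx₂d ▸ hc.map (algebraMap E B)
    exact (isUnit_pow_iff hdpos.ne').1 this
  have hder : IsUnit ((algebraMap E B) (d : E) * x₂ ^ (d - 1)) :=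
    IsUnit.mul (hd.map (algebraMap E B)) (hx₂u.pow _)
  have h2 : x₁ - x₂ = 0 := by
    have h3 := h1.symm
    simp only [map_natCast] at hder
    exact (hder.mul_right_eq_zero).1 h3
  exact sub_eq_zero.1 h2

theorem isVNR_adjoinRoot_of_unramified (k E : Type u) [Field k] [CommRing E] [Algebra k E]
    [Algebra.EssFiniteType k E] [Algebra.FormallyUnramified k E] {d : ℕ} (hd : (d : k) ≠ 0)
    {c : E} (hc : IsUnit c) : IsVNR (AdjoinRoot (X ^ d - C c : E[X])) := by
  have hdE : IsUnit (d : E) := by
    have := (isUnit_iff_ne_zero.2 hd).map (algebraMap k E)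
    simpa using this
  haveI := formallyUnramified_adjoinRoot_pow_sub hdE hc
  haveI : Algebra.FormallyUnramified k (AdjoinRoot (X ^ d - C c : E[X])) :=
    Algebra.FormallyUnramified.comp k E _
  haveI : Algebra.FiniteType E (AdjoinRoot (X ^ d - C c : E[X])) := inferInstance
  haveI : Algebra.EssFiniteType k (AdjoinRoot (X ^ d - C c : E[X])) :=
    Algebra.EssFiniteType.comp k E _
  exact isVNR_of_unramified_field k _

end Groth.Agent.Helper9.EtRamLib
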