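import Mathlib
import Groth.Prelude.Def_EtRam
import Groth.Agent.Lib.Helper9.EtRam.Dom12

set_option autoImplicit false
set_option linter.style.haveILetI false

namespace Groth.Agent.Helper9.EtRamLib
open IsLocalRing EtRam TensorProduct Polynomial

universe u

/-- an element whose `d`-th power lies in the separable closure (with `d` invertible) lies in the
separable closure. -/
theorem mem_separableClosure_of_pow {k E : Type*} [Field k] [Field E] [Algebra k E] {d : ℕ}
    (hd : (d : k) ≠ 0) {y : E} (hy0 : y ≠ 0) (hy : y ^ d ∈ separableClosure k E) :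
    y ∈ separableClosure k E := by
  set S := separableClosure k E with hS
  have hdS : ((d : ℕ) : S) ≠ 0 := by
    intro h0
    apply hd
    have := congrArg (algebraMap S E) h0
    simp only [map_natCast, map_zero] at this
    have h2 : algebraMap k E (d : k) = 0 := by simpa using this
    exact (map_eq_zero _).1 h2
  have hs0 : (⟨y ^ d, hy⟩ : S) ≠ 0 := by
    intro h0
    have := congrArg Subtype.val h0
    exact pow_ne_zero d hy0 this
  have hsep : (X ^ d - C (⟨y ^ d, hy⟩ : S) : S[X]).Separable :=
    Polynomial.separable_X_pow_sub_C _ hdS hs0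
  have hroot : aeval y (X ^ d - C (⟨y ^ d, hy⟩ : S) : S[X]) = 0 := by
    simp only [map_sub, map_pow, aeval_X, aeval_C]
    exact sub_self _
  have hysep : IsSeparable S y := hsep.of_dvd (minpoly.dvd S y hroot)
  have : y ∈ separableClosure S E := mem_separableClosure_iff.2 hysep
  rw [separableClosure.separableClosure_eq_bot] at this
  obtain ⟨s, hs⟩ := this
  rw [← hs]
  exact s.2

section TameCore
variable {A B K L K' : Type u} [CommRing A] [IsDomain A]
    [IsDiscreteValuationRing A] [CommRing B] [IsDomain B] [IsDiscreteValuationRing B] [Algebra A B]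
    [IsLocalHom (algebraMap A B)]
    [Field K] [Field L] [Field K'] [Algebra A K] [IsFractionRing A K] [Algebra B L] [IsFractionRing B L]
    [Algebra K L] [Algebra A L] [IsScalarTower A K L] [IsScalarTower A B L]
    [Algebra K K'] [FiniteDimensional K K']
    {F : Type u} [Field F] [Algebra L F] [FiniteDimensional L F]

/-- Tamely ramified extensions stay tamely ramified after base change along an extension of
DVRs. -/
theorem tame_base_change (hinj : Function.Injective (algebraMap A B))
    (h : IsTamelyRamified A ((algebraMap K K').comp (algebraMap A K)))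
    (φ : K' →+* F) (hφ : φ.comp (algebraMap K K') = (algebraMap L F).comp (algebraMap K L))
    (hgen : Subfield.closure (Set.range φ ∪ Set.range (algebraMap L F)) = ⊤) :
    IsTamelyRamified B ((algebraMap L F).comp (algebraMap B L)) := by
  intro W hW iW
  set gF := (algebraMap L F).comp (algebraMap B L) with hgF
  set gK' := (algebraMap K K').comp (algebraMap A K) with hgK'
  set V' := W.comap φ with hV'
  have hcompat0 : φ.comp gK' = gF.comp (algebraMap A B) := by
    ext a
    simp only [gK', gF, RingHom.comp_apply]
    have := RingHom.congr_fun hφ (algebraMap A K a)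
    simp only [RingHom.comp_apply] at this
    rw [this, ← IsScalarTower.algebraMap_apply A K L, ← IsScalarTower.algebraMap_apply A B L]
  have hWA : Dominates A (φ.comp gK') W := hcompat0 ▸ dom_comp_local hW
  have hV'dom : Dominates A gK' V' := dom_comap hWA
  haveI : IsDiscreteValuationRing V' :=
    isDVR_of_dominates (A := A) (K := K) (g := gK') (fun a => rfl) hV'dom
  have hgFinj : Function.Injective gF :=
    (algebraMap L F).injective.comp (IsFractionRing.injective B L)
  haveI : IsDiscreteValuationRing W :=
    isDVR_of_dominates (A := B) (K := L) (g := gF) (fun a => rfl) hW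
  letI algAV' : Algebra A V' := (RingHom.codRestrict gK' V' hV'dom.1).toAlgebra
  haveI : IsLocalHom (algebraMap A V') := dom_isLocalHom hV'dom
  obtain ⟨hsep, htame⟩ := h V' hV'dom
  haveI hfin : Module.Finite (ResidueField A) (ResidueField V') :=
    finite_residue_of_dominates (A := A) (K := K) (g := gK') (fun a => rfl) hV'dom
  have hV'W : Dominates V' (φ.comp V'.subtype) W := dom_self_comap W φ
  have hcompat : gF.comp (algebraMap A B) = (φ.comp V'.subtype).comp (algebraMap A V') := by
    rw [← hcompat0]; rfl
  have hinjAV' : Function.Injective (algebraMap A V') := by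
    apply codRestrict_injective _ hV'dom.1
    exact (algebraMap K K').injective.comp (IsFractionRing.injective A K)
  have hg₂inj : Function.Injective (φ.comp V'.subtype) :=
    fun a b hab => Subtype.ext (φ.injective hab)
  obtain ⟨ϖB, hϖB⟩ := IsDiscreteValuationRing.exists_irreducible B
  obtain ⟨ϖ', hϖ'⟩ := IsDiscreteValuationRing.exists_irreducible V'
  have hgen0 := closure_eq_top_of_fields (B := B) hgen V'
  have hgen' : Subfield.closure (Set.range gF ∪ Set.range (φ.comp V'.subtype)) = ⊤ := by
    rw [Set.union_comm]; exact hgen0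
  obtain ⟨y, ϖ, u₁, u₂, a, b, e₁', e₂', he₁', he₂', hE₁, hE₂, hy1, hϖ1, hϖ0, hP₁, hP₂, hyd,
    hv₁, hv₂⟩ := thmT_elements hcompat hW hV'W hgFinj hg₂inj hinj hinjAV' hϖB hϖ'
  set eB := Ideal.ramificationIdx' (maximalIdeal A) (maximalIdeal B) with heB
  set e' := Ideal.ramificationIdx' (maximalIdeal A) (maximalIdeal V') with he'
  set d := Nat.gcd eB e' with hd
  have hdpos : 0 < d := Nat.gcd_pos_of_pos_left _ (ramificationIdx_pos A B hinj)
  -- d is invertible in κ(B)
  have hdne : ((d : ℕ) : ResidueField B) ≠ 0 := by
    obtain ⟨p, hp⟩ := CharP.exists (ResidueField B)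
    rcases CharP.char_is_prime_or_zero (ResidueField B) p with hpp | hp0
    · intro h0
      rw [CharP.cast_eq_zero_iff (ResidueField B) p] at h0
      haveI : CharP (ResidueField A) p :=
        (Algebra.charP_iff (ResidueField A) (ResidueField B) p).2 hp
      apply htame p hpp inferInstance
      exact dvd_trans h0 (Nat.gcd_dvd_right _ _)
    · subst hp0
      haveI := CharP.charP_to_charZero (ResidueField B)
      exact Nat.cast_ne_zero.2 hdpos.ne'
  have hVNR : ∀ c : ResidueField B ⊗[ResidueField A] ResidueField V', IsUnit c →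
      IsVNR (AdjoinRoot (X ^ d - C c)) := by
    intro c hc
    haveI : Algebra.FormallyUnramified (ResidueField A) (ResidueField V') :=
      Algebra.FormallyUnramified.of_isSeparable _ _
    exact isVNR_adjoinRoot_of_unramified (ResidueField B) _ hdne hc
  obtain ⟨⟨hϖW, hmax⟩, hres⟩ := thmT_main hcompat hW hV'W hgen' hϖB hϖ' he₁' he₂' hdpos hy1 hϖ1
    hϖ0 hP₁ hP₂ hyd hVNR
  have hram := ramIdx_eq_of_val hW hϖW hmax hϖ1 hϖ0 hϖB hv₁
  letI algBW : Algebra B W := (RingHom.codRestrict gF W hW.1).toAlgebra
  refine ⟨?_, fun p hpp hchar hdvd => ?_⟩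
  swap
  · rw [hram] at hdvd
    haveI : CharP (ResidueField A) p :=
      (Algebra.charP_iff (ResidueField A) (ResidueField B) p).2 hchar
    apply htame p hpp inferInstance
    rw [hE₂]
    exact dvd_trans hdvd (Dvd.intro_left _ rfl)
  -- separability
  letI algV'W : Algebra V' W := (RingHom.codRestrict (φ.comp V'.subtype) W hV'W.1).toAlgebra
  haveI : IsLocalHom (algebraMap V' W) := dom_isLocalHom hV'W
  letI algAW : Algebra A W := ((algebraMap B W).comp (algebraMap A B)).toAlgebra
  haveI : IsScalarTower A B W := IsScalarTower.of_algebraMap_eq (fun a => rfl)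
  haveI : IsScalarTower A V' W := IsScalarTower.of_algebraMap_eq
    (fun a => Subtype.ext (RingHom.congr_fun hcompat a))
  haveI : IsLocalHom (algebraMap A W) := by
    rw [IsScalarTower.algebraMap_eq A B W]
    exact RingHom.isLocalHom_comp _ _
  set S := separableClosure (ResidueField B) (ResidueField W) with hS
  have hV'S : ∀ v : V', algebraMap (ResidueField V') (ResidueField W) (residue V' v) ∈ S := by
    intro v
    have h1 : IsSeparable (ResidueField A) (residue V' v) :=
      Algebra.IsSeparable.isSeparable _ _
    have h2 : IsSeparable (ResidueField A)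
        (algebraMap (ResidueField V') (ResidueField W) (residue V' v)) := by
      rw [IsSeparable, minpoly.algebraMap_eq
        (algebraMap (ResidueField V') (ResidueField W)).injective]
      exact h1
    exact mem_separableClosure_iff.2 (h2.tower_top (ResidueField B))
  have hBS : ∀ b : B, algebraMap (ResidueField B) (ResidueField W) (residue B b) ∈ S :=
    fun b => S.algebraMap_mem _
  have hyW : y ∈ W := (W.valuation_le_one_iff _).1 hy1.le
  have hyiW : y⁻¹ ∈ W := by
    rw [← W.valuation_le_one_iff, map_inv₀, hy1, inv_one]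
  have hy0 : y ≠ 0 := by
    intro h0; rw [h0, map_zero] at hy1; exact zero_ne_one hy1
  have hyy : residue W ⟨y, hyW⟩ * residue W ⟨y⁻¹, hyiW⟩ = 1 := by
    rw [← map_mul]
    have : (⟨y, hyW⟩ : W) * ⟨y⁻¹, hyiW⟩ = 1 := Subtype.ext (mul_inv_cancel₀ hy0)
    rw [this, map_one]
  have hybar0 : residue W ⟨y, hyW⟩ ≠ 0 := left_ne_zero_of_mul_eq_one hyy
  have hybarS : residue W ⟨y, hyW⟩ ∈ S := by
    apply mem_separableClosure_of_pow hdne hybar0
    have h1 : residue W ⟨y, hyW⟩ ^ d *
        algebraMap (ResidueField B) (ResidueField W) (residue B (u₁ : B)) =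
        algebraMap (ResidueField V') (ResidueField W) (residue V' (u₂ : V')) := by
      rw [ResidueField.algebraMap_residue, ResidueField.algebraMap_residue, ← map_pow, ← map_mul]
      congr 1
      exact Subtype.ext hyd
    have hu₁0 : algebraMap (ResidueField B) (ResidueField W) (residue B (u₁ : B)) ≠ 0 := by
      rw [Ne, map_eq_zero, residue_eq_zero_iff, mem_maximalIdeal, mem_nonunits_iff, not_not]
      exact u₁.isUnit
    have h2 : residue W ⟨y, hyW⟩ ^ d =
        algebraMap (ResidueField V') (ResidueField W) (residue V' (u₂ : V')) *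
        (algebraMap (ResidueField B) (ResidueField W) (residue B (u₁ : B)))⁻¹ := by
      rw [← h1, mul_assoc, mul_inv_cancel₀ hu₁0, mul_one]
    rw [h2]
    exact S.mul_mem (hV'S _) (S.inv_mem (hBS _))
  have hyibarS : residue W ⟨y⁻¹, hyiW⟩ ∈ S := by
    have : residue W ⟨y⁻¹, hyiW⟩ = (residue W ⟨y, hyW⟩)⁻¹ :=
      eq_inv_of_mul_eq_one_right hyy
    rw [this]
    exact S.inv_mem hybarS
  have hR₀W : Subring.closure (Set.range gF ∪ Set.range (φ.comp V'.subtype) ∪ {y, y⁻¹}) ≤
      W.toSubring := by
    refine Subring.closure_le.2 ?_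
    rintro x ((⟨b, rfl⟩ | ⟨v, rfl⟩) | hx)
    · exact hW.1 b
    · exact hV'W.1 v
    · simp only [Set.mem_insert_iff, Set.mem_singleton_iff] at hx
      rcases hx with rfl | rfl
      · exact hyW
      · exact hyiW
  have key : ∀ r ∈ Subring.closure (Set.range gF ∪ Set.range (φ.comp V'.subtype) ∪ {y, y⁻¹}),
      ∀ hrW : r ∈ W, residue W ⟨r, hrW⟩ ∈ S := by
    intro r hr
    induction hr using Subring.closure_induction with
    | mem x hx =>
      rcases hx with (⟨b, rfl⟩ | ⟨v, rfl⟩) | hx
      · intro hrW; exact hBS b
      · intro hrW; exact hV'S v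
      · simp only [Set.mem_insert_iff, Set.mem_singleton_iff] at hx
        rcases hx with rfl | rfl
        · intro hrW; exact hybarS
        · intro hrW; exact hyibarS
    | zero =>
      intro hrW
      have : residue W ⟨0, hrW⟩ = 0 := map_zero _
      rw [this]; exact zero_mem _
    | one =>
      intro hrW
      have : residue W ⟨1, hrW⟩ = 1 := map_one _
      rw [this]; exact one_mem _
    | add x z hx hz ihx ihz =>
      intro hrW
      have hxW := hR₀W hx
      have hzW := hR₀W hz
      have : residue W ⟨x + z, hrW⟩ = residue W ⟨x, hxW⟩ + residue W ⟨z, hzW⟩ := by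
        rw [← map_add]; rfl
      rw [this]; exact add_mem (ihx hxW) (ihz hzW)
    | neg x hx ihx =>
      intro hrW
      have hxW := hR₀W hx
      have : residue W ⟨-x, hrW⟩ = - residue W ⟨x, hxW⟩ := by
        rw [← map_neg]; rfl
      rw [this]; exact neg_mem (ihx hxW)
    | mul x z hx hz ihx ihz =>
      intro hrW
      have hxW := hR₀W hx
      have hzW := hR₀W hz
      have : residue W ⟨x * z, hrW⟩ = residue W ⟨x, hxW⟩ * residue W ⟨z, hzW⟩ := by
        rw [← map_mul]; rfl
      rw [this]; exact mul_mem (ihx hxW) (ihz hzW)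
  constructor
  intro x
  obtain ⟨r, hr, hrW, rfl⟩ := hres x
  exact mem_separableClosure_iff.1 (key r hr hrW)

end TameCore

end Groth.Agent.Helper9.EtRamLib
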