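import Mathlib
import Groth.Prelude.Def_EtRam
import Groth.Agent.Lib.Helper9.EtRam.Dom13

set_option autoImplicit false
set_option linter.style.haveILetI false

namespace Groth.Agent.Helper9.EtRamLib
open IsLocalRing EtRam

universe u

/-- elements integral over a ring mapping into a valuation subring lie in it -/
theorem mem_valuationSubring_of_isIntegralElem {R : Type*} [CommRing R] {F : Type*} [Field F]
    (V : ValuationSubring F) (φ : R →+* F) (hφ : ∀ r, φ r ∈ V) {x : F}
    (hx : φ.IsIntegralElem x) : x ∈ V := by
  obtain ⟨p, hp, hpx⟩ := hx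
  let ψ : R →+* V := RingHom.codRestrict φ V hφ
  have hint : IsIntegral V x := by
    refine ⟨p.map ψ, hp.map ψ, ?_⟩
    rw [Polynomial.eval₂_map]
    exact hpx
  obtain ⟨y, hy⟩ := IsIntegrallyClosed.isIntegral_iff.1 hint
  rw [← hy]
  exact y.2

/-- every local ring mapping to a field is dominated by some valuation subring -/
theorem exists_dominates {R : Type u} [CommRing R] [IsLocalRing R] {F : Type u} [Field F]
    (f : R →+* F) : ∃ W : ValuationSubring F, Dominates R f W := by
  obtain ⟨W, hW, hloc⟩ := IsLocalRing.exists_factor_valuationRing f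
  refine ⟨W, hW, fun a ha => ?_⟩
  by_contra hcon
  push Not at hcon
  have h1 : W.valuation (f a) = 1 :=
    le_antisymm ((W.valuation_le_one_iff _).2 (hW a)) hcon
  have h2 : IsUnit (f.codRestrict W.toSubring hW a) := by
    have := (W.valuation_eq_one_iff ⟨f a, hW a⟩).2 h1
    exact this
  have h3 := hloc.map_nonunit a h2
  exact ha h3

/-- multiplicativity of the ramification index in a tower `A → B → W` with `B` abstract. -/
theorem tower_ram' {A B : Type u} [CommRing A] [IsDomain A] [IsDiscreteValuationRing A]
    [CommRing B] [IsDomain B] [IsDiscreteValuationRing B] [Algebra A B]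
    [IsLocalHom (algebraMap A B)] (hAB : Function.Injective (algebraMap A B))
    {M : Type u} [Field M] {gB : B →+* M} {gM : A →+* M} {W : ValuationSubring M}
    (hgM : gM = gB.comp (algebraMap A B)) (hgB : Function.Injective gB)
    (hW : Dominates B gB W) (hWA : Dominates A gM W) [IsDiscreteValuationRing W] :
    letI : Algebra A W := (RingHom.codRestrict gM W hWA.1).toAlgebra
    letI : Algebra B W := (RingHom.codRestrict gB W hW.1).toAlgebra
    Ideal.ramificationIdx' (maximalIdeal A) (maximalIdeal W) =
      Ideal.ramificationIdx' (maximalIdeal A) (maximalIdeal B) *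
      Ideal.ramificationIdx' (maximalIdeal B) (maximalIdeal W) := by
  subst hgM
  letI : Algebra A W := (RingHom.codRestrict (gB.comp (algebraMap A B)) W hWA.1).toAlgebra
  letI : Algebra B W := (RingHom.codRestrict gB W hW.1).toAlgebra
  haveI : IsScalarTower A B W := IsScalarTower.of_algebraMap_eq (fun a => rfl)
  haveI : IsLocalHom (algebraMap B W) := dom_isLocalHom hW
  have h2 : Function.Injective (algebraMap B W) := codRestrict_injective hgB hW.1
  exact ramificationIdx_tower A B W hAB h2

section TotRam
variable {A : Type u} [CommRing A] [IsDomain A] [IsDiscreteValuationRing A] {K : Type u} [Field K]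
  [Algebra A K] [IsFractionRing A K] {K₁ : Type u} [Field K₁] [Algebra K K₁] [FiniteDimensional K K₁]
  {g : A →+* K₁} (hg : ∀ a, g a = algebraMap K K₁ (algebraMap A K a))

include hg

/-- a valuation subring containing the image of `A` is either everything or dominates `A` -/
theorem top_or_dominates (V : ValuationSubring K₁) (hV : ∀ a, g a ∈ V) :
    V = ⊤ ∨ Dominates A g V := by
  obtain ⟨ϖ, hϖ⟩ := IsDiscreteValuationRing.exists_irreducible A
  by_cases hlt : V.valuation (g ϖ) < 1
  · right
    refine ⟨hV, fun a ha => ?_⟩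
    rw [hϖ.maximalIdeal_eq, Ideal.mem_span_singleton] at ha
    obtain ⟨c, rfl⟩ := ha
    rw [map_mul, map_mul]
    calc V.valuation (g ϖ) * V.valuation (g c) ≤ V.valuation (g ϖ) * 1 :=
          mul_le_mul_right ((V.valuation_le_one_iff _).2 (hV c)) _
      _ < 1 := by rwa [mul_one]
  · left
    push Not at hlt
    have h1 : V.valuation (g ϖ) = 1 := le_antisymm ((V.valuation_le_one_iff _).2 (hV ϖ)) hlt
    have hunit : ∀ u : Aˣ, V.valuation (g u) = 1 := by
      intro u
      apply le_antisymm ((V.valuation_le_one_iff _).2 (hV u))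
      have h2 : V.valuation (g u) * V.valuation (g ↑u⁻¹) = 1 := by
        rw [← map_mul, ← map_mul, Units.mul_inv, map_one, map_one]
      calc (1 : _) = V.valuation (g u) * V.valuation (g ↑u⁻¹) := h2.symm
        _ ≤ V.valuation (g u) * 1 :=
          mul_le_mul_right ((V.valuation_le_one_iff _).2 (hV _)) _
        _ = _ := mul_one _
    have hK : ∀ k : K, algebraMap K K₁ k ∈ V := by
      intro k
      obtain ⟨a, b, hb, rfl⟩ := IsFractionRing.div_surjective (A := A) k
      have hb0 : b ≠ 0 := nonZeroDivisors.ne_zero hb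
      obtain ⟨n, u, rfl⟩ := IsDiscreteValuationRing.eq_unit_mul_pow_irreducible hb0 hϖ
      rw [map_div₀, ← hg, ← hg, ← V.valuation_le_one_iff, map_div₀]
      have : V.valuation (g (↑u * ϖ ^ n)) = 1 := by
        rw [map_mul, map_pow, map_mul, map_pow, h1, one_pow, mul_one, hunit]
      rw [this, div_one]
      exact (V.valuation_le_one_iff _).2 (hV a)
    rw [eq_top_iff]
    intro x _
    have hx : IsIntegral K x := Algebra.IsIntegral.isIntegral x
    exact mem_valuationSubring_of_isIntegralElem V (algebraMap K K₁) hK hx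

variable [Algebra.IsSeparable K K₁] {V₁ : ValuationSubring K₁} (h : Dominates A g V₁)
  (huniq : ∀ V' : ValuationSubring K₁, Dominates A g V' → V' = V₁)

include h huniq

/-- if `V₁` is the only valuation subring dominating `A`, it is integral over `A` -/
theorem isIntegralElem_of_unique {x : K₁} (hx : x ∈ V₁) : g.IsIntegralElem x := by
  letI : Algebra A K₁ := g.toAlgebra
  by_contra hcon
  have hxR : x ∉ (integralClosure A K₁).toSubring := hcon
  obtain ⟨V, hRV, hxV⟩ := Subring.exists_le_valuationSubring_of_isIntegrallyClosedIn hxR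
  have hgV : ∀ a, g a ∈ V := fun a => hRV ((integralClosure A K₁).algebraMap_mem a)
  rcases top_or_dominates hg V hgV with htop | hdom
  · exact hxV (htop ▸ trivial)
  · exact hxV (huniq V hdom ▸ hx)

theorem finite_of_unique :
    letI : Algebra A V₁ := (RingHom.codRestrict g V₁ h.1).toAlgebra
    Module.Finite A V₁ := by
  letI : Algebra A V₁ := (RingHom.codRestrict g V₁ h.1).toAlgebra
  letI : Algebra A K₁ := g.toAlgebra
  haveI : IsScalarTower A K K₁ := IsScalarTower.of_algebraMap_eq (fun a => hg a)
  haveI : IsScalarTower A V₁ K₁ := IsScalarTower.of_algebraMap_eq (fun a => rfl)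
  haveI : IsIntegralClosure V₁ A K₁ :=
    ⟨Subtype.val_injective, fun {x} =>
      ⟨fun hx => ⟨⟨x, mem_valuationSubring_of_isIntegralElem V₁ g h.1 hx⟩, rfl⟩,
       fun ⟨y, hy⟩ => hy ▸ isIntegralElem_of_unique hg h huniq y.2⟩⟩
  exact IsIntegralClosure.finite A K K₁ V₁

/-- fundamental identity in the totally ramified case: `e = [K₁ : K]` -/
theorem ramIdx_eq_finrank_of_unique
    (hres : Function.Surjective (fun a : A => residue V₁ (RingHom.codRestrict g V₁ h.1 a))) :
    letI : Algebra A V₁ := (RingHom.codRestrict g V₁ h.1).toAlgebra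
    Ideal.ramificationIdx' (maximalIdeal A) (maximalIdeal V₁) = Module.finrank K K₁ := by
  letI : Algebra A V₁ := (RingHom.codRestrict g V₁ h.1).toAlgebra
  letI : Algebra A K₁ := g.toAlgebra
  haveI : IsScalarTower A K K₁ := IsScalarTower.of_algebraMap_eq (fun a => hg a)
  haveI : IsScalarTower A V₁ K₁ := IsScalarTower.of_algebraMap_eq (fun a => rfl)
  haveI : IsDiscreteValuationRing V₁ := isDVR_of_dominates (A := A) (K := K) (g := g) hg h
  haveI : IsLocalHom (algebraMap A V₁) := dom_isLocalHom h
  haveI : Module.Finite A V₁ := finite_of_unique hg h huniq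
  have hginj : Function.Injective g := by
    intro a b hab
    rw [hg, hg] at hab
    exact IsFractionRing.injective A K ((algebraMap K K₁).injective hab)
  have hinj : Function.Injective (algebraMap A V₁) := codRestrict_injective hginj h.1
  haveI : Module.IsTorsionFree A V₁ := Module.isTorsionFree_iff_algebraMap_injective.2 hinj
  haveI : Module.Flat A V₁ := inferInstance
  have hcomap : (maximalIdeal V₁).comap (algebraMap A V₁) = maximalIdeal A :=
    ((local_hom_TFAE (algebraMap A V₁)).out 0 4).1 (inferInstance : IsLocalHom (algebraMap A V₁))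
  haveI hlo : (maximalIdeal V₁).LiesOver (maximalIdeal A) := ⟨hcomap.symm⟩
  have hmA : maximalIdeal A ≠ ⊥ := IsDiscreteValuationRing.not_a_field A
  have hprimes : (maximalIdeal A).primesOver V₁ = {maximalIdeal V₁} := by
    ext P
    simp only [Ideal.primesOver, Set.mem_ofPred_eq, Set.mem_singleton_iff]
    constructor
    · rintro ⟨hP, hPo⟩
      have hP0 : P ≠ ⊥ := by
        rintro rfl
        have := hPo.over
        rw [Ideal.under_def, Ideal.comap_bot_of_injective _ hinj] at this
        exact hmA this
      haveI := hP.isMaximal hP0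
      exact IsLocalRing.eq_maximalIdeal this
    · rintro rfl
      exact ⟨inferInstance, hlo⟩
  haveI : Finite ((maximalIdeal A).primesOver V₁) := by rw [hprimes]; infer_instance
  letI : Fintype ((maximalIdeal A).primesOver V₁) := Fintype.ofFinite _
  have hsum := Ideal.sum_ramification_inertia_eq_finrank (maximalIdeal A) V₁
  have hq : maximalIdeal V₁ ∈ (maximalIdeal A).primesOver V₁ := by rw [hprimes]; rfl
  rw [Fintype.sum_eq_single (⟨maximalIdeal V₁, hq⟩ : (maximalIdeal A).primesOver V₁)
    (fun x hx => by
      have hx' : x.1 ∈ ({maximalIdeal V₁} : Set (Ideal V₁)) := hprimes ▸ x.2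
      exact absurd (Subtype.ext (Set.mem_singleton_iff.1 hx')) hx)] at hsum
  simp only at hsum
  rw [← Ideal.ramificationIdx'_eq_ramificationIdx (maximalIdeal A) (maximalIdeal V₁) hmA,
    Ideal.inertiaDeg_eq_of_isMaximal (maximalIdeal A) (maximalIdeal V₁)] at hsum
  have hf : Module.finrank (A ⧸ maximalIdeal A) (V₁ ⧸ maximalIdeal V₁) = 1 := by
    letI : Field (A ⧸ maximalIdeal A) := Ideal.Quotient.field _
    rw [finrank_eq_one_iff_of_nonzero' (1 : V₁ ⧸ maximalIdeal V₁) one_ne_zero]
    intro w
    obtain ⟨a, ha⟩ := hres w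
    refine ⟨Ideal.Quotient.mk _ a, ?_⟩
    rw [Algebra.smul_def, mul_one]
    exact ha
  rw [hf, mul_one] at hsum
  rw [hsum]
  exact (IsFractionRing.finrank_eq A K V₁ K₁).symm

end TotRam

end Groth.Agent.Helper9.EtRamLib
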