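import Mathlib
import Groth.Prelude.Def_EtRam
import Groth.Agent.Lib.Helper9.EtRam.Dom16

set_option autoImplicit false
set_option linter.style.haveILetI false

namespace Groth.Agent.Helper9.EtRamLib
open IsLocalRing EtRam TensorProduct

universe u

section Amalgam
variable {B W C : Type u} [CommRing B] [IsDomain B] [IsDiscreteValuationRing B]
  [CommRing W] [IsDomain W] [IsDiscreteValuationRing W] [Algebra B W] [IsLocalHom (algebraMap B W)]
  [CommRing C] [IsDomain C] [IsDiscreteValuationRing C] [Algebra B C] [IsLocalHom (algebraMap B C)]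

/-- In a DVR, a prime ideal not containing a given nonunit is zero. -/
theorem prime_eq_bot_of_not_mem {R : Type u} [CommRing R] [IsDomain R] [IsDiscreteValuationRing R]
    (P : Ideal R) [hP : P.IsPrime] {x : R} (hx : ¬ IsUnit x) (hxP : x ∉ P) : P = ⊥ := by
  by_contra hne
  have hmax : P.IsMaximal := hP.isMaximal hne
  have : P = maximalIdeal R := IsLocalRing.eq_maximalIdeal hmax
  rw [this] at hxP
  exact hxP hx

/-- the uniformizer of `B` is a nonzerodivisor on `W ⊗[B] C` -/
theorem unif_mem_nonZeroDivisors (hW : Function.Injective (algebraMap B W))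
    (hC : Function.Injective (algebraMap B C)) {ϖ : B} (hϖ : ϖ ≠ 0) :
    algebraMap B (W ⊗[B] C) ϖ ∈ nonZeroDivisors (W ⊗[B] C) := by
  haveI : Module.IsTorsionFree B C := Module.isTorsionFree_iff_algebraMap_injective.2 hC
  haveI : Module.Flat B C := inferInstance
  haveI : Module.Flat W (W ⊗[B] C) := inferInstance
  haveI : Module.IsTorsionFree W (W ⊗[B] C) := inferInstance
  have hne : algebraMap B W ϖ ≠ 0 := by
    rw [Ne, map_eq_zero_iff _ hW]; exact hϖ
  have hreg : IsSMulRegular (W ⊗[B] C) (algebraMap B W ϖ) :=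
    Module.IsTorsionFree.isSMulRegular (isRegular_of_ne_zero hne)
  rw [mem_nonZeroDivisors_iff_right]
  intro x hx
  apply hreg
  show algebraMap B W ϖ • x = algebraMap B W ϖ • (0 : W ⊗[B] C)
  rw [smul_zero, Algebra.smul_def, ← IsScalarTower.algebraMap_apply, mul_comm]
  exact hx

/-- there is a prime of `W ⊗[B] C` lying over both maximal ideals -/
theorem exists_prime_over_both :
    ∃ 𝔮 : Ideal (W ⊗[B] C), 𝔮.IsPrime ∧
      (∀ w ∈ maximalIdeal W, (w ⊗ₜ[B] (1 : C)) ∈ 𝔮) ∧
      (∀ c ∈ maximalIdeal C, ((1 : W) ⊗ₜ[B] c) ∈ 𝔮) := by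
  haveI : Nontrivial (ResidueField W ⊗[ResidueField B] ResidueField C) := inferInstance
  letI algBT : Algebra B (ResidueField W ⊗[ResidueField B] ResidueField C) :=
    ((algebraMap (ResidueField B) (ResidueField W ⊗[ResidueField B] ResidueField C)).comp
      (residue B)).toAlgebra
  let f : W →ₐ[B] ResidueField W ⊗[ResidueField B] ResidueField C :=
    { toRingHom := (Algebra.TensorProduct.includeLeftRingHom).comp (residue W)
      commutes' := fun b => by
        show (residue W (algebraMap B W b)) ⊗ₜ[ResidueField B] (1 : ResidueField C) =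
          algebraMap (ResidueField B) _ (residue B b)
        rw [← ResidueField.algebraMap_residue, Algebra.TensorProduct.algebraMap_apply] }
  let g : C →ₐ[B] ResidueField W ⊗[ResidueField B] ResidueField C :=
    { toRingHom := (Algebra.TensorProduct.includeRight :
          ResidueField C →ₐ[ResidueField B] ResidueField W ⊗[ResidueField B] ResidueField C).toRingHom.comp
          (residue C)
      commutes' := fun b => by
        show (1 : ResidueField W) ⊗ₜ[ResidueField B] (residue C (algebraMap B C b)) =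
          algebraMap (ResidueField B) _ (residue B b)
        rw [← ResidueField.algebraMap_residue, Algebra.TensorProduct.algebraMap_apply,
          Algebra.TensorProduct.tmul_one_eq_one_tmul] }
  let Ψ := Algebra.TensorProduct.productMap f g
  obtain ⟨𝔫, h𝔫⟩ := Ideal.exists_maximal (ResidueField W ⊗[ResidueField B] ResidueField C)
  refine ⟨𝔫.comap Ψ.toRingHom, Ideal.comap_isPrime _ _, fun w hw => ?_, fun c hc => ?_⟩
  · rw [Ideal.mem_comap]
    have : Ψ.toRingHom (w ⊗ₜ[B] (1 : C)) = 0 := by
      show Ψ (w ⊗ₜ[B] (1 : C)) = 0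
      rw [Algebra.TensorProduct.productMap_apply_tmul, map_one, mul_one]
      show (residue W w) ⊗ₜ[ResidueField B] (1 : ResidueField C) = 0
      rw [(residue_eq_zero_iff w).2 hw, TensorProduct.zero_tmul]
    rw [this]; exact zero_mem _
  · rw [Ideal.mem_comap]
    have : Ψ.toRingHom ((1 : W) ⊗ₜ[B] c) = 0 := by
      show Ψ ((1 : W) ⊗ₜ[B] c) = 0
      rw [Algebra.TensorProduct.productMap_apply_tmul, map_one, one_mul]
      show (1 : ResidueField W) ⊗ₜ[ResidueField B] (residue C c) = 0
      rw [(residue_eq_zero_iff c).2 hc, TensorProduct.tmul_zero]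
    rw [this]; exact zero_mem _

/-- **Amalgamation**: two extensions of DVRs of `B` can be dominated simultaneously by a valuation
ring of a field generated by both fraction fields. -/
theorem amalgam (hW : Function.Injective (algebraMap B W)) (hC : Function.Injective (algebraMap B C))
    (M M₀ : Type u) [Field M] [Field M₀] [Algebra W M] [IsFractionRing W M] [Algebra C M₀]
    [IsFractionRing C M₀] :
    ∃ (M' : Type u) (_ : Field M') (φ : M →+* M') (φ₀ : M₀ →+* M') (W' : ValuationSubring M'),
      (∀ b : B, φ (algebraMap W M (algebraMap B W b)) = φ₀ (algebraMap C M₀ (algebraMap B C b))) ∧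
      Dominates W (φ.comp (algebraMap W M)) W' ∧ Dominates C (φ₀.comp (algebraMap C M₀)) W' ∧
      Subfield.closure (Set.range φ ∪ Set.range φ₀) = ⊤ := by
  obtain ⟨ϖ, hϖ⟩ := IsDiscreteValuationRing.exists_irreducible B
  obtain ⟨𝔮, h𝔮, h𝔮W, h𝔮C⟩ := exists_prime_over_both (B := B) (W := W) (C := C)
  obtain ⟨𝔭, h𝔭min, h𝔭le⟩ := Ideal.exists_minimalPrimes_le (bot_le : (⊥ : Ideal (W ⊗[B] C)) ≤ 𝔮)
  haveI h𝔭 : 𝔭.IsPrime := h𝔭min.1.1
  have hβ : algebraMap B (W ⊗[B] C) ϖ ∉ 𝔭 := fun hmem =>
    Set.disjoint_left.1 (Ideal.disjoint_nonZeroDivisors_of_mem_minimalPrimes h𝔭min) hmem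
      (unif_mem_nonZeroDivisors hW hC hϖ.ne_zero)
  let ιW : W →+* W ⊗[B] C := Algebra.TensorProduct.includeLeftRingHom
  let ιC : C →+* W ⊗[B] C := (Algebra.TensorProduct.includeRight : C →ₐ[B] W ⊗[B] C).toRingHom
  have hιW : ∀ b : B, ιW (algebraMap B W b) = algebraMap B (W ⊗[B] C) b := fun b => rfl
  have hιC : ∀ b : B, ιC (algebraMap B C b) = algebraMap B (W ⊗[B] C) b := fun b =>
    (Algebra.TensorProduct.includeRight : C →ₐ[B] W ⊗[B] C).commutes b
  have hPW : 𝔭.comap ιW = ⊥ := by
    haveI : (𝔭.comap ιW).IsPrime := Ideal.comap_isPrime _ _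
    refine prime_eq_bot_of_not_mem (𝔭.comap ιW) (x := algebraMap B W ϖ) ?_ ?_
    · intro hu; exact hϖ.not_isUnit (IsLocalHom.map_nonunit ϖ hu)
    · rw [Ideal.mem_comap, hιW]; exact hβ
  have hPC : 𝔭.comap ιC = ⊥ := by
    haveI : (𝔭.comap ιC).IsPrime := Ideal.comap_isPrime _ _
    refine prime_eq_bot_of_not_mem (𝔭.comap ιC) (x := algebraMap B C ϖ) ?_ ?_
    · intro hu; exact hϖ.not_isUnit (IsLocalHom.map_nonunit ϖ hu)
    · rw [Ideal.mem_comap, hιC]; exact hβ
  let γ : W ⊗[B] C →+* FractionRing ((W ⊗[B] C) ⧸ 𝔭) :=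
    (algebraMap ((W ⊗[B] C) ⧸ 𝔭) (FractionRing ((W ⊗[B] C) ⧸ 𝔭))).comp (Ideal.Quotient.mk 𝔭)
  have hγ0 : ∀ d, γ d = 0 ↔ d ∈ 𝔭 := by
    intro d
    show algebraMap ((W ⊗[B] C) ⧸ 𝔭) (FractionRing ((W ⊗[B] C) ⧸ 𝔭)) (Ideal.Quotient.mk 𝔭 d) = 0 ↔ _
    rw [map_eq_zero_iff _ (IsFractionRing.injective _ _), Ideal.Quotient.eq_zero_iff_mem]
  have hgW : Function.Injective (γ.comp ιW) := by
    rw [injective_iff_map_eq_zero]
    intro w hw
    have : w ∈ 𝔭.comap ιW := (hγ0 _).1 hw
    rw [hPW] at this
    exact this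
  have hgC : Function.Injective (γ.comp ιC) := by
    rw [injective_iff_map_eq_zero]
    intro c hc
    have : c ∈ 𝔭.comap ιC := (hγ0 _).1 hc
    rw [hPC] at this
    exact this
  let φ : M →+* FractionRing ((W ⊗[B] C) ⧸ 𝔭) := IsFractionRing.lift hgW
  let φ₀ : M₀ →+* FractionRing ((W ⊗[B] C) ⧸ 𝔭) := IsFractionRing.lift hgC
  have hφ : ∀ w : W, φ (algebraMap W M w) = γ (ιW w) := fun w => IsFractionRing.lift_algebraMap hgW w
  have hφ₀ : ∀ c : C, φ₀ (algebraMap C M₀ c) = γ (ιC c) := fun c =>
    IsFractionRing.lift_algebraMap hgC c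
  -- the valuation ring
  have hker : RingHom.ker γ.rangeRestrict ≤ 𝔮 := by
    intro x hx
    rw [RingHom.mem_ker] at hx
    have : γ x = 0 := congrArg Subtype.val hx
    exact h𝔭le ((hγ0 x).1 this)
  have hne : 𝔮.map γ.rangeRestrict ≠ ⊤ :=
    (Ideal.map_isPrime_of_surjective γ.rangeRestrict_surjective hker).ne_top
  obtain ⟨W', hAW', hI⟩ := Ideal.image_subset_nonunits_valuationSubring (𝔮.map γ.rangeRestrict) hne
  have hmemW' : ∀ d, γ d ∈ W' := fun d => hAW' ⟨d, rfl⟩
  have hnonunit : ∀ d ∈ 𝔮, W'.valuation (γ d) < 1 := fun d hd =>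
    hI ⟨γ.rangeRestrict d, Ideal.mem_map_of_mem _ hd, rfl⟩
  refine ⟨FractionRing ((W ⊗[B] C) ⧸ 𝔭), inferInstance, φ, φ₀, W', ?_, ?_, ?_, ?_⟩
  · intro b
    rw [hφ, hφ₀, hιW, hιC]
  · refine ⟨fun w => ?_, fun w hw => ?_⟩
    · show φ (algebraMap W M w) ∈ W'
      rw [hφ]; exact hmemW' _
    · show W'.valuation (φ (algebraMap W M w)) < 1
      rw [hφ]; exact hnonunit _ (h𝔮W w hw)
  · refine ⟨fun c => ?_, fun c hc => ?_⟩
    · show φ₀ (algebraMap C M₀ c) ∈ W'
      rw [hφ₀]; exact hmemW' _
    · show W'.valuation (φ₀ (algebraMap C M₀ c)) < 1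
      rw [hφ₀]; exact hnonunit _ (h𝔮C c hc)
  · rw [eq_top_iff]
    rintro x -
    have hγS : ∀ d, γ d ∈ Subfield.closure (Set.range φ ∪ Set.range φ₀) := by
      intro d
      induction d using TensorProduct.induction_on with
      | zero => rw [map_zero]; exact zero_mem _
      | tmul w c =>
        have : (w ⊗ₜ[B] c : W ⊗[B] C) = ιW w * ιC c := by
          show w ⊗ₜ[B] c = (w ⊗ₜ[B] (1 : C)) * ((1 : W) ⊗ₜ[B] c)
          rw [Algebra.TensorProduct.tmul_mul_tmul, mul_one, one_mul]
        rw [this, map_mul, ← hφ, ← hφ₀]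
        exact mul_mem (Subfield.subset_closure (Or.inl ⟨_, rfl⟩))
          (Subfield.subset_closure (Or.inr ⟨_, rfl⟩))
      | add x y hx hy => rw [map_add]; exact add_mem hx hy
    obtain ⟨a, b, hb, rfl⟩ := IsFractionRing.div_surjective (A := (W ⊗[B] C) ⧸ 𝔭) x
    obtain ⟨a, rfl⟩ := Ideal.Quotient.mk_surjective a
    obtain ⟨b, rfl⟩ := Ideal.Quotient.mk_surjective b
    exact div_mem (hγS a) (hγS b)

end Amalgam

section Descend
variable {K₁ M M' : Type u} [Field K₁] [Field M] [Field M'] (f : K₁ →+* M) (φ : M →+* M')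
  (W' : ValuationSubring M')

/-- weak unramifiedness of `W' ∩ K₁ → W'` descends to `(W' ∩ M) ∩ K₁ → W' ∩ M`. -/
theorem descend_wu (h1 : IsDiscreteValuationRing ((W'.comap φ).comap f))
    (h2 : IsDiscreteValuationRing (W'.comap φ)) (h3 : IsDiscreteValuationRing W')
    (hwu : letI : Algebra (W'.comap (φ.comp f)) W' := (inclOfComap W' (φ.comp f)).toAlgebra
       IsWeaklyUnramified (W'.comap (φ.comp f)) W') :
    letI : Algebra ((W'.comap φ).comap f) (W'.comap φ) := (inclOfComap (W'.comap φ) f).toAlgebra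
    IsWeaklyUnramified ((W'.comap φ).comap f) (W'.comap φ) := by
  have hinj : Function.Injective (f.comp ((W'.comap φ).comap f).subtype) :=
    fun a b hab => Subtype.ext (f.injective hab)
  have hV : Dominates ((W'.comap φ).comap f) (f.comp ((W'.comap φ).comap f).subtype) (W'.comap φ) :=
    dom_self_comap (W'.comap φ) f
  have hVW : Dominates (W'.comap φ) (φ.comp (W'.comap φ).subtype) W' := dom_self_comap W' φ
  have hW : Dominates ((W'.comap φ).comap f) (φ.comp (f.comp ((W'.comap φ).comap f).subtype)) W' :=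
    dom_self_comap W' (φ.comp f)
  have ht := tower_ram (gM := φ.comp (f.comp ((W'.comap φ).comap f).subtype)) rfl hinj hV hVW hW
  letI a1 : Algebra ((W'.comap φ).comap f) (W'.comap φ) :=
    (RingHom.codRestrict (f.comp ((W'.comap φ).comap f).subtype) (W'.comap φ) hV.1).toAlgebra
  letI a2 : Algebra ((W'.comap φ).comap f) W' :=
    (RingHom.codRestrict (φ.comp (f.comp ((W'.comap φ).comap f).subtype)) W' hW.1).toAlgebra
  haveI : IsLocalHom (algebraMap ((W'.comap φ).comap f) (W'.comap φ)) := dom_isLocalHom hV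
  haveI : IsLocalHom (algebraMap ((W'.comap φ).comap f) W') := dom_isLocalHom hW
  have hinj' : Function.Injective (φ.comp (f.comp ((W'.comap φ).comap f).subtype)) :=
    fun a b hab => Subtype.ext (f.injective (φ.injective hab))
  have he : Ideal.ramificationIdx' (maximalIdeal ((W'.comap φ).comap f)) (maximalIdeal W') = 1 :=
    (isWeaklyUnramified_iff ((W'.comap φ).comap f) W' (codRestrict_injective hinj' hW.1)).1 hwu
  rw [he] at ht
  have he1 : Ideal.ramificationIdx' (maximalIdeal ((W'.comap φ).comap f))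
      (maximalIdeal (W'.comap φ)) = 1 := Nat.eq_one_of_mul_eq_one_right ht.symm
  exact (isWeaklyUnramified_iff ((W'.comap φ).comap f) (W'.comap φ)
    (codRestrict_injective hinj hV.1)).2 he1

/-- geometric reducedness of the residue field extension descends. -/
theorem descend_geomRed
    (hgr : @Algebra.IsGeometricallyReduced (ResidueField (W'.comap (φ.comp f))) (ResidueField W') _ _
      (ResidueField.map (inclOfComap W' (φ.comp f))).toAlgebra) :
    @Algebra.IsGeometricallyReduced (ResidueField ((W'.comap φ).comap f))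
      (ResidueField (W'.comap φ)) _ _
      (ResidueField.map (inclOfComap (W'.comap φ) f)).toAlgebra := by
  letI a1 : Algebra (ResidueField ((W'.comap φ).comap f)) (ResidueField (W'.comap φ)) :=
    (ResidueField.map (inclOfComap (W'.comap φ) f)).toAlgebra
  letI a2 : Algebra (ResidueField ((W'.comap φ).comap f)) (ResidueField W') :=
    (ResidueField.map (inclOfComap W' (φ.comp f))).toAlgebra
  let j : ResidueField (W'.comap φ) →ₐ[ResidueField ((W'.comap φ).comap f)] ResidueField W' :=
    { toRingHom := ResidueField.map (inclOfComap W' φ)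
      commutes' := fun r => by
        obtain ⟨v, rfl⟩ := residue_surjective r
        show ResidueField.map (inclOfComap W' φ)
            (ResidueField.map (inclOfComap (W'.comap φ) f) (residue _ v)) =
          ResidueField.map (inclOfComap W' (φ.comp f)) (residue _ v)
        rw [ResidueField.map_residue, ResidueField.map_residue]
        exact (ResidueField.map_residue (inclOfComap W' (φ.comp f)) v).symm }
  haveI : Algebra.IsGeometricallyReduced (ResidueField ((W'.comap φ).comap f)) (ResidueField W') :=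
    hgr
  exact Algebra.IsGeometricallyReduced.of_injective j j.injective

end Descend

section AdjoinGen
variable (K : Type u) {L K₁ M M₀ M' : Type u} [Field K] [Field L] [Field K₁] [Field M] [Field M₀]
  [Field M']
  [Algebra K K₁] [FiniteDimensional K K₁] [Algebra K L] [Algebra L M] [Algebra K₁ M] [Algebra K M]
  [IsScalarTower K L M] [IsScalarTower K K₁ M] [Algebra L M₀]

include K in
theorem adjoin_top_of_amalgam (hadj : Algebra.adjoin L (Set.range (algebraMap K₁ M)) = ⊤)
    (φ : M →+* M') (φ₀ : M₀ →+* M')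
    (hcomm : φ.comp (algebraMap L M) = φ₀.comp (algebraMap L M₀))
    (hgen : Subfield.closure (Set.range φ ∪ Set.range φ₀) = ⊤) :
    letI : Algebra M₀ M' := φ₀.toAlgebra
    Algebra.adjoin M₀ (Set.range (φ.comp (algebraMap K₁ M))) = ⊤ := by
  letI : Algebra M₀ M' := φ₀.toAlgebra
  have halg : ∀ x ∈ Set.range (φ.comp (algebraMap K₁ M)), IsAlgebraic M₀ x := by
    rintro _ ⟨k, rfl⟩
    have hk : IsIntegral K k := Algebra.IsIntegral.isIntegral k
    have := IsIntegral.map_of_comp_eq (R := K) (S := K₁) (T := M₀) (U := M')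
      ((algebraMap L M₀).comp (algebraMap K L)) (φ.comp (algebraMap K₁ M)) (by
        ext c
        show φ₀ (algebraMap L M₀ (algebraMap K L c)) = φ (algebraMap K₁ M (algebraMap K K₁ c))
        rw [← IsScalarTower.algebraMap_apply K K₁ M, IsScalarTower.algebraMap_apply K L M]
        exact (RingHom.congr_fun hcomm (algebraMap K L c)).symm) hk
    exact this.isAlgebraic
  rw [← IntermediateField.adjoin_toSubalgebra_of_isAlgebraic halg, eq_top_iff]
  rintro x -
  have hx : x ∈ Subfield.closure (Set.range φ ∪ Set.range φ₀) := by rw [hgen]; trivial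
  have hle : Subfield.closure (Set.range φ ∪ Set.range φ₀) ≤
      (IntermediateField.adjoin M₀ (Set.range (φ.comp (algebraMap K₁ M)))).toSubfield := by
    rw [Subfield.closure_le]
    rintro y (⟨m, rfl⟩ | ⟨m₀, rfl⟩)
    · have hm : m ∈ Algebra.adjoin L (Set.range (algebraMap K₁ M)) := by rw [hadj]; trivial
      show φ m ∈ IntermediateField.adjoin M₀ (Set.range (φ.comp (algebraMap K₁ M)))
      induction hm using Algebra.adjoin_induction with
      | mem x hx =>
        obtain ⟨k, rfl⟩ := hx
        exact IntermediateField.subset_adjoin _ _ ⟨k, rfl⟩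
      | algebraMap l =>
        have : φ (algebraMap L M l) = algebraMap M₀ M' (algebraMap L M₀ l) :=
          RingHom.congr_fun hcomm l
        rw [this]
        exact IntermediateField.algebraMap_mem _ _
      | add x y _ _ hx hy => rw [map_add]; exact add_mem hx hy
      | mul x y _ _ hx hy => rw [map_mul]; exact mul_mem hx hy
    · exact IntermediateField.algebraMap_mem _ m₀
  exact hle hx

end AdjoinGen

end Groth.Agent.Helper9.EtRamLib
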