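import Mathlib
import Groth.Prelude.Def_EtRam
import Groth.Agent.Lib.Helper9.EtRam.Dom17

set_option autoImplicit false
set_option linter.style.haveILetI false

namespace Groth.Agent.Helper9.EtRamLib
namespace AR
open Polynomial IsLocalRing EtRam

universe u

section
variable (A : Type u) [CommRing A] (π : A) (n : ℕ)

/-- the polynomial -/
noncomputable abbrev f : A[X] := X ^ n - C π

lemma f_monic (hn : 1 ≤ n) : (f A π n).Monic := monic_X_pow_sub_C π (by omega)

lemma f_natDegree [Nontrivial A] : (f A π n).natDegree = n :=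
  natDegree_X_pow_sub_C

lemma f_irred [IsDomain A] (hπ : Irreducible π) (hP : (Ideal.span {π}).IsPrime) (hn : 1 ≤ n) :
    Irreducible (f A π n) := by
  have hmon := f_monic A π n hn
  have hdeg : (f A π n).degree = n := by
    rw [degree_eq_natDegree hmon.ne_zero, f_natDegree A π n]
  refine irreducible_of_eisenstein_criterion hP ?_ ?_ ?_ ?_ hmon.isPrimitive
  · rw [hmon.leadingCoeff]
    intro h1
    exact hP.ne_top ((Ideal.eq_top_iff_one _).mpr h1)
  · intro k hk
    rw [hdeg] at hk
    have hk' : k < n := by exact_mod_cast hk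
    rw [f, coeff_sub, coeff_X_pow, coeff_C, if_neg (by omega)]
    by_cases h0 : k = 0
    · rw [if_pos h0, zero_sub]
      exact (Ideal.neg_mem_iff _).mpr (Ideal.mem_span_singleton_self π)
    · rw [if_neg h0, sub_zero]
      exact Ideal.zero_mem _
  · rw [hdeg]
    exact_mod_cast (by omega : 0 < n)
  · rw [f, coeff_sub, coeff_X_pow, coeff_C, if_neg (by omega), if_pos rfl, zero_sub,
      Ideal.span_singleton_pow, Ideal.neg_mem_iff, Ideal.mem_span_singleton]
    rintro ⟨c, hc⟩
    have : π * (1 - π * c) = 0 := by rw [mul_sub, mul_one, ← mul_assoc, ← sq, ← hc, sub_self]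
    rcases mul_eq_zero.mp this with h | h
    · exact hπ.ne_zero h
    · exact hπ.not_isUnit (IsUnit.of_mul_eq_one c (by rw [sub_eq_zero] at h; exact h.symm))

/-- the root -/
noncomputable abbrev x : AdjoinRoot (f A π n) := AdjoinRoot.root (f A π n)

lemma x_pow : x A π n ^ n = AdjoinRoot.of (f A π n) π := by
  have h := AdjoinRoot.eval₂_root (f A π n)
  rw [f, eval₂_sub, eval₂_X_pow, eval₂_C, sub_eq_zero] at h
  exact h

/-- evaluation at `x = 0` modulo `π` -/
noncomputable def ev (hn : 1 ≤ n) : AdjoinRoot (f A π n) →+* A ⧸ Ideal.span {π} :=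
  AdjoinRoot.lift (Ideal.Quotient.mk (Ideal.span {π})) 0 (by
    rw [f, eval₂_sub, eval₂_X_pow, eval₂_C, zero_pow (by omega), zero_sub, neg_eq_zero,
      Ideal.Quotient.eq_zero_iff_mem]
    exact Ideal.mem_span_singleton_self π)

lemma ev_of (hn : 1 ≤ n) (a : A) :
    ev A π n hn (AdjoinRoot.of (f A π n) a) = Ideal.Quotient.mk _ a := by
  simp [ev]

lemma ev_x (hn : 1 ≤ n) : ev A π n hn (x A π n) = 0 := by
  simp [ev, x]

lemma ev_surj (hn : 1 ≤ n) : Function.Surjective (ev A π n hn) := by
  intro y
  obtain ⟨a, rfl⟩ := Ideal.Quotient.mk_surjective y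
  exact ⟨AdjoinRoot.of (f A π n) a, ev_of A π n hn a⟩

/-- every element is congruent to a constant modulo `x` -/
lemma exists_const (y : AdjoinRoot (f A π n)) :
    ∃ (a : A) (w : AdjoinRoot (f A π n)), y = AdjoinRoot.of (f A π n) a + x A π n * w := by
  obtain ⟨p, rfl⟩ := AdjoinRoot.mk_surjective y
  refine ⟨p.coeff 0, AdjoinRoot.mk (f A π n) p.divX, ?_⟩
  conv_lhs => rw [← Polynomial.divX_mul_X_add p]
  rw [map_add, map_mul, AdjoinRoot.mk_X, AdjoinRoot.mk_C, add_comm, mul_comm]

lemma ker_ev (hn : 1 ≤ n) : RingHom.ker (ev A π n hn) = Ideal.span {x A π n} := by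
  refine le_antisymm ?_ ?_
  · intro y hy
    obtain ⟨a, w, rfl⟩ := exists_const A π n y
    rw [RingHom.mem_ker, map_add, map_mul, ev_x, zero_mul, add_zero, ev_of,
      Ideal.Quotient.eq_zero_iff_mem, Ideal.mem_span_singleton] at hy
    obtain ⟨c, rfl⟩ := hy
    refine Ideal.add_mem _ ?_ (Ideal.mul_mem_right _ _ (Ideal.mem_span_singleton_self _))
    have hx : x A π n ^ n = x A π n * x A π n ^ (n - 1) := by
      rw [← pow_succ', Nat.sub_add_cancel (by omega)]
    rw [map_mul, ← x_pow A π n, hx, mul_assoc]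
    exact Ideal.mul_mem_right _ _ (Ideal.mem_span_singleton_self _)
  · rw [Ideal.span_le, Set.singleton_subset_iff]
    exact ev_x A π n hn

lemma span_x_max (hmax : (Ideal.span {π}).IsMaximal) (hn : 1 ≤ n) :
    (Ideal.span {x A π n}).IsMaximal := by
  rw [← ker_ev A π n hn]
  let := Ideal.Quotient.field (Ideal.span {π})
  exact RingHom.ker_isMaximal_of_surjective _ (ev_surj A π n hn)

end

section dvr
variable (A : Type u) [CommRing A] [IsDomain A] [IsDiscreteValuationRing A] (π : A) (n : ℕ)

lemma span_pi_max (hπ : Irreducible π) : (Ideal.span {π}).IsMaximal :=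
  PrincipalIdealRing.isMaximal_of_irreducible hπ

lemma f_prime (hπ : Irreducible π) (hn : 1 ≤ n) : Prime (f A π n) :=
  (f_irred A π n hπ (span_pi_max A π hπ).isPrime hn).prime

lemma of_inj (hn : 1 ≤ n) : Function.Injective (AdjoinRoot.of (f A π n)) := by
  apply AdjoinRoot.of.injective_of_degree_ne_zero
  rw [degree_eq_natDegree (f_monic A π n hn).ne_zero, f_natDegree A π n]
  exact_mod_cast (by omega : n ≠ 0)

lemma x_ne_zero (hπ : Irreducible π) (hn : 1 ≤ n) : x A π n ≠ 0 := by
  intro h
  have := x_pow A π n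
  rw [h, zero_pow (by omega)] at this
  exact hπ.ne_zero (of_inj A π n hn (by rw [← this, map_zero]))

lemma max_unique (hπ : Irreducible π) (hn : 1 ≤ n) (M : Ideal (AdjoinRoot (f A π n)))
    (hM : M.IsMaximal) : M = Ideal.span {x A π n} := by
  have hfin : Module.Finite A (AdjoinRoot (f A π n)) := (f_monic A π n hn).finite_adjoinRoot
  have hint : Algebra.IsIntegral A (AdjoinRoot (f A π n)) := inferInstance
  have hc : (M.comap (algebraMap A (AdjoinRoot (f A π n)))).IsMaximal :=
    Ideal.isMaximal_comap_of_isIntegral_of_isMaximal M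
  have hc' : M.comap (algebraMap A (AdjoinRoot (f A π n))) = IsLocalRing.maximalIdeal A :=
    IsLocalRing.eq_maximalIdeal hc
  have hπM : AdjoinRoot.of (f A π n) π ∈ M := by
    have : π ∈ M.comap (algebraMap A (AdjoinRoot (f A π n))) := by
      rw [hc']
      exact hπ.not_isUnit
    exact this
  rw [← x_pow A π n] at hπM
  have hxM : x A π n ∈ M := hM.isPrime.mem_of_pow_mem n hπM
  have hle : Ideal.span {x A π n} ≤ M := by
    rw [Ideal.span_le, Set.singleton_subset_iff]
    exact hxM
  exact ((span_x_max A π n (span_pi_max A π hπ) hn).eq_of_le hM.ne_top hle).symm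

lemma isLocal (hπ : Irreducible π) (hn : 1 ≤ n) : IsLocalRing (AdjoinRoot (f A π n)) :=
  IsLocalRing.of_unique_max_ideal ⟨Ideal.span {x A π n},
    span_x_max A π n (span_pi_max A π hπ) hn, fun M hM => max_unique A π n hπ hn M hM⟩

lemma maxIdeal_eq (hπ : Irreducible π) (hn : 1 ≤ n) :
    let := isLocal A π n hπ hn
    IsLocalRing.maximalIdeal (AdjoinRoot (f A π n)) = Ideal.span {x A π n} := by
  let := isLocal A π n hπ hn
  exact (IsLocalRing.eq_maximalIdeal (span_x_max A π n (span_pi_max A π hπ) hn)).symm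

lemma isDVR (hπ : Irreducible π) (hn : 1 ≤ n) :
    let := AdjoinRoot.isDomain_of_prime (f_prime A π n hπ hn)
    IsDiscreteValuationRing (AdjoinRoot (f A π n)) := by
  let := AdjoinRoot.isDomain_of_prime (f_prime A π n hπ hn)
  let := isLocal A π n hπ hn
  have hfin : Module.Finite A (AdjoinRoot (f A π n)) := (f_monic A π n hn).finite_adjoinRoot
  have hN : IsNoetherianRing (AdjoinRoot (f A π n)) := Algebra.FiniteType.isNoetherianRing A _
  have hprin : (IsLocalRing.maximalIdeal (AdjoinRoot (f A π n))).IsPrincipal := by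
    rw [maxIdeal_eq A π n hπ hn]
    exact ⟨⟨x A π n, rfl⟩⟩
  have hpir : IsPrincipalIdealRing (AdjoinRoot (f A π n)) :=
    ((tfae_of_isNoetherianRing_of_isLocalRing_of_isDomain (AdjoinRoot (f A π n))).out 4 0).mp hprin
  exact
    { not_a_field' := by
        rw [maxIdeal_eq A π n hπ hn, Ne, Ideal.span_singleton_eq_bot]
        exact x_ne_zero A π n hπ hn }

end dvr

section more
variable (A : Type u) [CommRing A] [IsDomain A] [IsDiscreteValuationRing A] (π : A) (n : ℕ)

lemma isDomain (hπ : Irreducible π) (hn : 1 ≤ n) : IsDomain (AdjoinRoot (f A π n)) :=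
  AdjoinRoot.isDomain_of_prime (f_prime A π n hπ hn)

lemma isLocalHom_of (hπ : Irreducible π) (hn : 1 ≤ n) :
    letI := isLocal A π n hπ hn
    IsLocalHom (algebraMap A (AdjoinRoot (f A π n))) := by
  letI := isLocal A π n hπ hn
  constructor
  intro a ha
  by_contra hna
  have hmem : a ∈ maximalIdeal A := hna
  rw [hπ.maximalIdeal_eq, Ideal.mem_span_singleton] at hmem
  obtain ⟨c, rfl⟩ := hmem
  have hx : x A π n ∈ maximalIdeal (AdjoinRoot (f A π n)) := by
    rw [maxIdeal_eq A π n hπ hn]; exact Ideal.mem_span_singleton_self _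
  have : algebraMap A (AdjoinRoot (f A π n)) (π * c) ∈ maximalIdeal (AdjoinRoot (f A π n)) := by
    rw [map_mul]
    refine Ideal.mul_mem_right _ _ ?_
    show AdjoinRoot.of (f A π n) π ∈ _
    rw [← x_pow A π n]
    exact Ideal.pow_mem_of_mem _ hx n (by omega)
  exact this ha

lemma map_maxIdeal (hπ : Irreducible π) (hn : 1 ≤ n) :
    letI := isLocal A π n hπ hn
    (maximalIdeal A).map (algebraMap A (AdjoinRoot (f A π n))) =
      maximalIdeal (AdjoinRoot (f A π n)) ^ n := by
  letI := isLocal A π n hπ hn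
  rw [maxIdeal_eq A π n hπ hn, hπ.maximalIdeal_eq, Ideal.map_span, Set.image_singleton,
    Ideal.span_singleton_pow]
  congr 2
  exact (x_pow A π n).symm

lemma x_irreducible (hπ : Irreducible π) (hn : 1 ≤ n) :
    letI := isDomain A π n hπ hn
    letI := isDVR A π n hπ hn
    Irreducible (x A π n) := by
  letI := isDomain A π n hπ hn
  letI := isDVR A π n hπ hn
  rw [IsDiscreteValuationRing.irreducible_iff_uniformizer]
  exact maxIdeal_eq A π n hπ hn

lemma ramIdx_eq (hπ : Irreducible π) (hn : 1 ≤ n) :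
    letI := isLocal A π n hπ hn
    Ideal.ramificationIdx' (maximalIdeal A) (maximalIdeal (AdjoinRoot (f A π n))) = n := by
  letI := isDomain A π n hπ hn
  letI := isDVR A π n hπ hn
  apply Ideal.ramificationIdx'_spec
  · rw [map_maxIdeal A π n hπ hn]
  · rw [map_maxIdeal A π n hπ hn]
    intro hle
    have hirr := x_irreducible A π n hπ hn
    rw [hirr.maximalIdeal_eq, Ideal.span_singleton_pow, Ideal.span_singleton_pow,
      Ideal.span_singleton_le_span_singleton] at hle
    obtain ⟨c, hc⟩ := hle
    have h0 : x A π n ^ n ≠ 0 := pow_ne_zero _ hirr.ne_zero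
    have : x A π n ^ n * 1 = x A π n ^ n * (x A π n * c) := by
      rw [mul_one]; conv_lhs => rw [hc]
      ring
    have h1 := mul_left_cancel₀ h0 this
    exact hirr.not_isUnit (IsUnit.of_mul_eq_one c h1.symm)

lemma residue_surj (hπ : Irreducible π) (hn : 1 ≤ n) :
    letI := isLocal A π n hπ hn
    Function.Surjective (fun a : A => residue (AdjoinRoot (f A π n)) (algebraMap A _ a)) := by
  letI := isLocal A π n hπ hn
  intro y
  obtain ⟨b, rfl⟩ := residue_surjective y
  obtain ⟨a, w, rfl⟩ := exists_const A π n b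
  refine ⟨a, ?_⟩
  show residue _ (AdjoinRoot.of (f A π n) a) = _
  rw [map_add, left_eq_add, residue_eq_zero_iff, maxIdeal_eq A π n hπ hn]
  exact Ideal.mul_mem_right _ _ (Ideal.mem_span_singleton_self _)

/-- a ring hom out of `A'` to a domain which is injective on `A` is injective -/
lemma hom_injective (hπ : Irreducible π) (hn : 1 ≤ n) {F : Type*} [CommRing F] [IsDomain F]
    (g : AdjoinRoot (f A π n) →+* F) (hg : Function.Injective (g.comp (AdjoinRoot.of (f A π n)))) :
    Function.Injective g := by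
  letI := isDomain A π n hπ hn
  letI := isDVR A π n hπ hn
  rw [RingHom.injective_iff_ker_eq_bot]
  haveI : (RingHom.ker g).IsPrime := RingHom.ker_isPrime g
  refine prime_eq_bot_of_not_mem (RingHom.ker g) (x := AdjoinRoot.of (f A π n) π) ?_ ?_
  · rw [← x_pow A π n]
    intro hu
    exact (x_irreducible A π n hπ hn).not_isUnit (isUnit_of_mul_isUnit_left (by
      have : x A π n ^ n = x A π n * x A π n ^ (n - 1) := by
        rw [← pow_succ', Nat.sub_add_cancel hn]
      rwa [this] at hu))
  · rw [RingHom.mem_ker]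
    intro h0
    have := hg (by rw [RingHom.comp_apply, h0, map_zero] : (g.comp (AdjoinRoot.of (f A π n))) π =
      (g.comp (AdjoinRoot.of (f A π n))) 0)
    exact hπ.ne_zero this

/-- a valuation subring dominating `A` dominates `A'` -/
lemma dominates_adjoinRoot (hπ : Irreducible π) (hn : 1 ≤ n) {F : Type u} [Field F]
    (g : AdjoinRoot (f A π n) →+* F) {W : ValuationSubring F}
    (hW : Dominates A (g.comp (AdjoinRoot.of (f A π n))) W) :
    letI := isLocal A π n hπ hn
    Dominates (AdjoinRoot (f A π n)) g W := by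
  letI := isLocal A π n hπ hn
  have hπV : W.valuation (g (x A π n) ^ n) < 1 := by
    have := hW.2 π (by rw [hπ.maximalIdeal_eq]; exact Ideal.mem_span_singleton_self π)
    rw [RingHom.comp_apply] at this
    rw [← map_pow, x_pow]
    exact this
  have hxlt : W.valuation (g (x A π n)) < 1 := by
    rw [map_pow] at hπV
    by_contra hge
    push Not at hge
    exact absurd hπV (not_lt.mpr (one_le_pow₀ hge))
  have hxV : g (x A π n) ∈ W := (ValuationSubring.valuation_le_one_iff W _).mp hxlt.le
  have h1 : ∀ b : AdjoinRoot (f A π n), g b ∈ W := by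
    intro b
    obtain ⟨p, rfl⟩ := AdjoinRoot.mk_surjective b
    induction p using Polynomial.induction_on' with
    | add p q hp hq =>
      rw [map_add, map_add]
      exact add_mem hp hq
    | monomial k a =>
      rw [← C_mul_X_pow_eq_monomial, map_mul, map_pow, AdjoinRoot.mk_C, AdjoinRoot.mk_X,
        map_mul, map_pow]
      exact mul_mem (hW.1 a) (pow_mem hxV k)
  refine ⟨h1, ?_⟩
  intro b hb
  rw [maxIdeal_eq A π n hπ hn, Ideal.mem_span_singleton] at hb
  obtain ⟨w, rfl⟩ := hb
  rw [map_mul, map_mul]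
  have hw : W.valuation (g w) ≤ 1 := (ValuationSubring.valuation_le_one_iff W _).mpr (h1 w)
  calc W.valuation (g (x A π n)) * W.valuation (g w)
      ≤ W.valuation (g (x A π n)) * 1 := by gcongr
    _ < 1 := by rw [mul_one]; exact hxlt

end more

end AR
end Groth.Agent.Helper9.EtRamLib
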