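import Mathlib
import Groth.Prelude.Def_EtRam
import Groth.Agent.Lib.Helper9.EtRam.Dom18
import Groth.Agent.S1987

set_option autoImplicit false
set_option linter.style.haveILetI false

namespace Groth.Agent.Helper9.EtRamLib
namespace Eis
open Polynomial IsLocalRing EtRam

universe u

section
variable (A : Type u) [CommRing A] (π : A) (q : ℕ) (g : A[X])

/-- the (generalized Eisenstein) polynomial `X^q - π g` -/
noncomputable abbrev f : A[X] := X ^ q - C π * g

lemma deg_lt (hg : g.natDegree < q) : (C π * g).degree < q := by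
  refine lt_of_le_of_lt (degree_mul_le _ _) ?_
  calc (C π).degree + g.degree ≤ 0 + g.natDegree := add_le_add degree_C_le degree_le_natDegree
    _ = g.natDegree := zero_add _
    _ < q := by exact_mod_cast hg

lemma f_monic (hg : g.natDegree < q) : (f A π q g).Monic := monic_X_pow_sub (deg_lt A π q g hg)

lemma f_natDegree [Nontrivial A] (hg : g.natDegree < q) : (f A π q g).natDegree = q := by
  rw [f, natDegree_sub_eq_left_of_natDegree_lt, natDegree_X_pow]
  rw [natDegree_X_pow]
  exact lt_of_le_of_lt (natDegree_C_mul_le _ _) hg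

lemma f_coeff_lt {k : ℕ} (hk : k < q) : (f A π q g).coeff k = - (π * g.coeff k) := by
  rw [f, coeff_sub, coeff_X_pow, if_neg (by omega), coeff_C_mul, zero_sub]

lemma f_irred [IsDomain A] (hπ : Irreducible π) (hP : (Ideal.span {π}).IsPrime)
    (hg : g.natDegree < q) (hg0 : IsUnit (g.coeff 0)) :
    Irreducible (f A π q g) := by
  have hmon := f_monic A π q g hg
  have hdeg : (f A π q g).degree = q := by
    rw [degree_eq_natDegree hmon.ne_zero, f_natDegree A π q g hg]
  refine irreducible_of_eisenstein_criterion hP ?_ ?_ ?_ ?_ hmon.isPrimitive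
  · rw [hmon.leadingCoeff]
    intro h1
    exact hP.ne_top ((Ideal.eq_top_iff_one _).mpr h1)
  · intro k hk
    rw [hdeg] at hk
    have hk' : k < q := by exact_mod_cast hk
    rw [f_coeff_lt A π q g hk']
    exact (Ideal.neg_mem_iff _).mpr (Ideal.mul_mem_right _ _ (Ideal.mem_span_singleton_self π))
  · rw [hdeg]
    exact_mod_cast (by omega : 0 < q)
  · rw [f_coeff_lt A π q g (by omega : 0 < q), Ideal.span_singleton_pow, Ideal.neg_mem_iff,
      Ideal.mem_span_singleton]
    rintro ⟨c, hc⟩
    have h2 : π * g.coeff 0 = π * (π * c) := by rw [hc]; ring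
    have h3 := mul_left_cancel₀ hπ.ne_zero h2
    rw [h3] at hg0
    exact hπ.not_isUnit (isUnit_of_mul_isUnit_left hg0)

/-- the root -/
noncomputable abbrev x : AdjoinRoot (f A π q g) := AdjoinRoot.root (f A π q g)

/-- the image of `g` -/
noncomputable abbrev gx : AdjoinRoot (f A π q g) := AdjoinRoot.mk (f A π q g) g

lemma x_pow : x A π q g ^ q = AdjoinRoot.of (f A π q g) π * gx A π q g := by
  have h := AdjoinRoot.mk_self (f := f A π q g)
  rw [f, map_sub, map_pow, map_mul, AdjoinRoot.mk_X, AdjoinRoot.mk_C, sub_eq_zero] at h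
  exact h

/-- evaluation at `x = 0` modulo `π` -/
noncomputable def ev (hg : g.natDegree < q) : AdjoinRoot (f A π q g) →+* A ⧸ Ideal.span {π} :=
  AdjoinRoot.lift (Ideal.Quotient.mk (Ideal.span {π})) 0 (by
    rw [f, eval₂_sub, eval₂_X_pow, eval₂_mul, eval₂_C, zero_pow (by omega), zero_sub, neg_eq_zero,
      Ideal.Quotient.eq_zero_iff_mem.mpr (Ideal.mem_span_singleton_self π), zero_mul])

lemma ev_of (hg : g.natDegree < q) (a : A) :
    ev A π q g hg (AdjoinRoot.of (f A π q g) a) = Ideal.Quotient.mk _ a := by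
  simp [ev]

lemma ev_x (hg : g.natDegree < q) : ev A π q g hg (x A π q g) = 0 := by
  simp [ev, x]

lemma ev_surj (hg : g.natDegree < q) : Function.Surjective (ev A π q g hg) := by
  intro y
  obtain ⟨a, rfl⟩ := Ideal.Quotient.mk_surjective y
  exact ⟨AdjoinRoot.of (f A π q g) a, ev_of A π q g hg a⟩

/-- every element is congruent to a constant modulo `x` -/
lemma exists_const (y : AdjoinRoot (f A π q g)) :
    ∃ (a : A) (w : AdjoinRoot (f A π q g)), y = AdjoinRoot.of (f A π q g) a + x A π q g * w := by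
  obtain ⟨p, rfl⟩ := AdjoinRoot.mk_surjective y
  refine ⟨p.coeff 0, AdjoinRoot.mk (f A π q g) p.divX, ?_⟩
  conv_lhs => rw [← Polynomial.divX_mul_X_add p]
  rw [map_add, map_mul, AdjoinRoot.mk_X, AdjoinRoot.mk_C, add_comm, mul_comm]

lemma gx_eq : ∃ w : AdjoinRoot (f A π q g),
    gx A π q g = AdjoinRoot.of (f A π q g) (g.coeff 0) + x A π q g * w := by
  refine ⟨AdjoinRoot.mk (f A π q g) g.divX, ?_⟩
  have h := congrArg (AdjoinRoot.mk (f A π q g)) (Polynomial.divX_mul_X_add g)
  rw [map_add, map_mul, AdjoinRoot.mk_X, AdjoinRoot.mk_C] at h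
  rw [gx, ← h, add_comm, mul_comm]

lemma pi_mem (hg : g.natDegree < q) (hg0 : IsUnit (g.coeff 0)) :
    AdjoinRoot.of (f A π q g) π ∈ Ideal.span {x A π q g} := by
  obtain ⟨w, hw⟩ := gx_eq A π q g
  obtain ⟨u, hu⟩ := hg0
  have hx : x A π q g ^ q = x A π q g * x A π q g ^ (q - 1) := by
    rw [← pow_succ', Nat.sub_add_cancel (by omega)]
  have h1 : AdjoinRoot.of (f A π q g) π * AdjoinRoot.of (f A π q g) (g.coeff 0) =
      x A π q g * (x A π q g ^ (q - 1) - AdjoinRoot.of (f A π q g) π * w) := by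
    have := x_pow A π q g
    rw [hw, hx] at this
    linear_combination -this
  have h2 : AdjoinRoot.of (f A π q g) π =
      x A π q g * ((x A π q g ^ (q - 1) - AdjoinRoot.of (f A π q g) π * w) *
        AdjoinRoot.of (f A π q g) ((u⁻¹ : Aˣ) : A)) := by
    have h3 : AdjoinRoot.of (f A π q g) (g.coeff 0) * AdjoinRoot.of (f A π q g) ((u⁻¹ : Aˣ) : A)
        = 1 := by
      rw [← map_mul, ← hu, Units.mul_inv, map_one]
    calc AdjoinRoot.of (f A π q g) π = AdjoinRoot.of (f A π q g) π *
          (AdjoinRoot.of (f A π q g) (g.coeff 0) * AdjoinRoot.of (f A π q g) ((u⁻¹ : Aˣ) : A)) := by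
          rw [h3, mul_one]
      _ = _ := by rw [← mul_assoc, h1]; ring
  rw [h2]
  exact Ideal.mul_mem_right _ _ (Ideal.mem_span_singleton_self _)

lemma ker_ev (hg : g.natDegree < q) (hg0 : IsUnit (g.coeff 0)) :
    RingHom.ker (ev A π q g hg) = Ideal.span {x A π q g} := by
  refine le_antisymm ?_ ?_
  · intro y hy
    obtain ⟨a, w, rfl⟩ := exists_const A π q g y
    rw [RingHom.mem_ker, map_add, map_mul, ev_x, zero_mul, add_zero, ev_of,
      Ideal.Quotient.eq_zero_iff_mem, Ideal.mem_span_singleton] at hy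
    obtain ⟨c, rfl⟩ := hy
    refine Ideal.add_mem _ ?_ (Ideal.mul_mem_right _ _ (Ideal.mem_span_singleton_self _))
    rw [map_mul]
    exact Ideal.mul_mem_right _ _ (pi_mem A π q g hg hg0)
  · rw [Ideal.span_le, Set.singleton_subset_iff]
    exact ev_x A π q g hg

lemma span_x_max (hmax : (Ideal.span {π}).IsMaximal) (hg : g.natDegree < q)
    (hg0 : IsUnit (g.coeff 0)) :
    (Ideal.span {x A π q g}).IsMaximal := by
  rw [← ker_ev A π q g hg hg0]
  let := Ideal.Quotient.field (Ideal.span {π})
  exact RingHom.ker_isMaximal_of_surjective _ (ev_surj A π q g hg)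

end

section dvr
variable (A : Type u) [CommRing A] [IsDomain A] [IsDiscreteValuationRing A] (π : A) (q : ℕ)
  (g : A[X])

lemma f_prime (hπ : Irreducible π) (hg : g.natDegree < q) (hg0 : IsUnit (g.coeff 0)) :
    Prime (f A π q g) :=
  (f_irred A π q g hπ (AR.span_pi_max A π hπ).isPrime hg hg0).prime

lemma of_inj (hg : g.natDegree < q) : Function.Injective (AdjoinRoot.of (f A π q g)) := by
  apply AdjoinRoot.of.injective_of_degree_ne_zero
  rw [degree_eq_natDegree (f_monic A π q g hg).ne_zero, f_natDegree A π q g hg]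
  exact_mod_cast (by omega : q ≠ 0)

lemma x_ne_zero (hπ : Irreducible π) (hg : g.natDegree < q) (hg0 : IsUnit (g.coeff 0)) :
    x A π q g ≠ 0 := by
  intro h
  have := pi_mem A π q g hg hg0
  rw [h, Ideal.mem_span_singleton, zero_dvd_iff] at this
  exact hπ.ne_zero (of_inj A π q g hg (by rw [this, map_zero]))

lemma max_unique (hπ : Irreducible π) (hg : g.natDegree < q) (hg0 : IsUnit (g.coeff 0))
    (M : Ideal (AdjoinRoot (f A π q g))) (hM : M.IsMaximal) : M = Ideal.span {x A π q g} := by
  have hfin : Module.Finite A (AdjoinRoot (f A π q g)) := (f_monic A π q g hg).finite_adjoinRoot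
  have hint : Algebra.IsIntegral A (AdjoinRoot (f A π q g)) := inferInstance
  have hc : (M.comap (algebraMap A (AdjoinRoot (f A π q g)))).IsMaximal :=
    Ideal.isMaximal_comap_of_isIntegral_of_isMaximal M
  have hc' : M.comap (algebraMap A (AdjoinRoot (f A π q g))) = IsLocalRing.maximalIdeal A :=
    IsLocalRing.eq_maximalIdeal hc
  have hπM : AdjoinRoot.of (f A π q g) π ∈ M := by
    have : π ∈ M.comap (algebraMap A (AdjoinRoot (f A π q g))) := by
      rw [hc']
      exact hπ.not_isUnit
    exact this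
  have hxq : x A π q g ^ q ∈ M := by
    rw [x_pow A π q g]
    exact Ideal.mul_mem_right _ _ hπM
  have hxM : x A π q g ∈ M := hM.isPrime.mem_of_pow_mem q hxq
  have hle : Ideal.span {x A π q g} ≤ M := by
    rw [Ideal.span_le, Set.singleton_subset_iff]
    exact hxM
  exact ((span_x_max A π q g (AR.span_pi_max A π hπ) hg hg0).eq_of_le hM.ne_top hle).symm

lemma isLocal (hπ : Irreducible π) (hg : g.natDegree < q) (hg0 : IsUnit (g.coeff 0)) :
    IsLocalRing (AdjoinRoot (f A π q g)) :=
  IsLocalRing.of_unique_max_ideal ⟨Ideal.span {x A π q g},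
    span_x_max A π q g (AR.span_pi_max A π hπ) hg hg0,
    fun M hM => max_unique A π q g hπ hg hg0 M hM⟩

lemma maxIdeal_eq (hπ : Irreducible π) (hg : g.natDegree < q) (hg0 : IsUnit (g.coeff 0)) :
    let := isLocal A π q g hπ hg hg0
    IsLocalRing.maximalIdeal (AdjoinRoot (f A π q g)) = Ideal.span {x A π q g} := by
  let := isLocal A π q g hπ hg hg0
  exact (IsLocalRing.eq_maximalIdeal (span_x_max A π q g (AR.span_pi_max A π hπ) hg hg0)).symm

lemma isDomain (hπ : Irreducible π) (hg : g.natDegree < q) (hg0 : IsUnit (g.coeff 0)) :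
    IsDomain (AdjoinRoot (f A π q g)) :=
  AdjoinRoot.isDomain_of_prime (f_prime A π q g hπ hg hg0)

lemma isDVR (hπ : Irreducible π) (hg : g.natDegree < q) (hg0 : IsUnit (g.coeff 0)) :
    let := isDomain A π q g hπ hg hg0
    IsDiscreteValuationRing (AdjoinRoot (f A π q g)) := by
  let := isDomain A π q g hπ hg hg0
  let := isLocal A π q g hπ hg hg0
  have hfin : Module.Finite A (AdjoinRoot (f A π q g)) := (f_monic A π q g hg).finite_adjoinRoot
  have hN : IsNoetherianRing (AdjoinRoot (f A π q g)) := Algebra.FiniteType.isNoetherianRing A _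
  have hprin : (IsLocalRing.maximalIdeal (AdjoinRoot (f A π q g))).IsPrincipal := by
    rw [maxIdeal_eq A π q g hπ hg hg0]
    exact ⟨⟨x A π q g, rfl⟩⟩
  have hpir : IsPrincipalIdealRing (AdjoinRoot (f A π q g)) :=
    ((tfae_of_isNoetherianRing_of_isLocalRing_of_isDomain (AdjoinRoot (f A π q g))).out 4 0).mp hprin
  exact
    { not_a_field' := by
        rw [maxIdeal_eq A π q g hπ hg hg0, Ne, Ideal.span_singleton_eq_bot]
        exact x_ne_zero A π q g hπ hg hg0 }

lemma x_mem_max (hπ : Irreducible π) (hg : g.natDegree < q) (hg0 : IsUnit (g.coeff 0)) :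
    letI := isLocal A π q g hπ hg hg0
    x A π q g ∈ maximalIdeal (AdjoinRoot (f A π q g)) := by
  letI := isLocal A π q g hπ hg hg0
  rw [maxIdeal_eq A π q g hπ hg hg0]; exact Ideal.mem_span_singleton_self _

lemma gx_isUnit (hπ : Irreducible π) (hg : g.natDegree < q) (hg0 : IsUnit (g.coeff 0)) :
    IsUnit (gx A π q g) := by
  letI := isLocal A π q g hπ hg hg0
  obtain ⟨w, hw⟩ := gx_eq A π q g
  by_contra hnu
  have hmem : gx A π q g ∈ maximalIdeal (AdjoinRoot (f A π q g)) := hnu
  have hxw : x A π q g * w ∈ maximalIdeal (AdjoinRoot (f A π q g)) :=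
    Ideal.mul_mem_right _ _ (x_mem_max A π q g hπ hg hg0)
  have h0 : AdjoinRoot.of (f A π q g) (g.coeff 0) ∈ maximalIdeal (AdjoinRoot (f A π q g)) := by
    have : AdjoinRoot.of (f A π q g) (g.coeff 0) = gx A π q g - x A π q g * w := by
      rw [hw]; ring
    rw [this]
    exact Ideal.sub_mem _ hmem hxw
  exact h0 (hg0.map _)

lemma isLocalHom_of (hπ : Irreducible π) (hg : g.natDegree < q) (hg0 : IsUnit (g.coeff 0)) :
    letI := isLocal A π q g hπ hg hg0
    IsLocalHom (algebraMap A (AdjoinRoot (f A π q g))) := by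
  letI := isLocal A π q g hπ hg hg0
  constructor
  intro a ha
  by_contra hna
  have hmem : a ∈ maximalIdeal A := hna
  rw [hπ.maximalIdeal_eq, Ideal.mem_span_singleton] at hmem
  obtain ⟨c, rfl⟩ := hmem
  have : algebraMap A (AdjoinRoot (f A π q g)) (π * c) ∈
      maximalIdeal (AdjoinRoot (f A π q g)) := by
    rw [map_mul]
    refine Ideal.mul_mem_right _ _ ?_
    show AdjoinRoot.of (f A π q g) π ∈ _
    rw [maxIdeal_eq A π q g hπ hg hg0]
    exact pi_mem A π q g hg hg0
  exact this ha

lemma map_maxIdeal (hπ : Irreducible π) (hg : g.natDegree < q) (hg0 : IsUnit (g.coeff 0)) :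
    letI := isLocal A π q g hπ hg hg0
    (maximalIdeal A).map (algebraMap A (AdjoinRoot (f A π q g))) =
      maximalIdeal (AdjoinRoot (f A π q g)) ^ q := by
  letI := isLocal A π q g hπ hg hg0
  letI := isDomain A π q g hπ hg hg0
  rw [maxIdeal_eq A π q g hπ hg hg0, hπ.maximalIdeal_eq, Ideal.map_span, Set.image_singleton,
    Ideal.span_singleton_pow, Ideal.span_singleton_eq_span_singleton]
  obtain ⟨u, hu⟩ := gx_isUnit A π q g hπ hg hg0
  refine ⟨u, ?_⟩
  rw [hu]
  exact (x_pow A π q g).symm

lemma x_irreducible (hπ : Irreducible π) (hg : g.natDegree < q) (hg0 : IsUnit (g.coeff 0)) :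
    letI := isDomain A π q g hπ hg hg0
    letI := isDVR A π q g hπ hg hg0
    Irreducible (x A π q g) := by
  letI := isDomain A π q g hπ hg hg0
  letI := isDVR A π q g hπ hg hg0
  rw [IsDiscreteValuationRing.irreducible_iff_uniformizer]
  exact maxIdeal_eq A π q g hπ hg hg0

lemma ramIdx_eq (hπ : Irreducible π) (hg : g.natDegree < q) (hg0 : IsUnit (g.coeff 0)) :
    letI := isLocal A π q g hπ hg hg0
    Ideal.ramificationIdx' (maximalIdeal A) (maximalIdeal (AdjoinRoot (f A π q g))) = q := by
  letI := isDomain A π q g hπ hg hg0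
  letI := isDVR A π q g hπ hg hg0
  apply Ideal.ramificationIdx'_spec
  · rw [map_maxIdeal A π q g hπ hg hg0]
  · rw [map_maxIdeal A π q g hπ hg hg0]
    intro hle
    have hirr := x_irreducible A π q g hπ hg hg0
    rw [hirr.maximalIdeal_eq, Ideal.span_singleton_pow, Ideal.span_singleton_pow,
      Ideal.span_singleton_le_span_singleton] at hle
    obtain ⟨c, hc⟩ := hle
    have h0 : x A π q g ^ q ≠ 0 := pow_ne_zero _ hirr.ne_zero
    have : x A π q g ^ q * 1 = x A π q g ^ q * (x A π q g * c) := by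
      rw [mul_one]; conv_lhs => rw [hc]
      ring
    have h1 := mul_left_cancel₀ h0 this
    exact hirr.not_isUnit (IsUnit.of_mul_eq_one c h1.symm)

lemma residue_surj (hπ : Irreducible π) (hg : g.natDegree < q) (hg0 : IsUnit (g.coeff 0)) :
    letI := isLocal A π q g hπ hg hg0
    Function.Surjective (fun a : A => residue (AdjoinRoot (f A π q g)) (algebraMap A _ a)) := by
  letI := isLocal A π q g hπ hg hg0
  intro y
  obtain ⟨b, rfl⟩ := residue_surjective y
  obtain ⟨a, w, rfl⟩ := exists_const A π q g b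
  refine ⟨a, ?_⟩
  show residue _ (AdjoinRoot.of (f A π q g) a) = _
  rw [map_add, left_eq_add, residue_eq_zero_iff, maxIdeal_eq A π q g hπ hg hg0]
  exact Ideal.mul_mem_right _ _ (Ideal.mem_span_singleton_self _)

/-- a ring hom out of `A'` to a domain which is injective on `A` is injective -/
lemma hom_injective (hπ : Irreducible π) (hg : g.natDegree < q) (hg0 : IsUnit (g.coeff 0))
    {F : Type*} [CommRing F] [IsDomain F]
    (φ : AdjoinRoot (f A π q g) →+* F)
    (hφ : Function.Injective (φ.comp (AdjoinRoot.of (f A π q g)))) :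
    Function.Injective φ := by
  letI := isDomain A π q g hπ hg hg0
  letI := isDVR A π q g hπ hg hg0
  rw [RingHom.injective_iff_ker_eq_bot]
  haveI : (RingHom.ker φ).IsPrime := RingHom.ker_isPrime φ
  refine prime_eq_bot_of_not_mem (RingHom.ker φ) (x := AdjoinRoot.of (f A π q g) π) ?_ ?_
  · intro hu
    have : AdjoinRoot.of (f A π q g) π ∈ maximalIdeal (AdjoinRoot (f A π q g)) := by
      rw [maxIdeal_eq A π q g hπ hg hg0]
      exact pi_mem A π q g hg hg0
    exact this hu
  · rw [RingHom.mem_ker]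
    intro h0
    have := hφ (by rw [RingHom.comp_apply, h0, map_zero] :
      (φ.comp (AdjoinRoot.of (f A π q g))) π = (φ.comp (AdjoinRoot.of (f A π q g))) 0)
    exact hπ.ne_zero this

/-- a valuation subring dominating `A` dominates `A'` -/
lemma dominates_adjoinRoot (hπ : Irreducible π) (hg : g.natDegree < q) (hg0 : IsUnit (g.coeff 0))
    {F : Type u} [Field F]
    (φ : AdjoinRoot (f A π q g) →+* F) {W : ValuationSubring F}
    (hW : Dominates A (φ.comp (AdjoinRoot.of (f A π q g))) W) :
    letI := isLocal A π q g hπ hg hg0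
    Dominates (AdjoinRoot (f A π q g)) φ W := by
  letI := isLocal A π q g hπ hg hg0
  -- `φ x ∈ W` by integrality
  have hxV : φ (x A π q g) ∈ W := by
    apply mem_valuationSubring_of_isIntegralElem W (φ.comp (AdjoinRoot.of (f A π q g))) hW.1
    refine ⟨f A π q g, f_monic A π q g hg, ?_⟩
    rw [← Polynomial.hom_eval₂, AdjoinRoot.eval₂_root, map_zero]
  have h1 : ∀ b : AdjoinRoot (f A π q g), φ b ∈ W := by
    intro b
    obtain ⟨p, rfl⟩ := AdjoinRoot.mk_surjective b
    induction p using Polynomial.induction_on' with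
    | add p q hp hq =>
      rw [map_add, map_add]
      exact add_mem hp hq
    | monomial k a =>
      rw [← C_mul_X_pow_eq_monomial, map_mul, map_pow, AdjoinRoot.mk_C, AdjoinRoot.mk_X,
        map_mul, map_pow]
      exact mul_mem (hW.1 a) (pow_mem hxV k)
  have hπV : W.valuation (φ (x A π q g) ^ q) < 1 := by
    have h2 := hW.2 π (by rw [hπ.maximalIdeal_eq]; exact Ideal.mem_span_singleton_self π)
    rw [RingHom.comp_apply] at h2
    rw [← map_pow, x_pow, map_mul, map_mul]
    have h3 : W.valuation (φ (gx A π q g)) ≤ 1 :=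
      (ValuationSubring.valuation_le_one_iff W _).mpr (h1 _)
    calc W.valuation (φ (AdjoinRoot.of (f A π q g) π)) * W.valuation (φ (gx A π q g))
        ≤ W.valuation (φ (AdjoinRoot.of (f A π q g) π)) * 1 := by gcongr
      _ < 1 := by rw [mul_one]; exact h2
  have hxlt : W.valuation (φ (x A π q g)) < 1 := by
    rw [map_pow] at hπV
    by_contra hge
    push Not at hge
    exact absurd hπV (not_lt.mpr (one_le_pow₀ hge))
  refine ⟨h1, ?_⟩
  intro b hb
  rw [maxIdeal_eq A π q g hπ hg hg0, Ideal.mem_span_singleton] at hb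
  obtain ⟨w, rfl⟩ := hb
  rw [map_mul, map_mul]
  have hw : W.valuation (φ w) ≤ 1 := (ValuationSubring.valuation_le_one_iff W _).mpr (h1 w)
  calc W.valuation (φ (x A π q g)) * W.valuation (φ w)
      ≤ W.valuation (φ (x A π q g)) * 1 := by gcongr
    _ < 1 := by rw [mul_one]; exact hxlt

end dvr

section ram
variable (A : Type u) [CommRing A] [IsDomain A] [IsDiscreteValuationRing A] (π : A) (q : ℕ)
  (g : A[X])

open Groth.Agent.S1987.Aux in
theorem totRam (hπ : Irreducible π) (hg : g.natDegree < q) (hg0 : IsUnit (g.coeff 0))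
    [IsDomain (AdjoinRoot (f A π q g))] [IsDiscreteValuationRing (AdjoinRoot (f A π q g))]
    (K₁ : Type u) [Field K₁] [Algebra (AdjoinRoot (f A π q g)) K₁]
    [IsFractionRing (AdjoinRoot (f A π q g)) K₁] :
    EtRam.IsTotallyRamified A ((algebraMap (AdjoinRoot (f A π q g)) K₁).comp
      (algebraMap A (AdjoinRoot (f A π q g)))) := by
  have hmax : IsLocalRing.maximalIdeal (AdjoinRoot (f A π q g)) = Ideal.span {x A π q g} :=
    maxIdeal_eq A π q g hπ hg hg0
  have hxm : x A π q g ∈ IsLocalRing.maximalIdeal (AdjoinRoot (f A π q g)) := by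
    rw [hmax]; exact Ideal.mem_span_singleton_self _
  have key : ∀ V : ValuationSubring K₁,
      EtRam.Dominates A ((algebraMap (AdjoinRoot (f A π q g)) K₁).comp
        (algebraMap A (AdjoinRoot (f A π q g)))) V →
      (∀ b : AdjoinRoot (f A π q g), algebraMap _ K₁ b ∈ V) ∧
      (∀ b ∈ IsLocalRing.maximalIdeal (AdjoinRoot (f A π q g)),
        V.valuation (algebraMap _ K₁ b) < 1) := by
    intro V hV
    exact dominates_adjoinRoot A π q g hπ hg hg0 (algebraMap _ K₁) hV
  refine ⟨⟨V0 (AdjoinRoot (f A π q g)) K₁, ?_, ?_⟩, ?_, ?_⟩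
  · intro a
    exact (mem_V0 _ K₁ _).mpr ⟨_, rfl⟩
  · intro a ha
    rw [RingHom.comp_apply]
    apply V0_lt
    rw [hπ.maximalIdeal_eq, Ideal.mem_span_singleton] at ha
    obtain ⟨c, rfl⟩ := ha
    rw [map_mul]
    refine Ideal.mul_mem_right _ _ ?_
    change AdjoinRoot.of (f A π q g) π ∈ _
    rw [hmax]
    exact pi_mem A π q g hg hg0
  · intro V V' hV hV'
    rw [eq_V0 _ K₁ V (key V hV).1 (key V hV).2, eq_V0 _ K₁ V' (key V' hV').1 (key V' hV').2]
  · intro V hV
    obtain ⟨h1, h2⟩ := key V hV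
    have hVeq := eq_V0 _ K₁ V h1 h2
    intro y
    obtain ⟨v, rfl⟩ := IsLocalRing.residue_surjective y
    have hv0 : (v : K₁) ∈ V0 (AdjoinRoot (f A π q g)) K₁ := by rw [← hVeq]; exact v.2
    obtain ⟨b, hb⟩ := (mem_V0 _ K₁ _).mp hv0
    obtain ⟨a, w, rfl⟩ := exists_const A π q g b
    refine ⟨a, ?_⟩
    dsimp only
    rw [← sub_eq_zero, ← map_sub, IsLocalRing.residue_eq_zero_iff,
      ValuationSubring.valuation_lt_one_iff]
    have hval : (((RingHom.codRestrict ((algebraMap (AdjoinRoot (f A π q g)) K₁).comp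
        (algebraMap A (AdjoinRoot (f A π q g)))) V hV.1 a - v : V)) : K₁) =
        - algebraMap _ K₁ (x A π q g * w) := by
      rw [AddSubgroupClass.coe_sub, ← hb, map_add]
      simp only [RingHom.codRestrict_apply, RingHom.comp_apply]
      change algebraMap _ K₁ (AdjoinRoot.of (f A π q g) a) - _ = _
      ring
    rw [hval, Valuation.map_neg]
    exact h2 _ (Ideal.mul_mem_right _ _ hxm)

end ram

end Eis
end Groth.Agent.Helper9.EtRamLib
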