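import Mathlib
import Groth.Prelude.Def_EtRam
import Groth.Agent.Lib.Helper9.EtRam.Dom20

set_option autoImplicit false
set_option linter.style.haveILetI false

/-!
# Dictionary between valuation subrings dominating a DVR and primes of the integral closure (helper9)
-/

namespace Groth.Agent.Helper9.EtRamLib
namespace Dict
open IsLocalRing EtRam
open Groth.Agent.S1987.Aux (V0 mem_V0 V0_lt eq_V0)

universe u

section Abs
variable {S L : Type u} [CommRing S] [Field L] [Algebra S L]
  (V : ValuationSubring L) (hSV : ∀ s : S, algebraMap S L s ∈ V)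

/-- the inclusion `S → V` -/
def incl : S →+* V := RingHom.codRestrict (algebraMap S L) V hSV

@[simp] lemma incl_coe (s : S) : ((incl V hSV s : V) : L) = algebraMap S L s := rfl

/-- the center of `V` on `S` -/
def center : Ideal S := (maximalIdeal V).comap (incl V hSV)

lemma mem_center {s : S} : s ∈ center V hSV ↔ V.valuation (algebraMap S L s) < 1 := by
  rw [center, Ideal.mem_comap, ValuationSubring.valuation_lt_one_iff]
  rfl

instance center_isPrime : (center V hSV).IsPrime := Ideal.comap_isPrime _ _

lemma val_eq_one_of_not_mem {t : S} (ht : t ∉ center V hSV) :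
    V.valuation (algebraMap S L t) = 1 := by
  rw [mem_center] at ht
  push Not at ht
  exact le_antisymm ((V.valuation_le_one_iff _).2 (hSV t)) ht

lemma ne_zero_of_not_mem {t : S} (ht : t ∉ center V hSV) : algebraMap S L t ≠ 0 := by
  intro h
  have := val_eq_one_of_not_mem V hSV ht
  rw [h, map_zero] at this
  exact zero_ne_one this

/-- fractions with denominator outside the center lie in `V` -/
lemma frac_mem (a : S) {t : S} (ht : t ∉ center V hSV) :
    algebraMap S L a * (algebraMap S L t)⁻¹ ∈ V := by
  rw [← V.valuation_le_one_iff, map_mul, map_inv₀, val_eq_one_of_not_mem V hSV ht, inv_one,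
    mul_one]
  exact (V.valuation_le_one_iff _).2 (hSV a)

variable [IsDomain S] [IsDedekindDomain S] [IsFractionRing S L]

lemma primeCompl_le : (center V hSV).primeCompl ≤ nonZeroDivisors S :=
  Ideal.primeCompl_le_nonZeroDivisors _

/-- the localization at the center, as a subalgebra of `L` -/
noncomputable abbrev Bq : Subalgebra S L :=
  Localization.subalgebra.ofField L (center V hSV).primeCompl (primeCompl_le V hSV)

lemma mem_Bq {x : L} : x ∈ Bq V hSV ↔
    ∃ (a s : S) (_ : s ∈ (center V hSV).primeCompl),
      x = algebraMap S L a * (algebraMap S L s)⁻¹ := Iff.rfl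

variable (hq : center V hSV ≠ ⊥)
include hq

/-- every element of `V` is a fraction with denominator outside the center -/
lemma exists_frac {x : L} (hx : x ∈ V) :
    ∃ (a t : S), t ∉ center V hSV ∧ x = algebraMap S L a * (algebraMap S L t)⁻¹ := by
  haveI : IsDiscreteValuationRing (Bq V hSV) :=
    IsLocalization.AtPrime.isDiscreteValuationRing_of_dedekind_domain S hq (Bq V hSV)
  have h1 : ∀ b : Bq V hSV, algebraMap (Bq V hSV) L b ∈ V := by
    rintro ⟨b, hb⟩
    obtain ⟨a, s, hs, rfl⟩ := (mem_Bq V hSV).1 hb
    exact frac_mem V hSV a hs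
  have hVeq : V = V0 (Bq V hSV) L := by
    refine eq_V0 (Bq V hSV) L V h1 ?_
    rintro ⟨b, hb⟩ hbm
    obtain ⟨a, s, hs, rfl⟩ := (mem_Bq V hSV).1 hb
    by_contra hge
    push Not at hge
    have hs1 := val_eq_one_of_not_mem V hSV hs
    have ha1 : V.valuation (algebraMap S L a) = 1 := by
      have hle : V.valuation (algebraMap S L a) ≤ 1 := (V.valuation_le_one_iff _).2 (hSV a)
      refine le_antisymm hle ?_
      have : V.valuation (algebraMap S L a * (algebraMap S L s)⁻¹) =
          V.valuation (algebraMap S L a) := by
        rw [map_mul, map_inv₀, hs1, inv_one, mul_one]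
      rw [← this]
      exact hge
    have ha : a ∉ center V hSV := by
      rw [mem_center, ha1]
      exact lt_irrefl _
    have ha0 := ne_zero_of_not_mem V hSV ha
    have hs0 := ne_zero_of_not_mem V hSV hs
    -- the inverse
    have hinv : algebraMap S L s * (algebraMap S L a)⁻¹ ∈ Bq V hSV :=
      (mem_Bq V hSV).2 ⟨s, a, ha, rfl⟩
    have hunit : IsUnit (⟨algebraMap S L a * (algebraMap S L s)⁻¹, hb⟩ : Bq V hSV) := by
      refine IsUnit.of_mul_eq_one ⟨_, hinv⟩ ?_
      apply Subtype.ext
      show algebraMap S L a * (algebraMap S L s)⁻¹ * (algebraMap S L s * (algebraMap S L a)⁻¹) = 1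
      field_simp
    exact hbm hunit
  rw [hVeq] at hx
  obtain ⟨⟨b, hb⟩, rfl⟩ := (mem_V0 _ L _).1 hx
  obtain ⟨a, s, hs, h⟩ := (mem_Bq V hSV).1 hb
  exact ⟨a, s, hs, h⟩

omit hq in
/-- `V` is determined by its center -/
lemma eq_of_center_eq (V' : ValuationSubring L) (hSV' : ∀ s : S, algebraMap S L s ∈ V')
    (hq : center V hSV ≠ ⊥) (h : center V hSV = center V' hSV') : V = V' := by
  have hq' : center V' hSV' ≠ ⊥ := h ▸ hq
  apply le_antisymm
  · intro x hx
    obtain ⟨a, t, ht, rfl⟩ := exists_frac V hSV hq hx
    rw [h] at ht
    exact frac_mem V' hSV' a ht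
  · intro x hx
    obtain ⟨a, t, ht, rfl⟩ := exists_frac V' hSV' hq' hx
    rw [← h] at ht
    exact frac_mem V hSV a ht

lemma center_isMaximal : (center V hSV).IsMaximal :=
  (center_isPrime V hSV).isMaximal hq

/-- `S → κ(V)` is surjective -/
lemma residue_surj (x : V) : ∃ s : S, residue V (incl V hSV s) = residue V x := by
  obtain ⟨a, t, ht, hx⟩ := exists_frac V hSV hq x.2
  have hmax := center_isMaximal V hSV hq
  obtain ⟨t', i, hi, hti⟩ := hmax.exists_inv ht
  refine ⟨a * t', ?_⟩
  rw [← sub_eq_zero, ← map_sub, residue_eq_zero_iff, ValuationSubring.valuation_lt_one_iff]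
  have ht0 := ne_zero_of_not_mem V hSV ht
  have e1 : ((incl V hSV (a * t') - x : V) : L) = - ((x : L) * algebraMap S L i) := by
    have h1 : algebraMap S L t' * algebraMap S L t + algebraMap S L i = 1 := by
      rw [← map_mul, ← map_add, hti, map_one]
    have h2 : algebraMap S L i = 1 - algebraMap S L t' * algebraMap S L t := by
      linear_combination h1
    rw [AddSubgroupClass.coe_sub, incl_coe, map_mul, hx, h2]
    field_simp
    ring
  rw [e1, Valuation.map_neg, map_mul]
  have hi1 : V.valuation (algebraMap S L i) < 1 := (mem_center V hSV).1 hi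
  calc V.valuation (x : L) * V.valuation (algebraMap S L i)
      ≤ 1 * V.valuation (algebraMap S L i) :=
        mul_le_mul_left ((V.valuation_le_one_iff _).2 x.2) _
    _ < 1 := by rwa [one_mul]

/-- powers of the center are contractions of powers of the maximal ideal -/
lemma mem_center_pow [IsDiscreteValuationRing V] (n : ℕ) (s : S) :
    s ∈ center V hSV ^ n ↔ incl V hSV s ∈ maximalIdeal V ^ n := by
  constructor
  · intro hs
    have : (center V hSV ^ n).map (incl V hSV) ≤ maximalIdeal V ^ n := by
      rw [Ideal.map_pow]
      exact Ideal.pow_right_mono (Ideal.map_le_iff_le_comap.2 le_rfl) n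
    exact this (Ideal.mem_map_of_mem _ hs)
  · -- a uniformizer of `V` lying in `S`
    obtain ⟨ϖ, hϖ⟩ := IsDiscreteValuationRing.exists_irreducible V
    obtain ⟨s₀, t₀, ht₀, hϖx⟩ := exists_frac V hSV hq ϖ.2
    have ht₀0 := ne_zero_of_not_mem V hSV ht₀
    have hs₀ : incl V hSV s₀ = ϖ * incl V hSV t₀ := by
      apply Subtype.ext
      rw [MulMemClass.coe_mul, incl_coe, incl_coe, hϖx]
      field_simp
    have hunit : IsUnit (incl V hSV t₀) := by
      by_contra hnu
      have : incl V hSV t₀ ∈ maximalIdeal V := hnu
      exact ht₀ this
    have hirr : Irreducible (incl V hSV s₀) := by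
      rw [hs₀]
      exact (irreducible_mul_isUnit hunit).mpr hϖ  
    have hmV : maximalIdeal V = Ideal.span {incl V hSV s₀} := hirr.maximalIdeal_eq
    have hs₀q : s₀ ∈ center V hSV := by
      show incl V hSV s₀ ∈ maximalIdeal V
      rw [hmV]; exact Ideal.mem_span_singleton_self _
    have hmax := center_isMaximal V hSV hq
    induction n generalizing s with
    | zero => intro _; simp
    | succ n ih =>
      intro hs
      rw [hmV, Ideal.span_singleton_pow, Ideal.mem_span_singleton] at hs
      obtain ⟨w, hw⟩ := hs
      -- x = s₀^n * w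
      set x : V := incl V hSV s₀ ^ n * w with hx
      obtain ⟨a₁, t₁, ht₁, hxx⟩ := exists_frac V hSV hq x.2
      have ht₁0 := ne_zero_of_not_mem V hSV ht₁
      have ha₁ : incl V hSV a₁ = x * incl V hSV t₁ := by
        apply Subtype.ext
        rw [MulMemClass.coe_mul, incl_coe, incl_coe, hxx]
        field_simp
      have ha₁q : a₁ ∈ center V hSV ^ n := by
        apply ih
        rw [ha₁, hmV, Ideal.span_singleton_pow, Ideal.mem_span_singleton]
        exact ⟨w * incl V hSV t₁, by rw [hx]; ring⟩
      have hprod : s * t₁ = s₀ * a₁ := by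
        apply IsFractionRing.injective S L
        have h1 := congrArg (Subtype.val : V → L) hw
        have h2 := congrArg (Subtype.val : V → L) ha₁
        simp only [MulMemClass.coe_mul, incl_coe, SubmonoidClass.coe_pow, hx] at h1 h2
        rw [map_mul, map_mul, h1, h2]
        ring
      have hmem : s * t₁ ∈ center V hSV ^ (n + 1) := by
        rw [hprod, pow_succ']
        exact Ideal.mul_mem_mul hs₀q ha₁q
      have hprim : (center V hSV ^ (n + 1)).IsPrimary := by
        apply Ideal.isPrimary_of_isMaximal_radical
        rw [Ideal.radical_pow _ (Nat.succ_ne_zero n), (center_isPrime V hSV).radical]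
        exact hmax
      rcases (Ideal.isPrimary_iff.1 hprim).2 hmem with h | h
      · exact h
      · rw [Ideal.radical_pow _ (Nat.succ_ne_zero n), (center_isPrime V hSV).radical] at h
        exact absurd h ht₁

end Abs

section Conc
variable {A K L : Type u} [CommRing A] [IsDomain A] [IsDiscreteValuationRing A]
  [Field K] [Algebra A K] [IsFractionRing A K] [Field L] [Algebra K L] [Algebra A L]
  [IsScalarTower A K L]
  {V : ValuationSubring L} (hV : Dominates A (algebraMap A L) V)

include hV in
lemma hSV : ∀ s : integralClosure A L, algebraMap (integralClosure A L) L s ∈ V :=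
  fun s => mem_valuationSubring_of_isIntegralElem V (algebraMap A L) hV.1 s.2

lemma incl_algebraMap (a : A) :
    incl V (hSV hV) (algebraMap A (integralClosure A L) a) =
      RingHom.codRestrict (algebraMap A L) V hV.1 a := Subtype.ext rfl

variable (K) in
include K in
lemma algebraMap_injective : Function.Injective (algebraMap A L) := by
  rw [IsScalarTower.algebraMap_eq A K L]
  exact (algebraMap K L).injective.comp (IsFractionRing.injective A K)

lemma mem_center_algebraMap (a : A) :
    algebraMap A (integralClosure A L) a ∈ center V (hSV hV) ↔ a ∈ maximalIdeal A := by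
  rw [mem_center]
  constructor
  · intro h
    by_contra ha
    have hu : IsUnit a := by
      by_contra hnu
      exact ha hnu
    obtain ⟨u, rfl⟩ := hu
    have h1 : algebraMap A L (u : A) * algebraMap A L ((u⁻¹ : Aˣ) : A) = 1 := by
      rw [← map_mul, Units.mul_inv, map_one]
    have h2 := congrArg V.valuation h1
    rw [map_mul, map_one] at h2
    have h3 : V.valuation (algebraMap A L ((u⁻¹ : Aˣ) : A)) ≤ 1 :=
      (V.valuation_le_one_iff _).2 (hV.1 _)
    have h4 : V.valuation (algebraMap A L (u : A)) * V.valuation (algebraMap A L ((u⁻¹ : Aˣ) : A))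
        < 1 := by
      calc _ ≤ V.valuation (algebraMap A L (u : A)) * 1 := by gcongr
        _ < 1 := by rw [mul_one]; exact h
    rw [h2] at h4
    exact lt_irrefl _ h4
  · intro ha
    exact hV.2 a ha

lemma center_liesOver : (center V (hSV hV)).LiesOver (maximalIdeal A) := by
  constructor
  ext a
  rw [Ideal.under_def, Ideal.mem_comap, mem_center_algebraMap hV]

variable (K) in
include K in
lemma center_ne_bot : center V (hSV hV) ≠ ⊥ := by
  obtain ⟨π, hπ⟩ := IsDiscreteValuationRing.exists_irreducible A
  intro h
  have h1 : algebraMap A (integralClosure A L) π ∈ center V (hSV hV) := by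
    rw [mem_center_algebraMap hV]
    exact hπ.not_isUnit
  rw [h, Ideal.mem_bot] at h1
  have h2 : algebraMap A L π = 0 := by
    have := congrArg (algebraMap (integralClosure A L) L) h1
    rwa [map_zero] at this
  exact hπ.ne_zero (algebraMap_injective K (map_zero (algebraMap A L) ▸ h2))

variable [FiniteDimensional K L] [Algebra.IsSeparable K L]

variable (K) in
include K in
theorem ramIdx_eq :
    letI : Algebra A V := (RingHom.codRestrict (algebraMap A L) V hV.1).toAlgebra
    Ideal.ramificationIdx' (maximalIdeal A) (maximalIdeal V) =
      (center V (hSV hV)).ramificationIdx A := by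
  letI : Algebra A V := (RingHom.codRestrict (algebraMap A L) V hV.1).toAlgebra
  haveI : IsDiscreteValuationRing V := isDVR_of_dominates (A := A) (K := K)
    (g := algebraMap A L) (fun a => IsScalarTower.algebraMap_apply A K L a) hV
  haveI : IsLocalHom (algebraMap A V) := dom_isLocalHom hV
  have hinjL := algebraMap_injective (A := A) K (L := L)
  have hinj : Function.Injective (algebraMap A V) := codRestrict_injective hinjL hV.1
  haveI := integralClosure.isDedekindDomain A K L
  haveI : IsFractionRing (integralClosure A L) L :=
    integralClosure.isFractionRing_of_finite_extension K L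
  have hq := center_ne_bot K hV
  haveI hlo := center_liesOver hV
  have hinjS : Function.Injective (algebraMap A (integralClosure A L)) := by
    intro a b hab
    apply hinjL
    exact congrArg (algebraMap (integralClosure A L) L) hab
  haveI : Module.IsTorsionFree A (integralClosure A L) :=
    Module.isTorsionFree_iff_algebraMap_injective.2 hinjS
  have hmA : maximalIdeal A ≠ ⊥ := IsDiscreteValuationRing.not_a_field A
  rw [← Ideal.ramificationIdx'_eq_ramificationIdx (maximalIdeal A) (center V (hSV hV)) hmA]
  symm
  obtain ⟨π, hπ⟩ := IsDiscreteValuationRing.exists_irreducible A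
  have hle_iff : ∀ n : ℕ, (maximalIdeal A).map (algebraMap A (integralClosure A L)) ≤
      center V (hSV hV) ^ n ↔ (maximalIdeal A).map (algebraMap A V) ≤ maximalIdeal V ^ n := by
    intro n
    rw [hπ.maximalIdeal_eq, Ideal.map_span, Set.image_singleton, Ideal.map_span,
      Set.image_singleton, Ideal.span_singleton_le_iff_mem, Ideal.span_singleton_le_iff_mem,
      mem_center_pow V (hSV hV) hq n, incl_algebraMap hV]
    rfl
  have hne : maximalIdeal V ≠ ⊥ := IsDiscreteValuationRing.not_a_field V
  apply Ideal.ramificationIdx'_spec
  · rw [hle_iff, map_maximalIdeal_eq_pow A V hinj]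
  · rw [hle_iff, map_maximalIdeal_eq_pow A V hinj]
    intro hle
    exact not_le_of_gt (Ideal.pow_succ_lt_pow hne _) hle

variable (K) in
include K in
theorem inertia_eq :
    letI : Algebra A V := (RingHom.codRestrict (algebraMap A L) V hV.1).toAlgebra
    ∀ [IsLocalHom (algebraMap A V)],
    Module.finrank (ResidueField A) (ResidueField V) = (center V (hSV hV)).inertiaDeg A := by
  letI : Algebra A V := (RingHom.codRestrict (algebraMap A L) V hV.1).toAlgebra
  intro _
  haveI := integralClosure.isDedekindDomain A K L
  haveI : IsFractionRing (integralClosure A L) L :=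
    integralClosure.isFractionRing_of_finite_extension K L
  have hq := center_ne_bot K hV
  haveI hmax := center_isMaximal V (hSV hV) hq
  haveI hlo := center_liesOver hV
  rw [Ideal.inertiaDeg_eq_of_isMaximal (maximalIdeal A) (center V (hSV hV))]
  symm
  let φ : integralClosure A L ⧸ center V (hSV hV) →+* ResidueField V :=
    Ideal.Quotient.lift (center V (hSV hV)) ((residue V).comp (incl V (hSV hV)))
      (fun s hs => by
        rw [RingHom.comp_apply, residue_eq_zero_iff]
        exact hs)
  have hinjφ : Function.Injective φ := by
    letI : Field (integralClosure A L ⧸ center V (hSV hV)) := Ideal.Quotient.field _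
    exact φ.injective
  have hsurjφ : Function.Surjective φ := by
    intro y
    obtain ⟨x, rfl⟩ := residue_surjective y
    obtain ⟨s, hs⟩ := residue_surj V (hSV hV) hq x
    exact ⟨Ideal.Quotient.mk _ s, by simpa [φ] using hs⟩
  refine Algebra.finrank_eq_of_equiv_equiv
    (RingEquiv.refl (A ⧸ maximalIdeal A) : A ⧸ maximalIdeal A ≃+* ResidueField A)
    (RingEquiv.ofBijective φ ⟨hinjφ, hsurjφ⟩) ?_
  apply Ideal.Quotient.ringHom_ext
  ext a
  simp only [RingHom.comp_apply]
  show algebraMap (ResidueField A) (ResidueField V) (residue A a) =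
    φ (algebraMap (A ⧸ maximalIdeal A) (integralClosure A L ⧸ center V (hSV hV))
      (Ideal.Quotient.mk _ a))
  rw [← Ideal.Quotient.algebraMap_eq, ← IsScalarTower.algebraMap_apply,
    IsScalarTower.algebraMap_apply A (integralClosure A L)
      (integralClosure A L ⧸ center V (hSV hV)), Ideal.Quotient.algebraMap_eq]
  simp only [φ, Ideal.Quotient.lift_mk, RingHom.comp_apply, incl_algebraMap hV]
  rfl

/-- ramification index of the center -/
noncomputable def eq : ℕ := (center V (hSV hV)).ramificationIdx A
/-- inertia degree of the center -/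
noncomputable def fq : ℕ := (center V (hSV hV)).inertiaDeg A

variable (K) in
include K in
lemma center_mem_primesOver :
    center V (hSV hV) ∈ (maximalIdeal A).primesOver (integralClosure A L) :=
  ⟨center_isPrime V (hSV hV), center_liesOver hV⟩

variable (K) in
include K in
/-- two dominating valuation subrings with the same center are equal -/
lemma eq_of_center_eq' {V' : ValuationSubring L} (hV' : Dominates A (algebraMap A L) V')
    (h : center V (hSV hV) = center V' (hSV hV')) : V = V' := by
  haveI := integralClosure.isDedekindDomain A K L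
  haveI : IsFractionRing (integralClosure A L) L :=
    integralClosure.isFractionRing_of_finite_extension K L
  exact eq_of_center_eq V (hSV hV) V' (hSV hV') (center_ne_bot K hV) h

variable (K) in
include K in
theorem sum_eq [Fintype ((maximalIdeal A).primesOver (integralClosure A L))] :
    ∑ q : (maximalIdeal A).primesOver (integralClosure A L),
      q.1.ramificationIdx A * q.1.inertiaDeg A = Module.finrank K L := by
  haveI := integralClosure.isDedekindDomain A K L
  haveI : IsFractionRing (integralClosure A L) L :=
    integralClosure.isFractionRing_of_finite_extension K L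
  haveI : Module.Finite A (integralClosure A L) :=
    IsIntegralClosure.finite A K L (integralClosure A L)
  have hinjL := algebraMap_injective (A := A) K (L := L)
  have hinjS : Function.Injective (algebraMap A (integralClosure A L)) := by
    intro a b hab
    apply hinjL
    exact congrArg (algebraMap (integralClosure A L) L) hab
  haveI : Module.IsTorsionFree A (integralClosure A L) :=
    Module.isTorsionFree_iff_algebraMap_injective.2 hinjS
  haveI : Module.Flat A (integralClosure A L) := inferInstance
  rw [Ideal.sum_ramification_inertia_eq_finrank (maximalIdeal A) (integralClosure A L),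
    IsFractionRing.finrank_eq A K (integralClosure A L) L]

variable (K) in
include K in
theorem fund_bound :
    eq hV * fq hV ≤ Module.finrank K L ∧
    (eq hV * fq hV = Module.finrank K L →
      ∀ V' : ValuationSubring L, Dominates A (algebraMap A L) V' → V' = V) := by
  haveI := integralClosure.isDedekindDomain A K L
  haveI : Module.Finite A (integralClosure A L) :=
    IsIntegralClosure.finite A K L (integralClosure A L)
  letI : Fintype ((maximalIdeal A).primesOver (integralClosure A L)) :=
    (Algebra.QuasiFinite.finite_primesOver (maximalIdeal A)).fintype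
  have hsum := sum_eq (A := A) K (L := L)
  set q₀ : (maximalIdeal A).primesOver (integralClosure A L) :=
    ⟨center V (hSV hV), center_mem_primesOver K hV⟩ with hq₀
  have hle : q₀.1.ramificationIdx A * q₀.1.inertiaDeg A ≤ Module.finrank K L := by
    rw [← hsum]
    exact Finset.single_le_sum (f := fun q : (maximalIdeal A).primesOver (integralClosure A L) =>
      q.1.ramificationIdx A * q.1.inertiaDeg A) (fun _ _ => Nat.zero_le _) (Finset.mem_univ q₀)
  refine ⟨hle, ?_⟩
  intro heq V' hV'
  symm
  apply eq_of_center_eq' K hV hV'
  by_contra hne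
  set q₁ : (maximalIdeal A).primesOver (integralClosure A L) :=
    ⟨center V' (hSV hV'), center_mem_primesOver K hV'⟩ with hq₁
  have hne' : q₀ ≠ q₁ := fun h => hne (congrArg Subtype.val h)
  haveI : q₁.1.IsPrime := q₁.2.1
  have hpos : 0 < q₁.1.ramificationIdx A * q₁.1.inertiaDeg A :=
    Nat.mul_pos (Ideal.ramificationIdx_pos _ _) (Ideal.inertiaDeg_pos _ _)
  have h2 : q₀.1.ramificationIdx A * q₀.1.inertiaDeg A +
      q₁.1.ramificationIdx A * q₁.1.inertiaDeg A ≤ Module.finrank K L := by
    rw [← hsum]
    have := Finset.sum_le_sum_of_subset_of_nonneg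
      (f := fun q : (maximalIdeal A).primesOver (integralClosure A L) =>
        q.1.ramificationIdx A * q.1.inertiaDeg A)
      (Finset.subset_univ ({q₀, q₁} : Finset _)) (fun _ _ _ => Nat.zero_le _)
    rwa [Finset.sum_pair hne'] at this
  have h3 : eq hV * fq hV = q₀.1.ramificationIdx A * q₀.1.inertiaDeg A := rfl
  omega

variable (K) in
include K in
theorem galois_eq [IsGalois K L] {V' : ValuationSubring L}
    (hV' : Dominates A (algebraMap A L) V') : eq hV = eq hV' ∧ fq hV = fq hV' := by
  haveI := integralClosure.isDedekindDomain A K L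
  haveI : IsFractionRing (integralClosure A L) L :=
    integralClosure.isFractionRing_of_finite_extension K L
  haveI : Module.Finite A (integralClosure A L) :=
    IsIntegralClosure.finite A K L (integralClosure A L)
  letI : MulSemiringAction Gal(L/K) (integralClosure A L) :=
    IsIntegralClosure.MulSemiringAction A K L (integralClosure A L)
  haveI : IsGaloisGroup Gal(L/K) A (integralClosure A L) :=
    IsGaloisGroup.of_isFractionRing _ _ _ K L
  haveI := center_liesOver hV
  haveI := center_liesOver hV'
  exact ⟨Ideal.ramificationIdx_eq_of_isGaloisGroup (maximalIdeal A) _ _ Gal(L/K),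
    Ideal.inertiaDeg_eq_of_isGaloisGroup (maximalIdeal A) _ _ Gal(L/K)⟩

variable (K) in
include K in
theorem galois_count [IsGalois K L] :
    ∃ r : ℕ, 0 < r ∧ r * (eq hV * fq hV) = Module.finrank K L ∧
      (r = 1 → ∀ V' : ValuationSubring L, Dominates A (algebraMap A L) V' → V' = V) := by
  haveI := integralClosure.isDedekindDomain A K L
  haveI : IsFractionRing (integralClosure A L) L :=
    integralClosure.isFractionRing_of_finite_extension K L
  haveI : Module.Finite A (integralClosure A L) :=
    IsIntegralClosure.finite A K L (integralClosure A L)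
  letI : MulSemiringAction Gal(L/K) (integralClosure A L) :=
    IsIntegralClosure.MulSemiringAction A K L (integralClosure A L)
  haveI : IsGaloisGroup Gal(L/K) A (integralClosure A L) :=
    IsGaloisGroup.of_isFractionRing _ _ _ K L
  letI : Fintype ((maximalIdeal A).primesOver (integralClosure A L)) :=
    (Algebra.QuasiFinite.finite_primesOver (maximalIdeal A)).fintype
  have hsum := sum_eq (A := A) K (L := L)
  set q₀ : (maximalIdeal A).primesOver (integralClosure A L) :=
    ⟨center V (hSV hV), center_mem_primesOver K hV⟩ with hq₀
  haveI := center_liesOver hV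
  have hall : ∀ q : (maximalIdeal A).primesOver (integralClosure A L),
      q.1.ramificationIdx A * q.1.inertiaDeg A = eq hV * fq hV := by
    intro q
    haveI : q.1.IsPrime := q.2.1
    haveI : q.1.LiesOver (maximalIdeal A) := q.2.2
    rw [Ideal.ramificationIdx_eq_of_isGaloisGroup (maximalIdeal A) q.1 (center V (hSV hV))
      Gal(L/K), Ideal.inertiaDeg_eq_of_isGaloisGroup (maximalIdeal A) q.1 (center V (hSV hV))
      Gal(L/K)]
    rfl
  rw [Finset.sum_congr rfl (fun q _ => hall q), Finset.sum_const, smul_eq_mul,
    Finset.card_univ] at hsum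
  refine ⟨Fintype.card ((maximalIdeal A).primesOver (integralClosure A L)),
    Fintype.card_pos_iff.2 ⟨q₀⟩, hsum, ?_⟩
  intro h1 V' hV'
  symm
  apply eq_of_center_eq' K hV hV'
  have hsub := Fintype.card_le_one_iff_subsingleton.1 h1.le
  have := hsub.elim q₀ ⟨center V' (hSV hV'), center_mem_primesOver K hV'⟩
  exact congrArg Subtype.val this

end Conc

end Dict
end Groth.Agent.Helper9.EtRamLib
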