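import Mathlib
import Groth.Prelude.Def_EtRam
import Groth.Agent.Lib.Helper9.EtRam.Dom21

set_option autoImplicit false
set_option linter.style.haveILetI false

/-!
# Monogenic form of Lemma U (helper9)

`A` a DVR, `L = K(y)` with `y` a root of a monic `F ∈ A[X]` whose reduction is squarefree.
Then every valuation subring of `L` dominating `A` is weakly unramified over `A` and its residue
field is generated by the class of `y`.
-/

namespace Groth.Agent.Helper9.EtRamLib
namespace MG
open IsLocalRing EtRam Polynomial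

universe u

/-- quotients of `A[X]/(F)` by ideals containing `m_A` are von Neumann regular when `F mod m_A`
is squarefree. -/
theorem vnr_quot {A : Type u} [CommRing A] [IsLocalRing A] {F : A[X]} (hF : F.Monic)
    (hsq : Squarefree (F.map (residue A))) {R' : Type*} [CommRing R']
    (φ : AdjoinRoot F →+* R') (hφ : Function.Surjective φ) (I' : Ideal R')
    (hI : (maximalIdeal A).map (φ.comp (AdjoinRoot.of F)) ≤ I') : IsVNR (R' ⧸ I') := by
  let e := AdjoinRoot.quotAdjoinRootEquivQuotPolynomialQuot (maximalIdeal A) F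
  have hFm : (F.map (residue A)).Monic := hF.map _
  haveI : Module.Finite (ResidueField A) (AdjoinRoot (F.map (residue A))) :=
    hFm.finite_adjoinRoot
  haveI : IsArtinianRing (AdjoinRoot (F.map (residue A))) :=
    IsArtinianRing.of_finite (ResidueField A) _
  haveI : IsReduced (AdjoinRoot (F.map (residue A))) := by
    apply (Ideal.isRadical_iff_quotient_reduced _).mp
    rw [← isRadical_iff_span_singleton]
    exact hsq.isRadical
  have h1 : IsVNR (AdjoinRoot (F.map (residue A))) := isVNR_of_reduced_artinian _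
  have h2 : IsVNR (AdjoinRoot F ⧸ (maximalIdeal A).map (AdjoinRoot.of F)) :=
    IsVNR.of_surjective e.symm.toRingHom e.symm.surjective h1
  let ψ : AdjoinRoot F ⧸ (maximalIdeal A).map (AdjoinRoot.of F) →+* R' ⧸ I' :=
    Ideal.Quotient.lift _ ((Ideal.Quotient.mk I').comp φ) (by
      intro t ht
      rw [RingHom.comp_apply, Ideal.Quotient.eq_zero_iff_mem]
      apply hI
      rw [← Ideal.map_map]
      exact Ideal.mem_map_of_mem φ ht)
  refine IsVNR.of_surjective ψ ?_ h2
  intro x
  obtain ⟨r, rfl⟩ := Ideal.Quotient.mk_surjective x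
  obtain ⟨t, rfl⟩ := hφ r
  exact ⟨Ideal.Quotient.mk _ t, rfl⟩

section Main
variable {A K L : Type u} [CommRing A] [IsDomain A] [IsDiscreteValuationRing A]
  [Field K] [Algebra A K] [IsFractionRing A K] [Field L] [Algebra K L] [Algebra A L]
  [IsScalarTower A K L] [FiniteDimensional K L]
  {V : ValuationSubring L} (hV : Dominates A (algebraMap A L) V)
  {y : L} {F : A[X]} (hF : F.Monic) (hy : aeval y F = 0)
  (hgen : IntermediateField.adjoin K {y} = ⊤)
  (hsq : Squarefree (F.map (residue A)))

/-- the subring `A[y]` -/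
abbrev Ry (A : Type u) [CommRing A] {L : Type u} [Field L] [Algebra A L] (y : L) : Subring L :=
  (Algebra.adjoin A {y}).toSubring

omit [IsDomain A] [IsDiscreteValuationRing A] in
lemma mem_Ry {x : L} : x ∈ Ry A y ↔ ∃ P : A[X], aeval y P = x := by
  show x ∈ Algebra.adjoin A {y} ↔ _
  rw [Algebra.adjoin_singleton_eq_range_aeval]
  rfl

include hV hF hy in
lemma y_mem : y ∈ V :=
  mem_valuationSubring_of_isIntegralElem V (algebraMap A L) hV.1 ⟨F, hF, hy⟩

include hV hF hy in
lemma Ry_le : Ry A y ≤ V.toSubring := by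
  intro x hx
  obtain ⟨P, rfl⟩ := mem_Ry.1 hx
  show aeval y P ∈ V
  rw [aeval_def, eval₂_eq_sum_range]
  refine sum_mem fun i _ => ?_
  exact mul_mem (hV.1 _) (pow_mem (y_mem hV hF hy) i)

include K hgen in
lemma hgenR : ∀ x : L, ∃ r ∈ Ry A y, ∃ z ∈ Ry A y, r / z = x := by
  intro x
  have hx : x ∈ (IntermediateField.adjoin K {y}).toSubalgebra := by rw [hgen]; trivial
  rw [IntermediateField.adjoin_simple_toSubalgebra_of_isAlgebraic
    (Algebra.IsAlgebraic.isAlgebraic y), Algebra.adjoin_singleton_eq_range_aeval] at hx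
  obtain ⟨P, rfl⟩ := hx
  obtain ⟨b, hb, hP⟩ := IsLocalization.integerNormalization_spec (nonZeroDivisors A) P
  have hb0 : algebraMap A L b ≠ 0 := by
    rw [IsScalarTower.algebraMap_apply A K L, Ne, map_eq_zero,
      map_eq_zero_iff _ (IsFractionRing.injective A K)]
    exact nonZeroDivisors.ne_zero hb
  refine ⟨aeval y (IsLocalization.integerNormalization (nonZeroDivisors A) P),
    mem_Ry.2 ⟨_, rfl⟩, algebraMap A L b, mem_Ry.2 ⟨C b, by simp⟩, ?_⟩
  rw [div_eq_iff hb0]
  have h1 : aeval y (IsLocalization.integerNormalization (nonZeroDivisors A) P) =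
      aeval y ((IsLocalization.integerNormalization (nonZeroDivisors A) P).map
        (algebraMap A K)) := by
    rw [aeval_map_algebraMap]
  rw [h1, hP, ← algebraMap_smul K b P, map_smul, Algebra.smul_def,
    ← IsScalarTower.algebraMap_apply, mul_comm]
  rfl

/-- the uniformizer as an element of `A[y]` -/
lemma pi_mem (π : A) : algebraMap A L π ∈ Ry A y := mem_Ry.2 ⟨C π, by simp⟩

include hV hF hy hsq in
lemma vnr (π : A) (hπ : Irreducible π) :
    IsVNR (Ry A y ⧸ Ideal.span {(⟨algebraMap A L π, pi_mem π⟩ : Ry A y)}) := by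
  let φL : AdjoinRoot F →ₐ[A] L := AdjoinRoot.liftAlgHom F (Algebra.ofId A L) y hy
  have hφL : ∀ P : A[X], φL (AdjoinRoot.mk F P) = aeval y P := by
    intro P
    show eval₂ (Algebra.ofId A L) y P = aeval y P
    rw [aeval_def]
    rfl
  let φ : AdjoinRoot F →+* Ry A y := RingHom.codRestrict (φL : AdjoinRoot F →+* L) (Ry A y) (by
    intro t
    obtain ⟨P, rfl⟩ := AdjoinRoot.mk_surjective t
    exact mem_Ry.2 ⟨P, (hφL P).symm⟩)
  have hφ : Function.Surjective φ := by
    rintro ⟨r, hr⟩
    obtain ⟨P, rfl⟩ := mem_Ry.1 hr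
    exact ⟨AdjoinRoot.mk F P, Subtype.ext (hφL P)⟩
  refine vnr_quot hF hsq φ hφ _ ?_
  rw [hπ.maximalIdeal_eq, Ideal.map_span, Set.image_singleton, Ideal.span_le,
    Set.singleton_subset_iff]
  have : (φ.comp (AdjoinRoot.of F)) π = ⟨algebraMap A L π, pi_mem π⟩ := by
    apply Subtype.ext
    show φL (AdjoinRoot.of F π) = _
    have := hφL (C π)
    rw [AdjoinRoot.mk_C] at this
    rw [this]; simp
  rw [this]
  exact Ideal.mem_span_singleton_self _

include K hV hF hy hgen hsq in
/-- weak unramifiedness -/
theorem wu :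
    letI : Algebra A V := (RingHom.codRestrict (algebraMap A L) V hV.1).toAlgebra
    IsWeaklyUnramified A V := by
  letI : Algebra A V := (RingHom.codRestrict (algebraMap A L) V hV.1).toAlgebra
  haveI : IsDiscreteValuationRing V := isDVR_of_dominates (A := A) (K := K)
    (g := algebraMap A L) (fun a => IsScalarTower.algebraMap_apply A K L a) hV
  obtain ⟨π, hπ⟩ := IsDiscreteValuationRing.exists_irreducible A
  have hp1 : V.valuation (algebraMap A L π) < 1 := hV.2 π hπ.not_isUnit
  have hp0 : algebraMap A L π ≠ 0 := by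
    intro h
    exact hπ.ne_zero (Dict.algebraMap_injective K (h.trans (map_zero _).symm))
  have hmax := absU_maximalIdeal (Ry_le hV hF hy) (pi_mem π) hp1 hp0 (vnr hV hF hy hsq π hπ)
    (hgenR (K := K) hgen)
  unfold IsWeaklyUnramified
  rw [hmax]
  have hπV : algebraMap A V π = ⟨algebraMap A L π, Ry_le hV hF hy (pi_mem π)⟩ := Subtype.ext rfl
  apply le_antisymm
  · rw [Ideal.map_le_iff_le_comap]
    intro a ha
    rw [hπ.maximalIdeal_eq, Ideal.mem_span_singleton] at ha
    obtain ⟨c, rfl⟩ := ha
    rw [Ideal.mem_comap, map_mul, hπV]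
    exact Ideal.mul_mem_right _ _ (Ideal.mem_span_singleton_self _)
  · rw [Ideal.span_le, Set.singleton_subset_iff, ← hπV]
    exact Ideal.mem_map_of_mem _ hπ.not_isUnit

include K hV hF hy hgen hsq in
/-- the residue field is generated by the class of `y` -/
theorem res (x : ResidueField V) :
    ∃ P : A[X], ∃ h : aeval y P ∈ V, residue V ⟨aeval y P, h⟩ = x := by
  haveI : IsDiscreteValuationRing V := isDVR_of_dominates (A := A) (K := K)
    (g := algebraMap A L) (fun a => IsScalarTower.algebraMap_apply A K L a) hV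
  obtain ⟨π, hπ⟩ := IsDiscreteValuationRing.exists_irreducible A
  have hp1 : V.valuation (algebraMap A L π) < 1 := hV.2 π hπ.not_isUnit
  have hp0 : algebraMap A L π ≠ 0 := by
    intro h
    exact hπ.ne_zero (Dict.algebraMap_injective K (h.trans (map_zero _).symm))
  obtain ⟨r, hr, hx⟩ := absU_res (Ry_le hV hF hy) (pi_mem π) hp1 hp0 (vnr hV hF hy hsq π hπ)
    (hgenR (K := K) hgen) x
  obtain ⟨P, rfl⟩ := mem_Ry.1 hr
  exact ⟨P, Ry_le hV hF hy hr, hx⟩

end Main

section Cons
variable {A K L : Type u} [CommRing A] [IsDomain A] [IsDiscreteValuationRing A]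
  [Field K] [Algebra A K] [IsFractionRing A K] [Field L] [Algebra K L] [Algebra A L]
  [IsScalarTower A K L] [FiniteDimensional K L]
  {V : ValuationSubring L} (hV : Dominates A (algebraMap A L) V)
  {y : L} {F : A[X]} (hF : F.Monic) (hy : aeval y F = 0)
  (hgen : IntermediateField.adjoin K {y} = ⊤)

lemma residue_aeval (P : A[X]) (h : aeval y P ∈ V) :
    letI : Algebra A V := (RingHom.codRestrict (algebraMap A L) V hV.1).toAlgebra
    ∀ [IsLocalHom (algebraMap A V)],
    residue V ⟨aeval y P, h⟩ =
      aeval (residue V ⟨y, y_mem hV hF hy⟩) (P.map (residue A)) := by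
  letI : Algebra A V := (RingHom.codRestrict (algebraMap A L) V hV.1).toAlgebra
  intro _
  have h1 : (algebraMap (ResidueField A) (ResidueField V)).comp (residue A) =
      (residue V).comp (algebraMap A V) := ResidueField.map_comp_residue _
  symm
  calc aeval (residue V ⟨y, y_mem hV hF hy⟩) (P.map (residue A))
      = eval₂ ((algebraMap (ResidueField A) (ResidueField V)).comp (residue A))
          (residue V ⟨y, y_mem hV hF hy⟩) P := by rw [aeval_def, eval₂_map]
    _ = eval₂ ((residue V).comp (algebraMap A V)) (residue V ⟨y, y_mem hV hF hy⟩) P := by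
        rw [h1]
    _ = residue V (eval₂ (algebraMap A V) ⟨y, y_mem hV hF hy⟩ P) :=
        (hom_eval₂ P (algebraMap A V) (residue V) ⟨y, y_mem hV hF hy⟩).symm
    _ = residue V ⟨aeval y P, h⟩ := by
        congr 1
        apply Subtype.ext
        exact hom_eval₂ P (algebraMap A V) V.subtype ⟨y, y_mem hV hF hy⟩

variable (hsq : Squarefree (F.map (residue A)))

include K hV hF hy hgen hsq in
lemma adjoin_res_eq_top :
    letI : Algebra A V := (RingHom.codRestrict (algebraMap A L) V hV.1).toAlgebra
    ∀ [IsLocalHom (algebraMap A V)],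
    Algebra.adjoin (ResidueField A) {residue V ⟨y, y_mem hV hF hy⟩} = ⊤ := by
  letI : Algebra A V := (RingHom.codRestrict (algebraMap A L) V hV.1).toAlgebra
  intro _
  rw [eq_top_iff]
  intro x _
  obtain ⟨P, h, rfl⟩ := res (K := K) hV hF hy hgen hsq x
  rw [residue_aeval hV hF hy P h, Algebra.adjoin_singleton_eq_range_aeval]
  exact ⟨_, rfl⟩

include hV hF hy in
lemma aeval_res_eq_zero :
    letI : Algebra A V := (RingHom.codRestrict (algebraMap A L) V hV.1).toAlgebra
    ∀ [IsLocalHom (algebraMap A V)],
    aeval (residue V ⟨y, y_mem hV hF hy⟩) (F.map (residue A)) = 0 := by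
  letI : Algebra A V := (RingHom.codRestrict (algebraMap A L) V hV.1).toAlgebra
  intro _
  have h0 : aeval y F ∈ V := by rw [hy]; exact zero_mem _
  rw [← residue_aeval hV hF hy F h0]
  have : (⟨aeval y F, h0⟩ : V) = 0 := Subtype.ext hy
  rw [this, map_zero]

include K hV hF hy hgen in
/-- separable reduction gives a separable residue extension -/
theorem res_separable (hsep : (F.map (residue A)).Separable) :
    letI : Algebra A V := (RingHom.codRestrict (algebraMap A L) V hV.1).toAlgebra
    ∀ [IsLocalHom (algebraMap A V)],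
    Algebra.IsSeparable (ResidueField A) (ResidueField V) := by
  letI : Algebra A V := (RingHom.codRestrict (algebraMap A L) V hV.1).toAlgebra
  intro _
  have htop := IntermediateField.adjoin_eq_top_of_algebra _ _
    (adjoin_res_eq_top (K := K) hV hF hy hgen hsep.squarefree)
  have hroot := aeval_res_eq_zero hV hF hy
  rw [← IntermediateField.isSeparable_top, ← htop,
    IntermediateField.isSeparable_adjoin_iff_isSeparable]
  intro z hz
  rw [Set.mem_singleton_iff] at hz
  rw [hz]
  exact hsep.of_dvd (minpoly.dvd _ _ hroot)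

include K hV hF hy hgen in
/-- purely inseparable reduction `X^p - c` -/
theorem res_insep (p : ℕ) [hp : Fact p.Prime] [CharP (ResidueField A) p] (c : ResidueField A)
    (hFc : F.map (residue A) = X ^ p - C c) (hirr : Irreducible (F.map (residue A))) :
    letI : Algebra A V := (RingHom.codRestrict (algebraMap A L) V hV.1).toAlgebra
    ∀ [IsLocalHom (algebraMap A V)],
    IsPurelyInseparable (ResidueField A) (ResidueField V) ∧
      Module.finrank (ResidueField A) (ResidueField V) = p := by
  letI : Algebra A V := (RingHom.codRestrict (algebraMap A L) V hV.1).toAlgebra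
  intro _
  have hadj := adjoin_res_eq_top (K := K) hV hF hy hgen hirr.squarefree
  have htop := IntermediateField.adjoin_eq_top_of_algebra _ _ hadj
  have hroot := aeval_res_eq_zero hV hF hy
  set ybar := residue V ⟨y, y_mem hV hF hy⟩ with hybar
  have hyp : ybar ^ p = algebraMap (ResidueField A) (ResidueField V) c := by
    have := hroot
    rw [hFc, map_sub, map_pow, aeval_X, aeval_C, sub_eq_zero] at this
    exact this
  haveI : CharP (ResidueField V) p :=
    charP_of_injective_algebraMap (algebraMap (ResidueField A) (ResidueField V)).injective p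
  constructor
  · rw [isPurelyInseparable_iff_pow_mem (ResidueField A) p]
    intro x
    refine ⟨1, ?_⟩
    rw [pow_one]
    have hx : x ∈ Algebra.adjoin (ResidueField A) {ybar} := by rw [hadj]; trivial
    induction hx using Algebra.adjoin_induction with
    | mem z hz =>
      rw [Set.mem_singleton_iff] at hz
      rw [hz, hyp]; exact ⟨c, rfl⟩
    | algebraMap a => exact ⟨a ^ p, by rw [map_pow]⟩
    | add a b _ _ ha hb =>
      obtain ⟨a', ha'⟩ := ha
      obtain ⟨b', hb'⟩ := hb
      exact ⟨a' + b', by rw [map_add, ha', hb', add_pow_char]⟩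
    | mul a b _ _ ha hb =>
      obtain ⟨a', ha'⟩ := ha
      obtain ⟨b', hb'⟩ := hb
      exact ⟨a' * b', by rw [map_mul, ha', hb', mul_pow]⟩
  · have hFm : (F.map (residue A)).Monic := hF.map _
    have hmin : F.map (residue A) = minpoly (ResidueField A) ybar :=
      minpoly.eq_of_irreducible_of_monic hirr hroot hFm
    have hint : IsIntegral (ResidueField A) ybar := ⟨_, hFm, hroot⟩
    rw [← IntermediateField.finrank_top', ← htop, IntermediateField.adjoin.finrank hint, ← hmin,
      hFc, natDegree_X_pow_sub_C]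

end Cons

end MG
end Groth.Agent.Helper9.EtRamLib
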