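import Mathlib
import Groth.Prelude.Def_EtRam
import Groth.Agent.Lib.Helper9.EtRam.Dom22

set_option autoImplicit false
set_option linter.style.haveILetI false

/-!
# Degree `p` Galois extensions of the fraction field of a DVR: the four cases (helper9)
-/

namespace Groth.Agent.Helper9.EtRamLib
namespace Cases
open IsLocalRing EtRam Polynomial

universe u

section Helpers
variable {A K L : Type u} [CommRing A] [IsDomain A] [IsDiscreteValuationRing A]
  [Field K] [Algebra A K] [IsFractionRing A K] [Field L] [Algebra K L] [Algebra A L]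
  [IsScalarTower A K L] [FiniteDimensional K L] [Algebra.IsSeparable K L]
  {V : ValuationSubring L} (hV : Dominates A (algebraMap A L) V)

variable (K) in
include K in
lemma hg : ∀ a : A, algebraMap A L a = algebraMap K L (algebraMap A K a) :=
  fun a => IsScalarTower.algebraMap_apply A K L a

variable (K) in
include K hV in
lemma isDVR : IsDiscreteValuationRing V :=
  isDVR_of_dominates (A := A) (K := K) (g := algebraMap A L) (hg K) hV

variable (K) in
include K in
lemma inj_V : Function.Injective (RingHom.codRestrict (algebraMap A L) V hV.1) :=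
  codRestrict_injective (Dict.algebraMap_injective K) hV.1

variable (K) in
include K in
lemma finrank_res :
    letI : Algebra A V := (RingHom.codRestrict (algebraMap A L) V hV.1).toAlgebra
    ∀ [IsLocalHom (algebraMap A V)],
    Module.finrank (ResidueField A) (ResidueField V) = Dict.fq hV := by
  letI : Algebra A V := (RingHom.codRestrict (algebraMap A L) V hV.1).toAlgebra
  intro _
  exact Dict.inertia_eq K hV

variable (K) in
include K in
lemma ramIdx_eq :
    letI : Algebra A V := (RingHom.codRestrict (algebraMap A L) V hV.1).toAlgebra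
    Ideal.ramificationIdx' (maximalIdeal A) (maximalIdeal V) = Dict.eq hV :=
  Dict.ramIdx_eq K hV

variable (K) in
include K in
lemma fq_pos : 0 < Dict.fq hV := by
  letI : Algebra A V := (RingHom.codRestrict (algebraMap A L) V hV.1).toAlgebra
  haveI : IsLocalHom (algebraMap A V) := dom_isLocalHom hV
  rw [← finrank_res K hV]
  haveI : Module.Finite (ResidueField A) (ResidueField V) :=
    finite_residue_of_dominates (hg K) hV
  exact Module.finrank_pos

variable (K) in
include K in
lemma eq_pos : 0 < Dict.eq hV := by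
  letI : Algebra A V := (RingHom.codRestrict (algebraMap A L) V hV.1).toAlgebra
  haveI : IsLocalHom (algebraMap A V) := dom_isLocalHom hV
  haveI := isDVR K hV
  rw [← ramIdx_eq K hV]
  exact ramificationIdx_pos A V (inj_V K hV)

variable (K) in
include K in
lemma wu_of_eq_one (h1 : Dict.eq hV = 1) :
    letI : Algebra A V := (RingHom.codRestrict (algebraMap A L) V hV.1).toAlgebra
    IsWeaklyUnramified A V := by
  letI : Algebra A V := (RingHom.codRestrict (algebraMap A L) V hV.1).toAlgebra
  haveI : IsLocalHom (algebraMap A V) := dom_isLocalHom hV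
  haveI := isDVR K hV
  rw [isWeaklyUnramified_iff A V (inj_V K hV), ramIdx_eq K hV, h1]

variable (K) in
include K in
lemma eq_one_of_wu :
    letI : Algebra A V := (RingHom.codRestrict (algebraMap A L) V hV.1).toAlgebra
    IsWeaklyUnramified A V → Dict.eq hV = 1 := by
  letI : Algebra A V := (RingHom.codRestrict (algebraMap A L) V hV.1).toAlgebra
  haveI : IsLocalHom (algebraMap A V) := dom_isLocalHom hV
  haveI := isDVR K hV
  intro h
  rw [isWeaklyUnramified_iff A V (inj_V K hV), ramIdx_eq K hV] at h
  exact h

variable (K) in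
include K in
lemma res_bij_of_fq_one (h1 : Dict.fq hV = 1) :
    letI : Algebra A V := (RingHom.codRestrict (algebraMap A L) V hV.1).toAlgebra
    ∀ [IsLocalHom (algebraMap A V)],
    Function.Surjective (algebraMap (ResidueField A) (ResidueField V)) := by
  letI : Algebra A V := (RingHom.codRestrict (algebraMap A L) V hV.1).toAlgebra
  intro _
  have h2 : Module.finrank (ResidueField A) (ResidueField V) = 1 := by
    rw [finrank_res K hV, h1]
  intro x
  obtain ⟨c, hc⟩ := (finrank_eq_one_iff_of_nonzero' (1 : ResidueField V) one_ne_zero).1 h2 x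
  exact ⟨c, by rw [Algebra.algebraMap_eq_smul_one, hc]⟩

variable (K) in
include K in
lemma res_surj_of_fq_one (h1 : Dict.fq hV = 1) :
    Function.Surjective (fun a : A => residue V (RingHom.codRestrict (algebraMap A L) V hV.1 a)) := by
  letI : Algebra A V := (RingHom.codRestrict (algebraMap A L) V hV.1).toAlgebra
  haveI : IsLocalHom (algebraMap A V) := dom_isLocalHom hV
  intro x
  obtain ⟨c, rfl⟩ := res_bij_of_fq_one K hV h1 x
  obtain ⟨a, rfl⟩ := residue_surjective c
  exact ⟨a, (ResidueField.map_residue (algebraMap A V) a).symm⟩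

variable (K) in
include K in
lemma sep_of_fq_one (h1 : Dict.fq hV = 1) :
    letI : Algebra A V := (RingHom.codRestrict (algebraMap A L) V hV.1).toAlgebra
    ∀ [IsLocalHom (algebraMap A V)],
    Algebra.IsSeparable (ResidueField A) (ResidueField V) := by
  letI : Algebra A V := (RingHom.codRestrict (algebraMap A L) V hV.1).toAlgebra
  intro _
  rw [Algebra.isSeparable_def]
  intro x
  obtain ⟨c, rfl⟩ := res_bij_of_fq_one K hV h1 x
  exact isSeparable_algebraMap c

end Helpers

section Val
variable {A L : Type u} [CommRing A] [Field L] [Algebra A L]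

/-- valuation of a monic polynomial at an element of valuation `> 1` -/
lemma val_aeval_monic (V : ValuationSubring L) (hA : ∀ a : A, algebraMap A L a ∈ V)
    {P : A[X]} (hP : P.Monic) {z : L} (hz : 1 < V.valuation z) :
    V.valuation (aeval z P) = V.valuation z ^ P.natDegree := by
  have hsum := hP.as_sum
  have h1 : aeval z P = z ^ P.natDegree +
      ∑ i ∈ Finset.range P.natDegree, algebraMap A L (P.coeff i) * z ^ i := by
    conv_lhs => rw [hsum]
    simp only [map_add, map_pow, aeval_X, map_sum, map_mul, aeval_C]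
  rw [h1]
  have hz0 : V.valuation z ≠ 0 := fun h => by rw [h] at hz; exact not_lt.2 zero_le_one hz
  have hpos : (0 : _) < V.valuation z := zero_lt_iff.2 hz0
  have hlt : V.valuation (∑ i ∈ Finset.range P.natDegree, algebraMap A L (P.coeff i) * z ^ i) <
      V.valuation (z ^ P.natDegree) := by
    rw [map_pow]
    apply Valuation.map_sum_lt _ (pow_ne_zero _ hz0)
    intro i hi
    rw [Finset.mem_range] at hi
    rw [map_mul, map_pow]
    calc V.valuation (algebraMap A L (P.coeff i)) * V.valuation z ^ i
        ≤ 1 * V.valuation z ^ i :=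
          mul_le_mul_left ((V.valuation_le_one_iff _).2 (hA _)) _
      _ = V.valuation z ^ i := one_mul _
      _ < V.valuation z ^ P.natDegree := pow_lt_pow_right₀ hz hi
  rw [Valuation.map_add_eq_of_lt_left _ hlt, map_pow]

/-- a polynomial with integral coefficients takes integral values at integral elements -/
lemma aeval_mem (V : ValuationSubring L) (hA : ∀ a : A, algebraMap A L a ∈ V)
    (P : A[X]) {z : L} (hz : z ∈ V) : aeval z P ∈ V := by
  rw [aeval_def, eval₂_eq_sum_range]
  exact sum_mem fun i _ => mul_mem (hA _) (pow_mem hz i)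

end Val

section PartB
variable {A K L : Type u} [CommRing A] [IsDomain A] [IsDiscreteValuationRing A]
  [Field K] [Algebra A K] [IsFractionRing A K] [Field L] [Algebra K L] [Algebra A L]
  [IsScalarTower A K L] [FiniteDimensional K L] [Algebra.IsSeparable K L]
  {V : ValuationSubring L} (hV : Dominates A (algebraMap A L) V)

variable (K) in
include K in
/-- valuation arithmetic: a pole of order prime to `p` forces `p ∣ e` -/
lemma p_dvd_eq {p : ℕ} (hp : p.Prime) {P : A[X]} (hPm : P.Monic) (hPd : P.natDegree = p)
    {ξ : K} {z : L} (hz : aeval z P = algebraMap K L ξ) {π : A} (hπ : Irreducible π)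
    {n : ℕ} (hn : 0 < n) (hpn : ¬ p ∣ n) {a : A} (ha : IsUnit a)
    (hξ : ξ * algebraMap A K π ^ n = algebraMap A K a) : p ∣ Dict.eq hV := by
  letI : Algebra A V := (RingHom.codRestrict (algebraMap A L) V hV.1).toAlgebra
  haveI : IsLocalHom (algebraMap A V) := dom_isLocalHom hV
  haveI := isDVR K hV
  obtain ⟨ϖ, hϖ⟩ := IsDiscreteValuationRing.exists_irreducible V
  set γ := V.valuation (ϖ : L) with hγ
  have hϖ0 : (ϖ : L) ≠ 0 := fun h => hϖ.ne_zero (Subtype.ext h)
  have hγ0 : γ ≠ 0 := (Valuation.ne_zero_iff _).2 hϖ0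
  have hγ1 : γ < 1 := by
    rw [hγ, ← ValuationSubring.valuation_lt_one_iff]
    exact hϖ.not_isUnit
  -- values of elements of `V`
  have hvalV : ∀ x : V, x ≠ 0 → ∃ k : ℕ, V.valuation (x : L) = γ ^ k := by
    intro x hx
    obtain ⟨k, u, rfl⟩ := IsDiscreteValuationRing.eq_unit_mul_pow_irreducible hx hϖ
    refine ⟨k, ?_⟩
    rw [MulMemClass.coe_mul, map_mul, SubmonoidClass.coe_pow, map_pow,
      (V.valuation_eq_one_iff _).1 u.isUnit, one_mul]
  have hval : ∀ x : L, x ≠ 0 → ∃ j : ℤ, V.valuation x = γ ^ j := by
    intro x hx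
    rcases V.mem_or_inv_mem x with h | h
    · obtain ⟨k, hk⟩ := hvalV ⟨x, h⟩ (fun h0 => hx (congrArg Subtype.val h0))
      exact ⟨k, by rw [zpow_natCast]; exact hk⟩
    · obtain ⟨k, hk⟩ := hvalV ⟨x⁻¹, h⟩ (fun h0 => inv_ne_zero hx (congrArg Subtype.val h0))
      refine ⟨-k, ?_⟩
      have : V.valuation x = (V.valuation x⁻¹)⁻¹ := by rw [map_inv₀, inv_inv]
      rw [this, zpow_neg, zpow_natCast]
      exact congrArg _ hk
  -- value of the uniformizer of `A`
  obtain ⟨e, he⟩ : ∃ e, e = Ideal.ramificationIdx' (maximalIdeal A) (maximalIdeal V) := ⟨_, rfl⟩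
  have hπv : V.valuation (algebraMap A L π) = γ ^ e := by
    have h1 := map_maximalIdeal_eq_pow A V (inj_V K hV)
    rw [← he] at h1
    rw [hπ.maximalIdeal_eq, hϖ.maximalIdeal_eq, Ideal.map_span, Set.image_singleton,
      Ideal.span_singleton_pow, Ideal.span_singleton_eq_span_singleton] at h1
    obtain ⟨u, hu⟩ := h1
    have h2 := congrArg (fun x : V => V.valuation (x : L)) hu
    simp only [MulMemClass.coe_mul, map_mul, SubmonoidClass.coe_pow, map_pow,
      (V.valuation_eq_one_iff _).1 u.isUnit, mul_one] at h2
    rw [← h2]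
    rfl
  -- value of `ξ`
  have hξL : algebraMap K L ξ * algebraMap A L π ^ n = algebraMap A L a := by
    have := congrArg (algebraMap K L) hξ
    rwa [map_mul, map_pow, ← IsScalarTower.algebraMap_apply,
      ← IsScalarTower.algebraMap_apply] at this
  have hξv : V.valuation (algebraMap K L ξ) = γ ^ (-((e * n : ℕ) : ℤ)) := by
    have h1 := congrArg V.valuation hξL
    rw [map_mul, map_pow, hπv, dom_val_eq_one_of_isUnit hV ha, ← pow_mul] at h1
    rw [zpow_neg, zpow_natCast]
    exact eq_inv_of_mul_eq_one_left h1
  have he0 : 0 < e := he ▸ ramificationIdx_pos A V (inj_V K hV)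
  have hξ1 : 1 < V.valuation (algebraMap K L ξ) := by
    rw [hξv]
    apply one_lt_zpow_of_neg hγ0 hγ1
    have : 0 < e * n := Nat.mul_pos he0 hn
    omega
  have hz1 : 1 < V.valuation z := by
    by_contra hcon
    push Not at hcon
    have hzV : z ∈ V := (V.valuation_le_one_iff _).1 hcon
    have := aeval_mem V hV.1 P hzV
    rw [hz, ← V.valuation_le_one_iff] at this
    exact absurd hξ1 (not_lt.2 this)
  have hz0 : z ≠ 0 := by
    rintro rfl
    rw [map_zero] at hz1
    exact absurd hz1 (not_lt.2 zero_le_one)
  obtain ⟨j, hj⟩ := hval z hz0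
  have hmain := val_aeval_monic V hV.1 hPm hz1
  rw [hz, hξv, hj, hPd, ← zpow_natCast, ← zpow_mul] at hmain
  have hjp := zpow_inj_of_lt_one hγ0 hγ1 hmain
  have hdvd : (p : ℤ) ∣ ((e * n : ℕ) : ℤ) := ⟨-j, by linarith⟩
  have hdvd' : p ∣ e * n := Int.natCast_dvd_natCast.1 hdvd
  rw [← ramIdx_eq K hV, ← he]
  exact (hp.dvd_mul.1 hdvd').resolve_right hpn

end PartB

section Main
variable {A K L : Type u} [CommRing A] [IsDomain A] [IsDiscreteValuationRing A]
  [Field K] [Algebra A K] [IsFractionRing A K] [Field L] [Algebra K L] [Algebra A L]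
  [IsScalarTower A K L] [FiniteDimensional K L] [IsGalois K L]

/-- case (2): unramified of degree `p` -/
def Case2 (A K : Type u) {L : Type u} [CommRing A] [IsLocalRing A] [Field K] [Field L]
    [Algebra K L] [Algebra A L] (p : ℕ) : Prop :=
  IsUnramifiedExt A (algebraMap A L) ∧ Module.finrank K L = p

/-- case (3): totally ramified of degree `p` -/
def Case3 (A K : Type u) {L : Type u} [CommRing A] [IsLocalRing A] [Field K] [Field L]
    [Algebra K L] [Algebra A L] (p : ℕ) : Prop :=
  IsTotallyRamified A (algebraMap A L) ∧ Module.finrank K L = p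

/-- case (4): weakly unramified with purely inseparable residue extension of degree `p` -/
def Case4 (A : Type u) (L : Type u) [CommRing A] [IsLocalRing A] [Field L] [Algebra A L]
    (p : ℕ) : Prop :=
  (∃ V : ValuationSubring L, Dominates A (algebraMap A L) V) ∧
  (∀ V V' : ValuationSubring L, Dominates A (algebraMap A L) V →
    Dominates A (algebraMap A L) V' → V = V') ∧
  ∀ (V : ValuationSubring L) (h : Dominates A (algebraMap A L) V),
    letI : Algebra A V := (RingHom.codRestrict (algebraMap A L) V h.1).toAlgebra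
    ∀ [IsLocalHom (algebraMap A V)],
      IsWeaklyUnramified A V ∧
        IsPurelyInseparable (ResidueField A) (ResidueField V) ∧
        Module.finrank (ResidueField A) (ResidueField V) = p

include K in
theorem partT {p : ℕ} (hp : p.Prime)
    (hdeg : Module.finrank K L = 1 ∨ Module.finrank K L = p) :
    Module.finrank K L = 1 ∨ Case2 A K (L := L) p ∨ Case3 A K (L := L) p ∨ Case4 A L p := by
  rcases hdeg with h1 | hpd
  · exact Or.inl h1
  right
  obtain ⟨V₀, hV₀⟩ := exists_dominates (algebraMap A L)
  obtain ⟨r, hr0, hr, huniq⟩ := Dict.galois_count K hV₀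
  rw [hpd] at hr
  have hall : ∀ {V : ValuationSubring L} (hV : Dominates A (algebraMap A L) V),
      Dict.eq hV = Dict.eq hV₀ ∧ Dict.fq hV = Dict.fq hV₀ := fun hV => Dict.galois_eq K hV hV₀
  have he : Dict.eq hV₀ ∣ p := ⟨r * Dict.fq hV₀, by rw [← hr]; ring⟩
  have hf : Dict.fq hV₀ ∣ p := ⟨r * Dict.eq hV₀, by rw [← hr]; ring⟩
  rcases (Nat.dvd_prime hp).1 he with he1 | hep
  · rcases (Nat.dvd_prime hp).1 hf with hf1 | hfp
    · -- unramified with trivial residue extensions
      left
      refine ⟨fun V hV => ?_, hpd⟩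
      intro _
      exact ⟨wu_of_eq_one K hV (by rw [(hall hV).1]; exact he1),
        sep_of_fq_one K hV (by rw [(hall hV).2]; exact hf1)⟩
    · have hr1 : r = 1 := by
        rw [he1, hfp, one_mul] at hr
        exact Nat.eq_of_mul_eq_mul_right hp.pos (by rw [hr, one_mul])
      have hu := huniq hr1
      letI : Algebra A V₀ := (RingHom.codRestrict (algebraMap A L) V₀ hV₀.1).toAlgebra
      haveI : IsLocalHom (algebraMap A V₀) := dom_isLocalHom hV₀
      by_cases hsep : Algebra.IsSeparable (ResidueField A) (ResidueField V₀)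
      · left
        refine ⟨fun V hV => ?_, hpd⟩
        obtain rfl := hu V hV
        intro _
        exact ⟨wu_of_eq_one K hV (by rw [(hall hV).1]; exact he1), hsep⟩
      · right; right
        refine ⟨⟨V₀, hV₀⟩, fun V V' hV hV' => (hu V hV).trans (hu V' hV').symm, fun V hV => ?_⟩
        obtain rfl := hu V hV
        intro _
        have hfin : Module.finrank (ResidueField A) (ResidueField V) = p := by
          rw [finrank_res K hV, (hall hV).2, hfp]
        refine ⟨wu_of_eq_one K hV (by rw [(hall hV).1]; exact he1), ?_, hfin⟩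
        haveI : Module.Finite (ResidueField A) (ResidueField V) :=
          finite_residue_of_dominates (hg K) hV
        rw [isPurelyInseparable_iff_finSepDegree_eq_one]
        have hd := Field.finSepDegree_dvd_finrank (ResidueField A) (ResidueField V)
        rw [hfin] at hd
        rcases (Nat.dvd_prime hp).1 hd with h1 | h2
        · exact h1
        · exfalso
          apply hsep
          rw [← Field.finSepDegree_eq_finrank_iff, h2, hfin]
  · -- totally ramified
    have hrf : r * Dict.fq hV₀ = 1 := by
      rw [hep] at hr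
      have : p * (r * Dict.fq hV₀) = p * 1 := by rw [mul_one]; linarith
      exact Nat.eq_of_mul_eq_mul_left hp.pos this
    have hr1 : r = 1 := Nat.eq_one_of_mul_eq_one_right hrf
    have hf1 : Dict.fq hV₀ = 1 := Nat.eq_one_of_mul_eq_one_left hrf
    have hu := huniq hr1
    right; left
    exact ⟨⟨⟨V₀, hV₀⟩, fun V V' hV hV' => (hu V hV).trans (hu V' hV').symm,
      fun V hV => res_surj_of_fq_one K hV (by rw [(hall hV).2]; exact hf1)⟩, hpd⟩

end Main

section Parts
variable {A K L : Type u} [CommRing A] [IsDomain A] [IsDiscreteValuationRing A]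
  [Field K] [Algebra A K] [IsFractionRing A K] [Field L] [Algebra K L] [Algebra A L]
  [IsScalarTower A K L] [FiniteDimensional K L] [IsGalois K L]
  {p : ℕ} (hp : p.Prime) (hdeg : Module.finrank K L = 1 ∨ Module.finrank K L = p)
  {P : A[X]} (hPm : P.Monic) (hPd : P.natDegree = p) {ξ : K} {z : L}
  (hz : aeval z P = algebraMap K L ξ) (hgen : IntermediateField.adjoin K {z} = ⊤)

include hp hPm hPd in
lemma monic_sub_C (a : A) : (P - C a).Monic := by
  apply hPm.sub_of_left
  rw [degree_eq_natDegree hPm.ne_zero, hPd]
  exact lt_of_le_of_lt degree_C_le (by exact_mod_cast hp.pos)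

include hp hdeg hPm hPd hz hgen in
theorem partA (hPsep : ∀ a : A, ((P - C a).map (residue A)).Separable)
    (h : ∃ a : A, algebraMap A K a = ξ) :
    Module.finrank K L = 1 ∨ Case2 A K (L := L) p := by
  obtain ⟨a, rfl⟩ := h
  rcases hdeg with h1 | hpd
  · exact Or.inl h1
  right
  refine ⟨fun V hV => ?_, hpd⟩
  intro _
  have hF := monic_sub_C hp hPm hPd a
  have hy : aeval z (P - C a) = 0 := by
    rw [map_sub, hz, aeval_C, ← IsScalarTower.algebraMap_apply, sub_self]
  exact ⟨MG.wu (K := K) hV hF hy hgen (hPsep a).squarefree,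
    MG.res_separable (K := K) hV hF hy hgen (hPsep a)⟩

include hp hdeg hPm hPd hz in
theorem partB {π : A} (hπ : Irreducible π) {n : ℕ} (hn : 0 < n) (hpn : ¬ p ∣ n) {a : A}
    (ha : IsUnit a) (hξ : ξ * algebraMap A K π ^ n = algebraMap A K a) :
    Case3 A K (L := L) p := by
  have key : ∀ {V : ValuationSubring L} (hV : Dominates A (algebraMap A L) V),
      Dict.eq hV = p ∧ Dict.fq hV = 1 ∧ Module.finrank K L = p := by
    intro V hV
    have hdvd := p_dvd_eq K hV hp hPm hPd hz hπ hn hpn ha hξ
    have hle := Nat.le_of_dvd (eq_pos K hV) hdvd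
    have hb := (Dict.fund_bound K hV).1
    have hfpos := fq_pos K hV
    have h1 : Dict.eq hV ≤ Dict.eq hV * Dict.fq hV := Nat.le_mul_of_pos_right _ hfpos
    have hp2 := hp.two_le
    have hfin : Module.finrank K L = p := by
      rcases hdeg with h | h
      · omega
      · exact h
    rw [hfin] at hb
    have he : Dict.eq hV = p := by omega
    rw [he] at hb
    have hf : Dict.fq hV = 1 := by
      have : p * Dict.fq hV ≤ p * 1 := by rw [mul_one]; exact hb
      have := Nat.le_of_mul_le_mul_left this hp.pos
      omega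
    exact ⟨he, hf, hfin⟩
  obtain ⟨V₀, hV₀⟩ := exists_dominates (algebraMap A L)
  obtain ⟨he0, hf0, hfin⟩ := key hV₀
  have hu := (Dict.fund_bound K hV₀).2 (by rw [he0, hf0, mul_one, hfin])
  exact ⟨⟨⟨V₀, hV₀⟩, fun V V' hV hV' => (hu V hV).trans (hu V' hV').symm,
    fun V hV => res_surj_of_fq_one K hV (key hV).2.1⟩, hfin⟩

include hp hdeg hPm hPd hz hgen in
theorem partC [CharP (ResidueField A) p] {π : A} (hπ : Irreducible π) {n : ℕ} (hn : 0 < n)
    (hpn : p ∣ n) {a : A} (ha : ∀ r : A, residue A a ≠ residue A r ^ p)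
    (hξ : ξ * algebraMap A K π ^ n = algebraMap A K a) :
    Case4 A L p := by
  haveI : Fact p.Prime := ⟨hp⟩
  obtain ⟨m, rfl⟩ := hpn
  have hm : 0 < m := Nat.pos_of_mul_pos_left hn  
  set y : L := algebraMap A L (π ^ m) * z with hy_def
  set F : A[X] := scaleRoots P (π ^ m) - C a with hF_def
  have hsm : (scaleRoots P (π ^ m)).Monic := (monic_scaleRoots_iff _).2 hPm
  have hsd : (scaleRoots P (π ^ m)).natDegree = p := by rw [natDegree_scaleRoots, hPd]
  have hF : F.Monic := monic_sub_C hp hsm hsd a
  have hy : aeval y F = 0 := by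
    have h1 : algebraMap A L a = algebraMap K L ξ * algebraMap A L π ^ (p * m) := by
      rw [IsScalarTower.algebraMap_apply A K L a, ← hξ, map_mul, map_pow,
        ← IsScalarTower.algebraMap_apply]
    rw [hF_def, map_sub, aeval_C, aeval_def, hy_def, scaleRoots_eval₂_mul, ← aeval_def, hz, hPd,
      sub_eq_zero, h1, map_pow, ← pow_mul, mul_comm m p, mul_comm]
  have hgen' : IntermediateField.adjoin K {y} = ⊤ := by
    rw [eq_top_iff, ← hgen, IntermediateField.adjoin_simple_le_iff]
    have hc0 : algebraMap A L (π ^ m) ≠ 0 := by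
      intro h
      exact pow_ne_zero m hπ.ne_zero (Dict.algebraMap_injective K (h.trans (map_zero _).symm))
    have hzy : z = (algebraMap A L (π ^ m))⁻¹ * y := by
      rw [hy_def, ← mul_assoc, inv_mul_cancel₀ hc0, one_mul]
    rw [hzy]
    refine mul_mem (inv_mem ?_) (IntermediateField.mem_adjoin_simple_self K y)
    rw [IsScalarTower.algebraMap_apply A K L]
    exact IntermediateField.algebraMap_mem _ _
  have hres0 : residue A (π ^ m) = 0 := by
    rw [residue_eq_zero_iff]
    exact Ideal.pow_mem_of_mem _ hπ.not_isUnit m hm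
  have hFc : F.map (residue A) = X ^ p - C (residue A a) := by
    rw [hF_def, Polynomial.map_sub, map_C, map_scaleRoots _ _ _ (by
      rw [hPm.leadingCoeff, map_one]; exact one_ne_zero), hres0, scaleRoots_zero,
      (hPm.map _).leadingCoeff, one_smul, hPm.natDegree_map, hPd]
  have hirr : Irreducible (F.map (residue A)) := by
    rw [hFc]
    apply X_pow_sub_C_irreducible_of_prime hp
    intro b
    obtain ⟨r, rfl⟩ := residue_surjective b
    exact (ha r).symm
  have key : ∀ {V : ValuationSubring L} (hV : Dominates A (algebraMap A L) V),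
      letI : Algebra A V := (RingHom.codRestrict (algebraMap A L) V hV.1).toAlgebra
      ∀ [IsLocalHom (algebraMap A V)],
      IsWeaklyUnramified A V ∧
        IsPurelyInseparable (ResidueField A) (ResidueField V) ∧
        Module.finrank (ResidueField A) (ResidueField V) = p := by
    intro V hV
    letI : Algebra A V := (RingHom.codRestrict (algebraMap A L) V hV.1).toAlgebra
    intro _
    have h1 := MG.wu (K := K) hV hF hy hgen' hirr.squarefree
    have h2 := MG.res_insep (K := K) hV hF hy hgen' p (residue A a) hFc hirr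
    exact ⟨h1, h2.1, h2.2⟩
  obtain ⟨V₀, hV₀⟩ := exists_dominates (algebraMap A L)
  have huniq : ∀ V' : ValuationSubring L, Dominates A (algebraMap A L) V' → V' = V₀ := by
    letI : Algebra A V₀ := (RingHom.codRestrict (algebraMap A L) V₀ hV₀.1).toAlgebra
    haveI : IsLocalHom (algebraMap A V₀) := dom_isLocalHom hV₀
    obtain ⟨h1, -, h3⟩ := key hV₀
    have he := eq_one_of_wu K hV₀ h1
    have hf : Dict.fq hV₀ = p := by rw [← finrank_res K hV₀]; exact h3
    have hb := (Dict.fund_bound K hV₀).1
    rw [he, hf, one_mul] at hb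
    have hp2 := hp.two_le
    have hfin : Module.finrank K L = p := by
      rcases hdeg with h | h
      · omega
      · exact h
    exact (Dict.fund_bound K hV₀).2 (by rw [he, hf, one_mul, hfin])
  exact ⟨⟨V₀, hV₀⟩, fun V V' hV hV' => (huniq V hV).trans (huniq V' hV').symm,
    fun V hV => key hV⟩

end Parts

section Final

theorem main_cases (p : ℕ) (hp : p.Prime) (A K L : Type u) [CommRing A] [IsDomain A]
    [IsDiscreteValuationRing A] [Field K] [Algebra A K] [IsFractionRing A K] [Field L]
    [Algebra K L] [Algebra A L] [IsScalarTower A K L] [FiniteDimensional K L] [IsGalois K L]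
    [CharP (ResidueField A) p]
    (hdeg : Module.finrank K L = 1 ∨ Module.finrank K L = p)
    (π : A) (hπ : IsLocalRing.maximalIdeal A = Ideal.span {π})
    (P : A[X]) (hPm : P.Monic) (hPd : P.natDegree = p)
    (hPsep : ∀ a : A, ((P - C a).map (residue A)).Separable)
    (ξ : K) (z : L) (hz : aeval z P = algebraMap K L ξ)
    (hgen : IntermediateField.adjoin K {z} = ⊤) :
    let g : A →+* L := algebraMap A L
    let case1 : Prop := Module.finrank K L = 1
    let case2 : Prop := EtRam.IsUnramifiedExt A g ∧ Module.finrank K L = p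
    let case3 : Prop := EtRam.IsTotallyRamified A g ∧ Module.finrank K L = p
    let case4 : Prop := (∃ V : ValuationSubring L, EtRam.Dominates A g V) ∧
      (∀ V V' : ValuationSubring L, EtRam.Dominates A g V → EtRam.Dominates A g V' → V = V') ∧
      ∀ (V : ValuationSubring L) (h : EtRam.Dominates A g V),
        letI : Algebra A V := (RingHom.codRestrict g V h.1).toAlgebra
        ∀ [IsLocalHom (algebraMap A V)],
          EtRam.IsWeaklyUnramified A V ∧
            IsPurelyInseparable (IsLocalRing.ResidueField A) (IsLocalRing.ResidueField V) ∧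
            Module.finrank (IsLocalRing.ResidueField A) (IsLocalRing.ResidueField V) = p
    (case1 ∨ case2 ∨ case3 ∨ case4) ∧
      ((∃ a : A, algebraMap A K a = ξ) → case1 ∨ case2) ∧
      (∀ (n : ℕ) (a : Aˣ), 0 < n → ¬ p ∣ n →
        ξ * algebraMap A K π ^ n = algebraMap A K a → case3) ∧
      (∀ (n : ℕ) (a : A), 0 < n → p ∣ n →
        (∀ r : A, IsLocalRing.residue A a ≠ IsLocalRing.residue A r ^ p) →
          ξ * algebraMap A K π ^ n = algebraMap A K a → case4) := by
  intro g case1 case2 case3 case4
  have hπirr : Irreducible π := (IsDiscreteValuationRing.irreducible_iff_uniformizer π).mpr hπ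
  exact ⟨partT (K := K) hp hdeg, fun h => partA hp hdeg hPm hPd hz hgen hPsep h,
    fun n a hn hpn hξ => partB hp hdeg hPm hPd hz hπirr hn hpn a.isUnit hξ,
    fun n a hn hpn ha hξ => partC hp hdeg hPm hPd hz hgen hπirr hn hpn ha hξ⟩

end Final

end Cases
end Groth.Agent.Helper9.EtRamLib
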