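import Mathlib
import Groth.Prelude.Def_EtRam
import Groth.Agent.Lib.Helper9.EtRam.Dom13
import Groth.Agent.S1989
import Groth.Agent.S1990

set_option autoImplicit false
set_option linter.style.haveILetI false

namespace Groth.Agent.Helper9.EtRamLib
open IsLocalRing EtRam IntermediateField

universe u

section Comp
variable (A : Type u) {K : Type u} [CommRing A] [IsDomain A] [IsDiscreteValuationRing A] [Field K]
  [Algebra A K] [IsFractionRing A K]

theorem unram_of_algHom {L M : Type u} [Field L] [Field M] [Algebra K L] [Algebra K M]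
    [FiniteDimensional K M] [Algebra.IsSeparable K M] (f : L →ₐ[K] M) :
    (IsTamelyRamified A ((algebraMap K M).comp (algebraMap A K)) →
      IsTamelyRamified A ((algebraMap K L).comp (algebraMap A K))) ∧
    (IsUnramifiedExt A ((algebraMap K M).comp (algebraMap A K)) →
      IsUnramifiedExt A ((algebraMap K L).comp (algebraMap A K))) := by
  letI : Algebra L M := f.toRingHom.toAlgebra
  haveI : IsScalarTower K L M := IsScalarTower.of_algebraMap_eq (fun x => (f.commutes x).symm)
  exact Groth.Agent.S1989.result A K L M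

variable {Ω : Type u} [Field Ω] [Algebra K Ω]

theorem closure_sup_eq_top (E₁ E₂ : IntermediateField K Ω) :
    Subfield.closure
      (Set.range (IntermediateField.inclusion (le_sup_left : E₁ ≤ E₁ ⊔ E₂)).toRingHom ∪
        Set.range (IntermediateField.inclusion (le_sup_right : E₂ ≤ E₁ ⊔ E₂)).toRingHom) = ⊤ := by
  set S := Subfield.closure
      (Set.range (IntermediateField.inclusion (le_sup_left : E₁ ≤ E₁ ⊔ E₂)).toRingHom ∪
        Set.range (IntermediateField.inclusion (le_sup_right : E₂ ≤ E₁ ⊔ E₂)).toRingHom) with hS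
  rw [eq_top_iff]
  rintro ⟨x, hx⟩ -
  -- the intermediate field of elements whose lift is in S
  let T : IntermediateField K Ω :=
    { (S.map (E₁ ⊔ E₂).val.toRingHom) with
      algebraMap_mem' := fun r => by
        refine ⟨algebraMap K _ r, ?_, rfl⟩
        exact Subfield.subset_closure (Or.inl ⟨algebraMap K E₁ r, rfl⟩) }
  have h1 : E₁ ≤ T := fun y hy =>
    ⟨⟨y, le_sup_left (a := E₁) (b := E₂) hy⟩, Subfield.subset_closure (Or.inl ⟨⟨y, hy⟩, rfl⟩), rfl⟩
  have h2 : E₂ ≤ T := fun y hy =>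
    ⟨⟨y, le_sup_right (a := E₁) (b := E₂) hy⟩, Subfield.subset_closure (Or.inr ⟨⟨y, hy⟩, rfl⟩), rfl⟩
  obtain ⟨s, hs, hsx⟩ := (sup_le h1 h2) hx
  have : s = ⟨x, hx⟩ := Subtype.ext hsx
  rw [← this]; exact hs

theorem sup_unram (E₁ E₂ : IntermediateField K Ω) [FiniteDimensional K E₁] [FiniteDimensional K E₂]
    [Algebra.IsSeparable K E₁] [Algebra.IsSeparable K E₂] :
    (IsUnramifiedExt A ((algebraMap K E₁).comp (algebraMap A K)) →
      IsUnramifiedExt A ((algebraMap K E₂).comp (algebraMap A K)) →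
      IsUnramifiedExt A ((algebraMap K ↥(E₁ ⊔ E₂)).comp (algebraMap A K))) ∧
    (IsTamelyRamified A ((algebraMap K E₁).comp (algebraMap A K)) →
      IsTamelyRamified A ((algebraMap K E₂).comp (algebraMap A K)) →
      IsTamelyRamified A ((algebraMap K ↥(E₁ ⊔ E₂)).comp (algebraMap A K))) := by
  letI : Algebra E₂ ↥(E₁ ⊔ E₂) :=
    (IntermediateField.inclusion (le_sup_right : E₂ ≤ E₁ ⊔ E₂)).toRingHom.toAlgebra
  haveI : IsScalarTower K E₂ ↥(E₁ ⊔ E₂) := IsScalarTower.of_algebraMap_eq (fun x => rfl)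
  haveI : FiniteDimensional E₂ ↥(E₁ ⊔ E₂) := FiniteDimensional.right K E₂ _
  set g₂ := (algebraMap K E₂).comp (algebraMap A K) with hg₂
  have key : ∀ (V₂ : ValuationSubring E₂) (hV₂ : Dominates A g₂ V₂),
      (IsUnramifiedExt A ((algebraMap K E₁).comp (algebraMap A K)) →
        IsUnramifiedExt V₂ ((algebraMap E₂ ↥(E₁ ⊔ E₂)).comp V₂.subtype)) ∧
      (IsTamelyRamified A ((algebraMap K E₁).comp (algebraMap A K)) →
        IsTamelyRamified V₂ ((algebraMap E₂ ↥(E₁ ⊔ E₂)).comp V₂.subtype)) := by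
    intro V₂ hV₂
    letI : Algebra A V₂ := (RingHom.codRestrict g₂ V₂ hV₂.1).toAlgebra
    haveI : IsLocalHom (algebraMap A V₂) := dom_isLocalHom hV₂
    haveI : IsDiscreteValuationRing V₂ :=
      isDVR_of_dominates (A := A) (K := K) (g := g₂) (fun a => rfl) hV₂
    letI : Algebra A E₂ := g₂.toAlgebra
    haveI : IsScalarTower A K E₂ := IsScalarTower.of_algebraMap_eq (fun _ => rfl)
    haveI : IsScalarTower A V₂ E₂ := IsScalarTower.of_algebraMap_eq (fun _ => rfl)
    have hg₂inj : Function.Injective g₂ :=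
      (algebraMap K E₂).injective.comp (IsFractionRing.injective A K)
    have hinj : Function.Injective (algebraMap A V₂) := codRestrict_injective hg₂inj hV₂.1
    constructor
    · intro h₁
      exact unramified_base_change (A := A) (B := V₂) (K := K) (L := E₂) (K' := E₁)
        (F := ↥(E₁ ⊔ E₂)) h₁
        (IntermediateField.inclusion (le_sup_left : E₁ ≤ E₁ ⊔ E₂)).toRingHom (by ext x; rfl)
        (closure_sup_eq_top E₁ E₂)
    · intro h₁
      exact tame_base_change (A := A) (B := V₂) (K := K) (L := E₂) (K' := E₁)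
        (F := ↥(E₁ ⊔ E₂)) hinj h₁
        (IntermediateField.inclusion (le_sup_left : E₁ ≤ E₁ ⊔ E₂)).toRingHom (by ext x; rfl)
        (closure_sup_eq_top E₁ E₂)
  constructor
  · intro h₁ h₂
    exact (Groth.Agent.S1990.result A K E₂ ↥(E₁ ⊔ E₂)).2 h₂ (fun V hV => (key V hV).1 h₁)
  · intro h₁ h₂
    exact (Groth.Agent.S1990.result A K E₂ ↥(E₁ ⊔ E₂)).1 h₂ (fun V hV => (key V hV).2 h₁)

/-- bundled predicate: finite separable and unramified -/
def UnrIF (E : IntermediateField K Ω) : Prop :=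
  FiniteDimensional K E ∧ Algebra.IsSeparable K E ∧
    IsUnramifiedExt A ((algebraMap K E).comp (algebraMap A K))

/-- bundled predicate: finite separable and tamely ramified -/
def TameIF (E : IntermediateField K Ω) : Prop :=
  FiniteDimensional K E ∧ Algebra.IsSeparable K E ∧
    IsTamelyRamified A ((algebraMap K E).comp (algebraMap A K))

variable {A}

theorem UnrIF.sup {E₁ E₂ : IntermediateField K Ω} (h₁ : UnrIF A E₁) (h₂ : UnrIF A E₂) :
    UnrIF A (E₁ ⊔ E₂) := by
  obtain ⟨f1, s1, u1⟩ := h₁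
  obtain ⟨f2, s2, u2⟩ := h₂
  exact ⟨inferInstance, inferInstance, (sup_unram A E₁ E₂).1 u1 u2⟩

theorem TameIF.sup {E₁ E₂ : IntermediateField K Ω} (h₁ : TameIF A E₁) (h₂ : TameIF A E₂) :
    TameIF A (E₁ ⊔ E₂) := by
  obtain ⟨f1, s1, u1⟩ := h₁
  obtain ⟨f2, s2, u2⟩ := h₂
  exact ⟨inferInstance, inferInstance, (sup_unram A E₁ E₂).2 u1 u2⟩

theorem UnrIF.mono {E₁ E₂ : IntermediateField K Ω} (h : E₁ ≤ E₂) (h₂ : UnrIF A E₂) :
    UnrIF A E₁ := by
  obtain ⟨f2, s2, u2⟩ := h₂
  exact ⟨Module.Finite.of_injective (IntermediateField.inclusion h).toLinearMap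
      (IntermediateField.inclusion h).injective,
    Algebra.IsSeparable.of_algHom K _ (IntermediateField.inclusion h),
    (unram_of_algHom A (IntermediateField.inclusion h)).2 u2⟩

theorem TameIF.mono {E₁ E₂ : IntermediateField K Ω} (h : E₁ ≤ E₂) (h₂ : TameIF A E₂) :
    TameIF A E₁ := by
  obtain ⟨f2, s2, u2⟩ := h₂
  exact ⟨Module.Finite.of_injective (IntermediateField.inclusion h).toLinearMap
      (IntermediateField.inclusion h).injective,
    Algebra.IsSeparable.of_algHom K _ (IntermediateField.inclusion h),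
    (unram_of_algHom A (IntermediateField.inclusion h)).1 u2⟩

theorem UnrIF.iSup {ι : Type*} [Finite ι] [Nonempty ι] (t : ι → IntermediateField K Ω)
    (h : ∀ i, UnrIF A (t i)) : UnrIF A (⨆ i, t i) := by
  have h0 : UnrIF A (⊥ : IntermediateField K Ω) := UnrIF.mono bot_le (h (Classical.arbitrary ι))
  rw [← iSup_univ]
  induction Set.univ, Set.finite_univ (α := ι) using Set.Finite.induction_on with
  | empty => rw [iSup_emptyset]; exact h0
  | insert s hs ih => rw [iSup_insert]; exact UnrIF.sup (h _) ih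

theorem TameIF.iSup {ι : Type*} [Finite ι] [Nonempty ι] (t : ι → IntermediateField K Ω)
    (h : ∀ i, TameIF A (t i)) : TameIF A (⨆ i, t i) := by
  have h0 : TameIF A (⊥ : IntermediateField K Ω) := TameIF.mono bot_le (h (Classical.arbitrary ι))
  rw [← iSup_univ]
  induction Set.univ, Set.finite_univ (α := ι) using Set.Finite.induction_on with
  | empty => rw [iSup_emptyset]; exact h0
  | insert s hs ih => rw [iSup_insert]; exact TameIF.sup (h _) ih

theorem UnrIF.fieldRange {L : Type u} [Field L] [Algebra K L] [FiniteDimensional K L]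
    [Algebra.IsSeparable K L] (σ : L →ₐ[K] Ω)
    (h : IsUnramifiedExt A ((algebraMap K L).comp (algebraMap A K))) : UnrIF A σ.fieldRange := by
  let e : L ≃ₐ[K] σ.fieldRange := AlgEquiv.ofInjectiveField σ
  haveI : FiniteDimensional K σ.fieldRange := e.toLinearEquiv.finiteDimensional
  haveI : Algebra.IsSeparable K σ.fieldRange := AlgEquiv.Algebra.isSeparable e
  exact ⟨inferInstance, inferInstance, (unram_of_algHom A (e.symm : σ.fieldRange →ₐ[K] L)).2 h⟩

theorem TameIF.fieldRange {L : Type u} [Field L] [Algebra K L] [FiniteDimensional K L]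
    [Algebra.IsSeparable K L] (σ : L →ₐ[K] Ω)
    (h : IsTamelyRamified A ((algebraMap K L).comp (algebraMap A K))) : TameIF A σ.fieldRange := by
  let e : L ≃ₐ[K] σ.fieldRange := AlgEquiv.ofInjectiveField σ
  haveI : FiniteDimensional K σ.fieldRange := e.toLinearEquiv.finiteDimensional
  haveI : Algebra.IsSeparable K σ.fieldRange := AlgEquiv.Algebra.isSeparable e
  exact ⟨inferInstance, inferInstance, (unram_of_algHom A (e.symm : σ.fieldRange →ₐ[K] L)).1 h⟩

end Comp

section Main
variable (A K : Type u) [CommRing A] [IsDomain A] [IsDiscreteValuationRing A] [Field K]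
  [Algebra A K] [IsFractionRing A K]

theorem galois_closure_unram (L : Type u) [Field L] [Algebra K L] [FiniteDimensional K L]
    [Algebra.IsSeparable K L] :
    (IsUnramifiedExt A ((algebraMap K L).comp (algebraMap A K)) →
        ∃ (M : Type u) (_ : Field M) (_ : Algebra K M) (_ : FiniteDimensional K M) (_ : IsGalois K M)
          (_ : L →ₐ[K] M), IsUnramifiedExt A ((algebraMap K M).comp (algebraMap A K))) ∧
    (IsTamelyRamified A ((algebraMap K L).comp (algebraMap A K)) →
        ∃ (M : Type u) (_ : Field M) (_ : Algebra K M) (_ : FiniteDimensional K M) (_ : IsGalois K M)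
          (_ : L →ₐ[K] M), IsTamelyRamified A ((algebraMap K M).comp (algebraMap A K))) := by
  let Ω := AlgebraicClosure K
  let σ₀ : L →ₐ[K] Ω := IsAlgClosed.lift
  haveI : Nonempty (L →ₐ[K] Ω) := ⟨σ₀⟩
  have hdef : normalClosure K L Ω = ⨆ f : L →ₐ[K] Ω, f.fieldRange := rfl
  let j : L →ₐ[K] normalClosure K L Ω := (normalClosure.algHomEquiv K L Ω).symm σ₀
  constructor
  · intro h
    have hU : UnrIF A (normalClosure K L Ω) := by
      rw [hdef]; exact UnrIF.iSup _ (fun f => UnrIF.fieldRange f h)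
    obtain ⟨hf, hs, hu⟩ := hU
    exact ⟨normalClosure K L Ω, inferInstance, inferInstance, hf, ⟨⟩, j, hu⟩
  · intro h
    have hU : TameIF A (normalClosure K L Ω) := by
      rw [hdef]; exact TameIF.iSup _ (fun f => TameIF.fieldRange f h)
    obtain ⟨hf, hs, hu⟩ := hU
    exact ⟨normalClosure K L Ω, inferInstance, inferInstance, hf, ⟨⟩, j, hu⟩

theorem compositum_unram (L₁ L₂ : Type u) [Field L₁] [Field L₂] [Algebra K L₁] [Algebra K L₂]
    [FiniteDimensional K L₁] [FiniteDimensional K L₂]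
    [Algebra.IsSeparable K L₁] [Algebra.IsSeparable K L₂] :
    (IsUnramifiedExt A ((algebraMap K L₁).comp (algebraMap A K)) →
        IsUnramifiedExt A ((algebraMap K L₂).comp (algebraMap A K)) →
        ∃ (M : Type u) (_ : Field M) (_ : Algebra K M) (_ : FiniteDimensional K M)
          (_ : Algebra.IsSeparable K M) (_ : L₁ →ₐ[K] M) (_ : L₂ →ₐ[K] M),
          IsUnramifiedExt A ((algebraMap K M).comp (algebraMap A K))) ∧
    (IsTamelyRamified A ((algebraMap K L₁).comp (algebraMap A K)) →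
        IsTamelyRamified A ((algebraMap K L₂).comp (algebraMap A K)) →
        ∃ (M : Type u) (_ : Field M) (_ : Algebra K M) (_ : FiniteDimensional K M)
          (_ : Algebra.IsSeparable K M) (_ : L₁ →ₐ[K] M) (_ : L₂ →ₐ[K] M),
          IsTamelyRamified A ((algebraMap K M).comp (algebraMap A K))) := by
  let Ω := AlgebraicClosure K
  let σ₁ : L₁ →ₐ[K] Ω := IsAlgClosed.lift
  let σ₂ : L₂ →ₐ[K] Ω := IsAlgClosed.lift
  let j₁ : L₁ →ₐ[K] ↥(σ₁.fieldRange ⊔ σ₂.fieldRange) :=
    (IntermediateField.inclusion le_sup_left).comp (AlgEquiv.ofInjectiveField σ₁).toAlgHom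
  let j₂ : L₂ →ₐ[K] ↥(σ₁.fieldRange ⊔ σ₂.fieldRange) :=
    (IntermediateField.inclusion le_sup_right).comp (AlgEquiv.ofInjectiveField σ₂).toAlgHom
  constructor
  · intro h₁ h₂
    obtain ⟨hf, hs, hu⟩ := UnrIF.sup (UnrIF.fieldRange σ₁ h₁) (UnrIF.fieldRange σ₂ h₂)
    exact ⟨↥(σ₁.fieldRange ⊔ σ₂.fieldRange), inferInstance, inferInstance, hf, hs, j₁, j₂, hu⟩
  · intro h₁ h₂
    obtain ⟨hf, hs, hu⟩ := TameIF.sup (TameIF.fieldRange σ₁ h₁) (TameIF.fieldRange σ₂ h₂)
    exact ⟨↥(σ₁.fieldRange ⊔ σ₂.fieldRange), inferInstance, inferInstance, hf, hs, j₁, j₂, hu⟩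

end Main

end Groth.Agent.Helper9.EtRamLib
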