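import Mathlib
import Groth.Prelude.Def_EtRam
import Groth.Agent.Lib.Helper9.EtRam.Dom13

set_option autoImplicit false
set_option linter.style.haveILetI false

namespace Groth.Agent.Helper9.EtRamLib
open IsLocalRing EtRam TensorProduct Polynomial

universe u

/-- A finite free formally unramified algebra over a reduced ring is reduced. -/
theorem isReduced_of_free_unramified (R S : Type u) [CommRing R] [CommRing S] [Algebra R S]
    [IsReduced R] [Module.Free R S] [Module.Finite R S] [Algebra.FormallyUnramified R S] :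
    IsReduced S := by
  classical
  constructor
  intro s hs
  let b := Module.Free.chooseBasis R S
  have hcoord : ∀ i, b.repr s i = 0 := by
    intro i
    have hnil : IsNilpotent (b.repr s i) := by
      rw [← mem_nilradical, nilradical_eq_sInf, Ideal.mem_sInf]
      intro p hp
      haveI : p.IsPrime := hp
      -- base change to residue field
      haveI : IsReduced (p.ResidueField ⊗[R] S) :=
        Algebra.FormallyUnramified.isReduced_of_field p.ResidueField _
      have h0 : (1 : p.ResidueField) ⊗ₜ[R] s = 0 := by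
        apply IsReduced.eq_zero
        obtain ⟨n, hn⟩ := hs
        refine ⟨n, ?_⟩
        rw [Algebra.TensorProduct.tmul_pow, one_pow, hn, TensorProduct.tmul_zero]
      have h1 := congrArg (fun t => (Algebra.TensorProduct.basis p.ResidueField b).repr t i) h0
      simp only [map_zero, Finsupp.coe_zero, Pi.zero_apply] at h1
      rw [Algebra.TensorProduct.basis_repr_tmul] at h1
      simp only [one_smul, Finsupp.mapRange_apply] at h1
      rwa [Ideal.algebraMap_residueField_eq_zero] at h1
    exact hnil.eq_zero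
  have : b.repr s = 0 := Finsupp.ext hcoord
  exact (b.repr.map_eq_zero_iff).1 this

/-- In characteristic zero every field extension is geometrically reduced. -/
theorem geomReduced_of_charZero (k K : Type u) [Field k] [Field K] [Algebra k K] [CharZero k] :
    Algebra.IsGeometricallyReduced k K := by
  rw [Algebra.isGeometricallyReduced_field_iff]
  haveI : IsReduced (K ⊗[k] AlgebraicClosure k) := by
    apply IsReduced.tensorProduct_of_flat_of_forall_fg
    intro B hB
    -- B is a finite field extension of k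
    haveI : Algebra.IsAlgebraic k B := Algebra.IsAlgebraic.of_injective B.val Subtype.val_injective
    haveI : Algebra.IsIntegral k B := Algebra.IsAlgebraic.isIntegral
    haveI : Algebra.FiniteType k B := (Subalgebra.fg_iff_finiteType B).1 hB
    haveI : Module.Finite k B := Algebra.IsIntegral.finite
    letI : Field B := (Subalgebra.isField_of_algebraic B).toField
    haveI : Algebra.IsSeparable k B := inferInstance
    haveI : Algebra.FormallyUnramified k B := Algebra.FormallyUnramified.of_isSeparable k B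
    exact Algebra.FormallyUnramified.isReduced_of_field K (K ⊗[k] B)
  exact isReduced_of_injective (Algebra.TensorProduct.comm k (AlgebraicClosure k) K).toRingEquiv.toRingHom
    (Algebra.TensorProduct.comm k (AlgebraicClosure k) K).injective


section GR2
variable (k k₁ kB : Type u) [Field k] [Field k₁] [Field kB] [Algebra k k₁] [Module.Finite k k₁]
  [Algebra k kB] [Algebra.IsGeometricallyReduced k kB] {d : ℕ} (hd : (d : k) ≠ 0)
  {c : k₁ ⊗[k] kB} (hc : IsUnit c)
local notation "E" => k₁ ⊗[k] kB

theorem tensor_finite_geomReduced' :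
    IsReduced (k₁ ⊗[k] kB) ∧ IsArtinianRing (k₁ ⊗[k] kB) ∧ IsNoetherianRing (k₁ ⊗[k] kB) := by
  haveI : Algebra.IsAlgebraic k k₁ := Algebra.IsAlgebraic.of_finite k k₁
  haveI : IsReduced (k₁ ⊗[k] kB) := inferInstance
  let e := Algebra.TensorProduct.comm k kB k₁
  haveI : IsArtinianRing (kB ⊗[k] k₁) := IsArtinianRing.of_finite kB _
  haveI : IsNoetherianRing (kB ⊗[k] k₁) := IsNoetherianRing.of_finite kB _
  exact ⟨inferInstance, e.toRingEquiv.isArtinianRing, isNoetherianRing_of_ringEquiv _ e.toRingEquiv⟩

include hd hc in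
theorem adjoinRoot_tensor_props :
    IsVNR (AdjoinRoot (X ^ d - C c : (k₁ ⊗[k] kB)[X])) ∧
    IsNoetherianRing (AdjoinRoot (X ^ d - C c : (k₁ ⊗[k] kB)[X])) ∧
    IsReduced (AlgebraicClosure k₁ ⊗[k₁] (AdjoinRoot (X ^ d - C c : (k₁ ⊗[k] kB)[X]))) := by
  obtain ⟨hred, hart, hnoe⟩ := tensor_finite_geomReduced' k k₁ kB
  set E' := AdjoinRoot (X ^ d - C c : E[X]) with hE'
  have hdE : IsUnit (d : E) := by
    have := (isUnit_iff_ne_zero.2 hd).map (algebraMap k E)
    simpa using this
  haveI hunr : Algebra.FormallyUnramified E E' := formallyUnramified_adjoinRoot_pow_sub hdE hc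
  have hmonic : (X ^ d - C c : E[X]).Monic := by
    have hd0 : d ≠ 0 := by rintro rfl; simp at hd
    exact monic_X_pow_sub_C c hd0
  haveI hfin : Module.Finite E E' := hmonic.finite_adjoinRoot
  haveI hfree : Module.Free E E' := Module.Free.of_basis (AdjoinRoot.powerBasis' hmonic).basis
  haveI : IsReduced E' := isReduced_of_free_unramified E E'
  haveI : IsArtinianRing E' := IsArtinianRing.of_finite E E'
  haveI : IsNoetherianRing E' := IsNoetherianRing.of_finite E E'
  refine ⟨isVNR_of_reduced_artinian E', inferInstance, ?_⟩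
  -- geometric part
  set Ω := AlgebraicClosure k₁ with hΩ
  haveI : Algebra.IsAlgebraic k k₁ := Algebra.IsAlgebraic.of_finite k k₁
  haveI : Algebra.IsAlgebraic k Ω := Algebra.IsAlgebraic.trans k k₁ _
  haveI : IsReduced (Ω ⊗[k] kB) := inferInstance
  haveI hR₂ : IsReduced (Ω ⊗[k₁] E) :=
    isReduced_of_injective
      (Algebra.TensorProduct.cancelBaseChange k k₁ k₁ Ω kB).toRingEquiv.toRingHom
      (Algebra.TensorProduct.cancelBaseChange k k₁ k₁ Ω kB).injective
  haveI hR₂' : IsReduced (E ⊗[k₁] Ω) :=
    isReduced_of_injective (Algebra.TensorProduct.comm k₁ E Ω).toRingEquiv.toRingHom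
      (Algebra.TensorProduct.comm k₁ E Ω).injective
  haveI : IsReduced ((E ⊗[k₁] Ω) ⊗[E] E') := isReduced_of_free_unramified (E ⊗[k₁] Ω) ((E ⊗[k₁] Ω) ⊗[E] E')
  -- chain of isomorphisms
  let i1 : Ω ⊗[k₁] E' ≃+* E' ⊗[k₁] Ω := (Algebra.TensorProduct.comm k₁ Ω E').toRingEquiv
  let i2 : E' ⊗[E] (E ⊗[k₁] Ω) ≃+* E' ⊗[k₁] Ω :=
    (Algebra.TensorProduct.cancelBaseChange k₁ E E E' Ω).toRingEquiv
  let i3 : E' ⊗[E] (E ⊗[k₁] Ω) ≃+* (E ⊗[k₁] Ω) ⊗[E] E' :=
    (Algebra.TensorProduct.comm E E' (E ⊗[k₁] Ω)).toRingEquiv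
  let i := (i1.trans i2.symm).trans i3
  constructor
  intro x hx
  apply i.injective
  rw [map_zero]
  exact IsReduced.eq_zero _ (hx.map i)


include hd hc in
theorem geomReduced_of_adjoinRoot_surj (kW : Type u) [Field kW] [Algebra k₁ kW]
    (Φ : AdjoinRoot (X ^ d - C c : (k₁ ⊗[k] kB)[X]) →ₐ[k₁] kW) (hΦ : Function.Surjective Φ) :
    Algebra.IsGeometricallyReduced k₁ kW := by
  obtain ⟨hvnr, hnoe, hred⟩ := adjoinRoot_tensor_props k k₁ kB hd hc
  rw [Algebra.isGeometricallyReduced_field_iff]
  obtain ⟨e, he, hker⟩ := isVNR_ideal_eq_span_idem hvnr (RingHom.ker Φ)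
  exact isReduced_tensor_quot Φ hΦ he hker

end GR2

end Groth.Agent.Helper9.EtRamLib
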