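import Mathlib
import Groth.Prelude.Def_EtRam
import Groth.Agent.Lib.Helper9.EtRam.Dom18
import Groth.Agent.Lib.Helper9.EtRam.Dom15
import Groth.Agent.S7132
import Groth.Agent.S1982

set_option autoImplicit false
set_option linter.style.haveILetI false

namespace Groth.Agent.Helper9.EtRamLib
open Polynomial IsLocalRing EtRam

universe u

section Back
variable {A K : Type u} [CommRing A] [IsDomain A] [IsDiscreteValuationRing A] [Field K]
  [Algebra A K] [IsFractionRing A K]

/-- If `L'` is unramified over `A' = A[z]/(z^e - π)` with `e` invertible in the residue field,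
then `L'` is tamely ramified over `A`. -/
theorem tame_of_unramified_over_root {π : A} (hπ : Irreducible π) {e : ℕ} (he : 0 < e)
    (hek : (e : ResidueField A) ≠ 0)
    (L' : Type u) [Field L'] [Algebra K L'] [FiniteDimensional K L']
    [Algebra (AdjoinRoot (X ^ e - C π : A[X])) L']
    (hcompat : (algebraMap (AdjoinRoot (X ^ e - C π : A[X])) L').comp (AdjoinRoot.of (X ^ e - C π)) =
      (algebraMap K L').comp (algebraMap A K))
    (hunr : ∀ [IsLocalRing (AdjoinRoot (X ^ e - C π : A[X]))],
      IsUnramifiedExt (AdjoinRoot (X ^ e - C π : A[X]))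
        (algebraMap (AdjoinRoot (X ^ e - C π : A[X])) L')) :
    IsTamelyRamified A ((algebraMap K L').comp (algebraMap A K)) := by
  have he1 : 1 ≤ e := he
  letI := AR.isDomain A π e hπ he1
  letI := AR.isDVR A π e hπ he1
  haveI hloc : IsLocalHom (algebraMap A (AdjoinRoot (AR.f A π e))) := AR.isLocalHom_of A π e hπ he1
  intro W hW iW
  set gM := (algebraMap K L').comp (algebraMap A K) with hgM
  set gA' := algebraMap (AdjoinRoot (AR.f A π e)) L' with hgA'
  have hgMinj : Function.Injective gM :=
    (algebraMap K L').injective.comp (IsFractionRing.injective A K)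
  have hcompat' : gM = gA'.comp (algebraMap A (AdjoinRoot (AR.f A π e))) := hcompat.symm
  have hgA'inj : Function.Injective gA' := by
    apply AR.hom_injective A π e hπ he1
    rw [hcompat]; exact hgMinj
  have hWA' : Dominates (AdjoinRoot (AR.f A π e)) gA' W :=
    AR.dominates_adjoinRoot A π e hπ he1 gA' (hcompat ▸ hW)
  haveI hWdvr : IsDiscreteValuationRing W :=
    isDVR_of_dominates (A := A) (K := K) (g := gM) (fun a => rfl) hW
  letI algA'W : Algebra (AdjoinRoot (AR.f A π e)) W := (RingHom.codRestrict gA' W hWA'.1).toAlgebra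
  haveI : IsLocalHom (algebraMap (AdjoinRoot (AR.f A π e)) W) := dom_isLocalHom hWA'
  obtain ⟨hwu, hsep⟩ := hunr W hWA'
  letI algAW : Algebra A W := (RingHom.codRestrict gM W hW.1).toAlgebra
  haveI : IsScalarTower A (AdjoinRoot (AR.f A π e)) W :=
    IsScalarTower.of_algebraMap_eq (fun a => Subtype.ext (RingHom.congr_fun hcompat' a))
  constructor
  · -- separability
    haveI : Algebra.IsSeparable (ResidueField A) (ResidueField (AdjoinRoot (AR.f A π e))) := by
      refine ⟨fun y => ?_⟩
      obtain ⟨a, ha⟩ := AR.residue_surj A π e hπ he1 y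
      have : y = algebraMap (ResidueField A) _ (residue A a) := by rw [← ha]; rfl
      rw [this]
      exact isSeparable_algebraMap _
    exact Algebra.IsSeparable.trans (ResidueField A) (ResidueField (AdjoinRoot (AR.f A π e)))
      (ResidueField W)
  · intro p hp hchar hdvd
    have hinjAA' : Function.Injective (algebraMap A (AdjoinRoot (AR.f A π e))) :=
      AR.of_inj A π e he1
    have ht := tower_ram' hinjAA' hcompat' hgA'inj hWA' hW
    have he2 : Ideal.ramificationIdx' (maximalIdeal (AdjoinRoot (AR.f A π e))) (maximalIdeal W) = 1 :=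
      (isWeaklyUnramified_iff _ W (codRestrict_injective hgA'inj hWA'.1)).1 hwu
    rw [he2, mul_one, AR.ramIdx_eq A π e hπ he1] at ht
    rw [ht] at hdvd
    exact hek ((CharP.cast_eq_zero_iff (ResidueField A) p e).2 hdvd)

end Back

section LemmaR
variable {A K : Type u} [CommRing A] [IsDomain A] [IsDiscreteValuationRing A] [Field K]
  [Algebra A K] [IsFractionRing A K] {π : A} (hπ : Irreducible π) {e : ℕ} (he : 1 ≤ e)
  {K'' : Type u} [Field K''] [Algebra K K''] [FiniteDimensional K K'']
  (hfr : Module.finrank K K'' = e)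
  (ψ : AdjoinRoot (X ^ e - C π : A[X]) →+* K'')
  (hψ : ψ.comp (AdjoinRoot.of (X ^ e - C π)) = (algebraMap K K'').comp (algebraMap A K))

include hπ he hfr hψ

/-- every valuation ring of `K(π^{1/e})` over `A` has ramification index `e` and trivial residue
field extension -/
theorem root_ext_ram (V : ValuationSubring K'')
    (hV : Dominates A ((algebraMap K K'').comp (algebraMap A K)) V) :
    letI : Algebra A V :=
      (RingHom.codRestrict ((algebraMap K K'').comp (algebraMap A K)) V hV.1).toAlgebra
    ∀ [IsLocalHom (algebraMap A V)],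
    Ideal.ramificationIdx' (maximalIdeal A) (maximalIdeal V) = e ∧
      Module.finrank (ResidueField A) (ResidueField V) = 1 := by
  letI := AR.isDomain A π e hπ he
  letI := AR.isDVR A π e hπ he
  haveI hloc : IsLocalHom (algebraMap A (AdjoinRoot (AR.f A π e))) := AR.isLocalHom_of A π e hπ he
  set gM := (algebraMap K K'').comp (algebraMap A K) with hgM
  letI algAV : Algebra A V := (RingHom.codRestrict gM V hV.1).toAlgebra
  intro iloc
  have hgMinj : Function.Injective gM :=
    (algebraMap K K'').injective.comp (IsFractionRing.injective A K)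
  have hψinj : Function.Injective ψ := by
    apply AR.hom_injective A π e hπ he
    rw [hψ]; exact hgMinj
  have hVA' : Dominates (AdjoinRoot (AR.f A π e)) ψ V :=
    AR.dominates_adjoinRoot A π e hπ he ψ (hψ ▸ hV)
  haveI hVdvr : IsDiscreteValuationRing V :=
    isDVR_of_dominates (A := A) (K := K) (g := gM) (fun a => rfl) hV
  letI algA'V : Algebra (AdjoinRoot (AR.f A π e)) V := (RingHom.codRestrict ψ V hVA'.1).toAlgebra
  haveI : IsLocalHom (algebraMap (AdjoinRoot (AR.f A π e)) V) := dom_isLocalHom hVA'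
  have hinjAA' : Function.Injective (algebraMap A (AdjoinRoot (AR.f A π e))) :=
    AR.of_inj A π e he
  have ht := tower_ram' hinjAA' (gM := gM) hψ.symm hψinj hVA' hV
  rw [AR.ramIdx_eq A π e hπ he] at ht
  have hpos : 0 < Ideal.ramificationIdx' (maximalIdeal (AdjoinRoot (AR.f A π e))) (maximalIdeal V) :=
    ramificationIdx_pos _ V (codRestrict_injective hψinj hVA'.1)
  letI algAK'' : Algebra A K'' := gM.toAlgebra
  haveI : IsScalarTower A K K'' := IsScalarTower.of_algebraMap_eq (fun _ => rfl)
  haveI : IsScalarTower A V K'' := IsScalarTower.of_algebraMap_eq (fun _ => rfl)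
  obtain ⟨hfin, hle⟩ := Groth.Agent.S7132.result A V K K'' (codRestrict_injective hgMinj hV.1)
  rw [hfr] at hle
  have hfpos : 0 < Module.finrank (ResidueField A) (ResidueField V) := Module.finrank_pos
  set eV := Ideal.ramificationIdx' (maximalIdeal A) (maximalIdeal V) with heV
  set e' := Ideal.ramificationIdx' (maximalIdeal (AdjoinRoot (AR.f A π e))) (maximalIdeal V)
  set fV := Module.finrank (ResidueField A) (ResidueField V)
  have h1 : e ≤ eV := by rw [ht]; exact Nat.le_mul_of_pos_right _ hpos
  have h2 : eV ≤ eV * fV := Nat.le_mul_of_pos_right _ hfpos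
  have h3 : eV = e := le_antisymm (h2.trans hle) h1
  refine ⟨h3, ?_⟩
  rw [h3] at hle
  have h4 : e * fV ≤ e * 1 := by rw [mul_one]; exact hle
  have := Nat.le_of_mul_le_mul_left h4 (by omega)
  omega

/-- `K(π^{1/e})` is tamely ramified over `A` when `e` is invertible in the residue field -/
theorem root_ext_tame (hek : (e : ResidueField A) ≠ 0) :
    IsTamelyRamified A ((algebraMap K K'').comp (algebraMap A K)) := by
  intro V hV iV
  letI algAV : Algebra A V :=
    (RingHom.codRestrict ((algebraMap K K'').comp (algebraMap A K)) V hV.1).toAlgebra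
  obtain ⟨h1, h2⟩ := root_ext_ram hπ he hfr ψ hψ V hV
  constructor
  · refine ⟨fun y => ?_⟩
    have hbt : (⊥ : Subalgebra (ResidueField A) (ResidueField V)) = ⊤ :=
      Subalgebra.bot_eq_top_of_finrank_eq_one h2
    have hy : y ∈ (⊥ : Subalgebra (ResidueField A) (ResidueField V)) := by rw [hbt]; trivial
    obtain ⟨c, rfl⟩ := Algebra.mem_bot.1 hy
    exact isSeparable_algebraMap _
  · intro p hp hchar hdvd
    rw [h1] at hdvd
    exact hek ((CharP.cast_eq_zero_iff (ResidueField A) p e).2 hdvd)

end LemmaR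

open TensorProduct in
theorem geomReduced_of_finite_separable (k k' : Type u) [Field k] [Field k'] [Algebra k k']
    [Module.Finite k k'] [Algebra.IsSeparable k k'] : Algebra.IsGeometricallyReduced k k' := by
  rw [Algebra.isGeometricallyReduced_field_iff]
  haveI : Algebra.FormallyUnramified k k' := Algebra.FormallyUnramified.of_isSeparable k k'
  exact Algebra.FormallyUnramified.isReduced_of_field (AlgebraicClosure k)
    (AlgebraicClosure k ⊗[k] k')

theorem adjoin_eq_top_of_closure' {K L K₁ F : Type u} [Field K] [Field L] [Field K₁] [Field F]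
    [Algebra K L] [Algebra K K₁] [Algebra K F] [Algebra L F] [Algebra K₁ F] [IsScalarTower K L F]
    [IsScalarTower K K₁ F] [Algebra.IsAlgebraic K K₁]
    (hgen : Subfield.closure (Set.range (algebraMap L F) ∪ Set.range (algebraMap K₁ F)) = ⊤) :
    Algebra.adjoin L (Set.range (algebraMap K₁ F)) = ⊤ := by
  have halg : ∀ x ∈ Set.range (algebraMap K₁ F), IsAlgebraic L x := by
    rintro _ ⟨k, rfl⟩
    have hk : IsIntegral K k := Algebra.IsIntegral.isIntegral k
    have h1 : IsIntegral K (algebraMap K₁ F k) := hk.map (IsScalarTower.toAlgHom K K₁ F)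
    exact (h1.tower_top (A := L)).isAlgebraic
  rw [← IntermediateField.adjoin_toSubalgebra_of_isAlgebraic halg, eq_top_iff]
  rintro x -
  have hx : x ∈ Subfield.closure (Set.range (algebraMap L F) ∪ Set.range (algebraMap K₁ F)) := by
    rw [hgen]; trivial
  have hle : Subfield.closure (Set.range (algebraMap L F) ∪ Set.range (algebraMap K₁ F)) ≤
      (IntermediateField.adjoin L (Set.range (algebraMap K₁ F))).toSubfield := by
    rw [Subfield.closure_le]
    rintro y (⟨l, rfl⟩ | ⟨k, rfl⟩)
    · exact IntermediateField.algebraMap_mem _ l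
    · exact IntermediateField.subset_adjoin _ _ ⟨k, rfl⟩
  exact hle hx

section Fwd
variable {A K : Type u} [CommRing A] [IsDomain A] [IsDiscreteValuationRing A] [Field K]
  [Algebra A K] [IsFractionRing A K] {π : A} (hπ : Irreducible π) {e : ℕ} (he : 1 ≤ e)

include hπ he in
theorem fK_irreducible : Irreducible (X ^ e - C (algebraMap A K π) : K[X]) := by
  have h1 := AR.f_irred A π e hπ (AR.span_pi_max A π hπ).isPrime he
  have hmon : (AR.f A π e).Monic := AR.f_monic A π e he
  rw [hmon.irreducible_iff_irreducible_map_fraction_map (K := K)] at h1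
  simpa [AR.f, Polynomial.map_sub, Polynomial.map_pow] using h1

variable (hek : (e : ResidueField A) ≠ 0)
  (L : Type u) [Field L] [Algebra K L] [FiniteDimensional K L] [Algebra.IsSeparable K L]
  (hLtame : IsTamelyRamified A ((algebraMap K L).comp (algebraMap A K)))
  (hdiv : ∀ (V : ValuationSubring L) (hV : Dominates A ((algebraMap K L).comp (algebraMap A K)) V),
     letI : Algebra A V :=
       (RingHom.codRestrict ((algebraMap K L).comp (algebraMap A K)) V hV.1).toAlgebra
     Ideal.ramificationIdx' (maximalIdeal A) (maximalIdeal V) ∣ e)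

include hπ he hek hLtame hdiv in
theorem exists_unramified_over_root :
    ∃ (L' : Type u) (_ : Field L') (_ : Algebra K L')
      (_ : Algebra (AdjoinRoot (X ^ e - C π : A[X])) L') (_ : L →ₐ[K] L'),
      FiniteDimensional K L' ∧ Algebra.IsSeparable K L' ∧
      (algebraMap (AdjoinRoot (X ^ e - C π : A[X])) L').comp (AdjoinRoot.of (X ^ e - C π)) =
        (algebraMap K L').comp (algebraMap A K) ∧
      ∀ [IsLocalRing (AdjoinRoot (X ^ e - C π : A[X]))],
        IsUnramifiedExt (AdjoinRoot (X ^ e - C π : A[X]))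
          (algebraMap (AdjoinRoot (X ^ e - C π : A[X])) L') := by
  classical
  have heK : (e : K) ≠ 0 := by
    intro h0
    apply hek
    have h1 : algebraMap A K (e : A) = 0 := by rw [map_natCast]; exact h0
    have h2 : (e : A) = 0 := (map_eq_zero_iff _ (IsFractionRing.injective A K)).1 h1
    have h3 : residue A (e : A) = 0 := by rw [h2, map_zero]
    rwa [map_natCast] at h3
  have hπK : algebraMap A K π ≠ 0 := by
    rw [Ne, map_eq_zero_iff _ (IsFractionRing.injective A K)]; exact hπ.ne_zero
  haveI hirr : Fact (Irreducible (X ^ e - C (algebraMap A K π) : K[X])) :=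
    ⟨fK_irreducible hπ he⟩
  have hmonK : (X ^ e - C (algebraMap A K π) : K[X]).Monic := monic_X_pow_sub_C _ (by omega)
  haveI : FiniteDimensional K (AdjoinRoot (X ^ e - C (algebraMap A K π) : K[X])) :=
    hmonK.finite_adjoinRoot
  have hfr : Module.finrank K (AdjoinRoot (X ^ e - C (algebraMap A K π) : K[X])) = e := by
    rw [(AdjoinRoot.powerBasis hmonK.ne_zero).finrank, AdjoinRoot.powerBasis_dim,
      natDegree_X_pow_sub_C]
  haveI : Algebra.FormallyUnramified K (AdjoinRoot (X ^ e - C (algebraMap A K π) : K[X])) :=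
    formallyUnramified_adjoinRoot_pow_sub (isUnit_iff_ne_zero.2 heK) (isUnit_iff_ne_zero.2 hπK)
  haveI : Algebra.IsSeparable K (AdjoinRoot (X ^ e - C (algebraMap A K π) : K[X])) :=
    Algebra.FormallyUnramified.isSeparable K _
  let ψ : AdjoinRoot (X ^ e - C π : A[X]) →+* AdjoinRoot (X ^ e - C (algebraMap A K π) : K[X]) :=
    AdjoinRoot.lift ((AdjoinRoot.of _).comp (algebraMap A K)) (AdjoinRoot.root _) (by
      rw [eval₂_sub, eval₂_X_pow, eval₂_C, RingHom.comp_apply, sub_eq_zero]
      have h := AdjoinRoot.eval₂_root (X ^ e - C (algebraMap A K π) : K[X])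
      rw [eval₂_sub, eval₂_X_pow, eval₂_C, sub_eq_zero] at h
      exact h)
  have hψ : ψ.comp (AdjoinRoot.of (X ^ e - C π)) =
      (algebraMap K (AdjoinRoot (X ^ e - C (algebraMap A K π) : K[X]))).comp (algebraMap A K) :=
    AdjoinRoot.lift_comp_of _
  have hK''tame := root_ext_tame hπ he hfr ψ hψ hek
  -- compositum
  let σ : L →ₐ[K] AlgebraicClosure K := IsAlgClosed.lift
  let τ : AdjoinRoot (X ^ e - C (algebraMap A K π) : K[X]) →ₐ[K] AlgebraicClosure K :=
    IsAlgClosed.lift
  obtain ⟨hfd, hsp, htameL'⟩ := TameIF.sup (TameIF.fieldRange σ hLtame) (TameIF.fieldRange τ hK''tame)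
  let jL : L →ₐ[K] ↥(σ.fieldRange ⊔ τ.fieldRange) :=
    (IntermediateField.inclusion le_sup_left).comp (AlgEquiv.ofInjectiveField σ).toAlgHom
  let jK : AdjoinRoot (X ^ e - C (algebraMap A K π) : K[X]) →ₐ[K] ↥(σ.fieldRange ⊔ τ.fieldRange) :=
    (IntermediateField.inclusion le_sup_right).comp (AlgEquiv.ofInjectiveField τ).toAlgHom
  letI algA'L' : Algebra (AdjoinRoot (X ^ e - C π : A[X])) ↥(σ.fieldRange ⊔ τ.fieldRange) :=
    (jK.toRingHom.comp ψ).toAlgebra
  have hcompat : (algebraMap (AdjoinRoot (X ^ e - C π : A[X])) ↥(σ.fieldRange ⊔ τ.fieldRange)).comp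
      (AdjoinRoot.of (X ^ e - C π)) =
      (algebraMap K ↥(σ.fieldRange ⊔ τ.fieldRange)).comp (algebraMap A K) := by
    show (jK.toRingHom.comp ψ).comp (AdjoinRoot.of (X ^ e - C π)) = _
    rw [RingHom.comp_assoc, hψ, ← RingHom.comp_assoc]
    congr 1
    apply RingHom.ext
    intro k
    exact jK.commutes k
  refine ⟨↥(σ.fieldRange ⊔ τ.fieldRange), inferInstance, inferInstance, algA'L', jL, hfd, hsp,
    hcompat, ?_⟩
  intro iLoc W hW iW
  letI := AR.isDomain A π e hπ he
  letI := AR.isDVR A π e hπ he
  haveI hloc : IsLocalHom (algebraMap A (AdjoinRoot (AR.f A π e))) := AR.isLocalHom_of A π e hπ he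
  set gA' := algebraMap (AdjoinRoot (X ^ e - C π : A[X])) ↥(σ.fieldRange ⊔ τ.fieldRange) with hgA'
  set gM := (algebraMap K ↥(σ.fieldRange ⊔ τ.fieldRange)).comp (algebraMap A K) with hgM
  have hgMinj : Function.Injective gM :=
    (algebraMap K _).injective.comp (IsFractionRing.injective A K)
  have hcompat' : gM = gA'.comp (algebraMap A (AdjoinRoot (AR.f A π e))) := hcompat.symm
  have hgA'inj : Function.Injective gA' := by
    apply AR.hom_injective A π e hπ he
    rw [hcompat]; exact hgMinj
  have hWA : Dominates A gM W := hcompat' ▸ dom_comp_local hW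
  haveI hWdvr : IsDiscreteValuationRing W :=
    isDVR_of_dominates (A := A) (K := K) (g := gM) (fun a => rfl) hWA
  letI algLL' : Algebra L ↥(σ.fieldRange ⊔ τ.fieldRange) := jL.toRingHom.toAlgebra
  letI algK''L' : Algebra (AdjoinRoot (X ^ e - C (algebraMap A K π) : K[X]))
      ↥(σ.fieldRange ⊔ τ.fieldRange) := jK.toRingHom.toAlgebra
  haveI : IsScalarTower K L ↥(σ.fieldRange ⊔ τ.fieldRange) :=
    IsScalarTower.of_algebraMap_eq (fun k => (jL.commutes k).symm)
  haveI : IsScalarTower K (AdjoinRoot (X ^ e - C (algebraMap A K π) : K[X]))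
      ↥(σ.fieldRange ⊔ τ.fieldRange) :=
    IsScalarTower.of_algebraMap_eq (fun k => (jK.commutes k).symm)
  have hgen : Subfield.closure (Set.range (algebraMap L ↥(σ.fieldRange ⊔ τ.fieldRange)) ∪
      Set.range (algebraMap (AdjoinRoot (X ^ e - C (algebraMap A K π) : K[X]))
        ↥(σ.fieldRange ⊔ τ.fieldRange))) = ⊤ := by
    have h0 := closure_sup_eq_top σ.fieldRange τ.fieldRange
    have r1 : Set.range (algebraMap L ↥(σ.fieldRange ⊔ τ.fieldRange)) =
        Set.range (IntermediateField.inclusion
          (le_sup_left : σ.fieldRange ≤ σ.fieldRange ⊔ τ.fieldRange)).toRingHom := by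
      ext x
      constructor
      · rintro ⟨l, rfl⟩
        exact ⟨AlgEquiv.ofInjectiveField σ l, rfl⟩
      · rintro ⟨y, rfl⟩
        let eσ : L ≃ₐ[K] σ.fieldRange := AlgEquiv.ofInjectiveField σ
        refine ⟨eσ.symm y, ?_⟩
        show IntermediateField.inclusion
          (le_sup_left : σ.fieldRange ≤ σ.fieldRange ⊔ τ.fieldRange) (eσ (eσ.symm y)) =
          IntermediateField.inclusion le_sup_left y
        rw [AlgEquiv.apply_symm_apply]
    have r2 : Set.range (algebraMap (AdjoinRoot (X ^ e - C (algebraMap A K π) : K[X]))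
        ↥(σ.fieldRange ⊔ τ.fieldRange)) =
        Set.range (IntermediateField.inclusion
          (le_sup_right : τ.fieldRange ≤ σ.fieldRange ⊔ τ.fieldRange)).toRingHom := by
      ext x
      constructor
      · rintro ⟨l, rfl⟩
        exact ⟨AlgEquiv.ofInjectiveField τ l, rfl⟩
      · rintro ⟨y, rfl⟩
        let eτ : AdjoinRoot (X ^ e - C (algebraMap A K π) : K[X]) ≃ₐ[K] τ.fieldRange :=
          AlgEquiv.ofInjectiveField τ
        refine ⟨eτ.symm y, ?_⟩
        show IntermediateField.inclusion
          (le_sup_right : τ.fieldRange ≤ σ.fieldRange ⊔ τ.fieldRange) (eτ (eτ.symm y)) =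
          IntermediateField.inclusion le_sup_right y
        rw [AlgEquiv.apply_symm_apply]
    rw [r1, r2]; exact h0
  have hadj := adjoin_eq_top_of_closure' (K := K) hgen
  -- the valuation ring of L
  set gL := (algebraMap K L).comp (algebraMap A K) with hgL
  have hgLinj : Function.Injective gL :=
    (algebraMap K L).injective.comp (IsFractionRing.injective A K)
  have hcompL : gM = (algebraMap L ↥(σ.fieldRange ⊔ τ.fieldRange)).comp gL := by
    ext a
    simp only [gM, gL, RingHom.comp_apply]
    rw [← IsScalarTower.algebraMap_apply K L]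
  have hV : Dominates A gL (W.comap (algebraMap L ↥(σ.fieldRange ⊔ τ.fieldRange))) :=
    dom_comap (hcompL ▸ hWA)
  haveI hVdvr : IsDiscreteValuationRing (W.comap (algebraMap L ↥(σ.fieldRange ⊔ τ.fieldRange))) :=
    isDVR_of_dominates (A := A) (K := K) (g := gL) (fun a => rfl) hV
  letI algAV : Algebra A (W.comap (algebraMap L ↥(σ.fieldRange ⊔ τ.fieldRange))) :=
    (RingHom.codRestrict gL _ hV.1).toAlgebra
  haveI : IsLocalHom (algebraMap A (W.comap (algebraMap L ↥(σ.fieldRange ⊔ τ.fieldRange)))) :=
    dom_isLocalHom hV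
  have hinjAV : Function.Injective
      (algebraMap A (W.comap (algebraMap L ↥(σ.fieldRange ⊔ τ.fieldRange)))) :=
    codRestrict_injective hgLinj hV.1
  letI algAL : Algebra A L := gL.toAlgebra
  haveI : IsScalarTower A K L := IsScalarTower.of_algebraMap_eq (fun _ => rfl)
  haveI : IsScalarTower A (W.comap (algebraMap L ↥(σ.fieldRange ⊔ τ.fieldRange))) L :=
    IsScalarTower.of_algebraMap_eq (fun _ => rfl)
  obtain ⟨hsepV, hpV⟩ := hLtame _ hV
  have hdivV := hdiv _ hV
  haveI hfinV : Module.Finite (ResidueField A)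
      (ResidueField (W.comap (algebraMap L ↥(σ.fieldRange ⊔ τ.fieldRange)))) :=
    finite_residue_of_dominates (A := A) (K := K) (g := gL) (fun a => rfl) hV
  have htame : CharZero (ResidueField A) ∨ ∃ p : ℕ, p.Prime ∧ CharP (ResidueField A) p ∧
      ¬ p ∣ Ideal.ramificationIdx' (maximalIdeal A)
        (maximalIdeal (W.comap (algebraMap L ↥(σ.fieldRange ⊔ τ.fieldRange)))) ∧
      Algebra.IsGeometricallyReduced (ResidueField A)
        (ResidueField (W.comap (algebraMap L ↥(σ.fieldRange ⊔ τ.fieldRange)))) := by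
    obtain ⟨p, hp⟩ := CharP.exists (ResidueField A)
    rcases CharP.char_is_prime_or_zero (ResidueField A) p with hpp | hp0
    · exact Or.inr ⟨p, hpp, hp, hpV p hpp hp, geomReduced_of_finite_separable _ _⟩
    · left
      subst hp0
      exact CharP.charP_to_charZero _
  have hS := Groth.Agent.S1982.result A (W.comap (algebraMap L ↥(σ.fieldRange ⊔ τ.fieldRange))) K L
    hinjAV htame (AdjoinRoot (X ^ e - C (algebraMap A K π) : K[X])) ↥(σ.fieldRange ⊔ τ.fieldRange)
    hadj W (dom_self_comap W (algebraMap L ↥(σ.fieldRange ⊔ τ.fieldRange)))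
  -- the valuation ring of K''
  set gK := (algebraMap K (AdjoinRoot (X ^ e - C (algebraMap A K π) : K[X]))).comp
    (algebraMap A K) with hgK
  have hgKinj : Function.Injective gK :=
    (algebraMap K _).injective.comp (IsFractionRing.injective A K)
  have hcompK : gM = (algebraMap (AdjoinRoot (X ^ e - C (algebraMap A K π) : K[X]))
      ↥(σ.fieldRange ⊔ τ.fieldRange)).comp gK := by
    ext a
    simp only [gM, gK, RingHom.comp_apply]
    rw [← IsScalarTower.algebraMap_apply K (AdjoinRoot (X ^ e - C (algebraMap A K π) : K[X]))]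
  have hV'' : Dominates A gK (W.comap (algebraMap (AdjoinRoot (X ^ e - C (algebraMap A K π) : K[X]))
      ↥(σ.fieldRange ⊔ τ.fieldRange))) := dom_comap (hcompK ▸ hWA)
  haveI hV''dvr : IsDiscreteValuationRing
      (W.comap (algebraMap (AdjoinRoot (X ^ e - C (algebraMap A K π) : K[X]))
        ↥(σ.fieldRange ⊔ τ.fieldRange))) :=
    isDVR_of_dominates (A := A) (K := K) (g := gK) (fun a => rfl) hV''
  letI algAV'' : Algebra A (W.comap (algebraMap (AdjoinRoot (X ^ e - C (algebraMap A K π) : K[X]))
      ↥(σ.fieldRange ⊔ τ.fieldRange))) := (RingHom.codRestrict gK _ hV''.1).toAlgebra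
  haveI : IsLocalHom (algebraMap A (W.comap (algebraMap (AdjoinRoot
      (X ^ e - C (algebraMap A K π) : K[X])) ↥(σ.fieldRange ⊔ τ.fieldRange)))) :=
    dom_isLocalHom hV''
  obtain ⟨heV'', -⟩ := root_ext_ram hπ he hfr ψ hψ _ hV''
  obtain ⟨hwu'', -⟩ := hS hV''.1 (by rw [heV'']; exact hdivV)
  have hV''W := dom_self_comap W (algebraMap (AdjoinRoot (X ^ e - C (algebraMap A K π) : K[X]))
      ↥(σ.fieldRange ⊔ τ.fieldRange))
  letI algV''W : Algebra (W.comap (algebraMap (AdjoinRoot (X ^ e - C (algebraMap A K π) : K[X]))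
      ↥(σ.fieldRange ⊔ τ.fieldRange))) W := (RingHom.codRestrict _ W hV''W.1).toAlgebra
  haveI : IsLocalHom (algebraMap (W.comap (algebraMap (AdjoinRoot
      (X ^ e - C (algebraMap A K π) : K[X])) ↥(σ.fieldRange ⊔ τ.fieldRange))) W) :=
    dom_isLocalHom hV''W
  have hinjV''W : Function.Injective ((algebraMap (AdjoinRoot (X ^ e - C (algebraMap A K π) : K[X]))
      ↥(σ.fieldRange ⊔ τ.fieldRange)).comp (W.comap (algebraMap (AdjoinRoot
      (X ^ e - C (algebraMap A K π) : K[X])) ↥(σ.fieldRange ⊔ τ.fieldRange))).subtype) :=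
    fun a b hab => Subtype.ext ((algebraMap _ _).injective hab)
  have he2 : Ideal.ramificationIdx' (maximalIdeal (W.comap (algebraMap (AdjoinRoot
      (X ^ e - C (algebraMap A K π) : K[X])) ↥(σ.fieldRange ⊔ τ.fieldRange)))) (maximalIdeal W) = 1 :=
    (isWeaklyUnramified_iff _ W (codRestrict_injective hinjV''W hV''W.1)).1 hwu''
  have ht1 := tower_ram (gM := gM) hcompK hgKinj hV'' hV''W hWA
  have hinjAA' : Function.Injective (algebraMap A (AdjoinRoot (AR.f A π e))) := AR.of_inj A π e he
  have ht2 := tower_ram' hinjAA' hcompat' hgA'inj hW hWA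
  rw [ht1, heV'', he2, mul_one, AR.ramIdx_eq A π e hπ he] at ht2
  letI algA'W : Algebra (AdjoinRoot (AR.f A π e)) W := (RingHom.codRestrict gA' W hW.1).toAlgebra
  have he3 : Ideal.ramificationIdx' (maximalIdeal (AdjoinRoot (AR.f A π e))) (maximalIdeal W) = 1 := by
    have : e * 1 = e * Ideal.ramificationIdx' (maximalIdeal (AdjoinRoot (AR.f A π e)))
        (maximalIdeal W) := by rw [mul_one]; exact ht2
    exact (Nat.eq_of_mul_eq_mul_left (by omega) this).symm
  refine ⟨(isWeaklyUnramified_iff _ W (codRestrict_injective hgA'inj hW.1)).2 he3, ?_⟩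
  -- separability
  letI algAW : Algebra A W := (RingHom.codRestrict gM W hWA.1).toAlgebra
  haveI : IsLocalHom (algebraMap A W) := dom_isLocalHom hWA
  obtain ⟨hsepW, -⟩ := htameL' W hWA
  haveI : IsScalarTower A (AdjoinRoot (AR.f A π e)) W :=
    IsScalarTower.of_algebraMap_eq (fun a => Subtype.ext (RingHom.congr_fun hcompat' a))
  exact Algebra.isSeparable_tower_top_of_isSeparable (ResidueField A)
    (ResidueField (AdjoinRoot (AR.f A π e))) (ResidueField W)

end Fwd

end Groth.Agent.Helper9.EtRamLib
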