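import Mathlib
import Groth.Prelude.Def_EtRam
import Groth.Prelude.Def_Found

set_option autoImplicit false
set_option linter.style.haveILetI false
set_option linter.unusedSectionVars false

/-!
# Nagata property and discrete valuation rings (helper9)

`N2'`, transfer lemmas for `CAlg.IsN2`, and: if `A ⊆ B` is an extension of DVRs with separable
algebraic fraction field extension and `B` is N-2 then `A` is N-2.
-/

namespace Groth.Agent.Helper9.EtRamLib
namespace Nag
open IsLocalRing

universe u

/-- intrinsic N-2 property, for an arbitrary fraction field. -/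
def N2' (R : Type u) [CommRing R] [IsDomain R] : Prop :=
  ∀ (F E : Type u) [Field F] [Field E] [Algebra R F] [IsFractionRing R F] [Algebra R E]
    [Algebra F E] [IsScalarTower R F E] [FiniteDimensional F E],
    Module.Finite R (integralClosure R E)

section Transfer
variable {R : Type u} [CommRing R] [IsDomain R]

lemma n2_of_n2' (h : N2' R) : CAlg.IsN2 R := by
  intro E _ _ _ _ hfin
  haveI := hfin
  exact h (FractionRing R) E

/-- the N-2 property for one specific fraction field. -/
def N2at (R F₀ : Type u) [CommRing R] [IsDomain R] [Field F₀] [Algebra R F₀] : Prop :=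
  ∀ (E : Type u) [Field E] [Algebra R E] [Algebra F₀ E] [IsScalarTower R F₀ E]
    [FiniteDimensional F₀ E], Module.Finite R (integralClosure R E)

lemma n2'_of_n2at (F₀ : Type u) [Field F₀] [Algebra R F₀] [IsFractionRing R F₀]
    (h : N2at R F₀) : N2' R := by
  intro F E _ _ _ _ _ _ _ _
  let e : F₀ ≃ₐ[R] F := IsLocalization.algEquiv (nonZeroDivisors R) F₀ F
  letI : Algebra F₀ E := ((algebraMap F E).comp e.toAlgHom.toRingHom).toAlgebra
  haveI : IsScalarTower R F₀ E := by
    apply IsScalarTower.of_algebraMap_eq
    intro r
    rw [RingHom.algebraMap_toAlgebra]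
    simp only [AlgEquiv.toAlgHom_eq_coe, AlgHom.toRingHom_eq_coe, RingHom.coe_comp,
      RingHom.coe_coe, Function.comp_apply, AlgHom.commutes]
    exact IsScalarTower.algebraMap_apply R F E r
  haveI hfin : FiniteDimensional F₀ E := by
    apply Module.Finite.of_equiv_equiv (A₁ := F) (B₁ := E) e.symm.toRingEquiv (RingEquiv.refl E)
    ext x
    simp [RingHom.algebraMap_toAlgebra]
  exact h E

lemma n2'_of_n2 (h : CAlg.IsN2 R) : N2' R :=
  n2'_of_n2at (FractionRing R) (fun E _ _ _ _ hfin => h E hfin)

/-- transfer along a ring isomorphism -/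
lemma n2'_of_ringEquiv {S : Type u} [CommRing S] [IsDomain S] (e : R ≃+* S) (h : N2' R) :
    N2' S := by
  intro F E _ _ _ _ _ _ _ _
  letI : Algebra R F := ((algebraMap S F).comp e.toRingHom).toAlgebra
  letI : Algebra R E := ((algebraMap S E).comp e.toRingHom).toAlgebra
  have hRF : ∀ r : R, algebraMap R F r = algebraMap S F (e r) := fun r => rfl
  have hRE : ∀ r : R, algebraMap R E r = algebraMap S E (e r) := fun r => rfl
  haveI : IsScalarTower R F E := by
    apply IsScalarTower.of_algebraMap_eq
    intro r
    rw [hRE, hRF, IsScalarTower.algebraMap_apply S F E]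
  haveI : FaithfulSMul R F := by
    rw [faithfulSMul_iff_algebraMap_injective]
    intro x y hxy
    rw [hRF, hRF] at hxy
    exact e.injective (IsFractionRing.injective S F hxy)
  haveI : IsFractionRing R F := by
    apply IsFractionRing.of_field
    intro z
    obtain ⟨x, y, hy, hz⟩ := IsFractionRing.div_surjective (A := S) z
    refine ⟨e.symm x, e.symm y, ?_⟩
    rw [hRF, hRF, e.apply_symm_apply, e.apply_symm_apply, hz]
  have hfin : Module.Finite R ↥(integralClosure R E).toSubmodule := h F E
  -- transfer finiteness
  show Module.Finite S ↥(integralClosure S E).toSubmodule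
  rw [Module.Finite.iff_fg] at hfin ⊢
  obtain ⟨s, hs⟩ := hfin
  refine ⟨s, ?_⟩
  have hint : ∀ x : E, IsIntegral R x ↔ IsIntegral S x := by
    intro x
    constructor
    · rintro ⟨P, hPm, hP⟩
      refine ⟨P.map e.toRingHom, hPm.map _, ?_⟩
      rw [Polynomial.eval₂_map]
      exact hP
    · rintro ⟨P, hPm, hP⟩
      refine ⟨P.map e.symm.toRingHom, hPm.map _, ?_⟩
      rw [Polynomial.eval₂_map]
      have : (algebraMap R E).comp e.symm.toRingHom = algebraMap S E := by
        ext x
        simp [hRE]
      rw [this]
      exact hP
  apply le_antisymm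
  · rw [Submodule.span_le]
    intro x hx
    have : x ∈ Submodule.span R (s : Set E) := Submodule.subset_span hx
    rw [hs] at this
    exact (hint x).1 this
  · have key : ∀ x ∈ Submodule.span R (s : Set E), x ∈ Submodule.span S (s : Set E) := by
      intro x hx'
      induction hx' using Submodule.span_induction with
      | mem x hx => exact Submodule.subset_span hx
      | zero => exact Submodule.zero_mem _
      | add x y _ _ hx hy => exact Submodule.add_mem _ hx hy
      | smul r x _ hx =>
        have : r • x = (e r) • x := by
          rw [Algebra.smul_def, Algebra.smul_def, hRE]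
        rw [this]
        exact Submodule.smul_mem _ _ hx
    intro x hx
    have hx' : x ∈ (integralClosure R E).toSubmodule := (hint x).2 hx
    rw [← hs] at hx'
    exact key x hx'

lemma n2_of_isField (hR : IsField R) : CAlg.IsN2 R := by
  intro E _ _ _ _ hfin
  haveI := hfin
  letI := hR.toField
  haveI : Module.Finite R (FractionRing R) := by
    apply Module.Finite.of_surjective (Algebra.linearMap R (FractionRing R))
    intro x
    obtain ⟨a, b, hb, rfl⟩ := IsFractionRing.div_surjective (A := R) x
    refine ⟨a / b, ?_⟩
    simp
  haveI : Module.Finite R E := Module.Finite.trans (FractionRing R) E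
  infer_instance

end Transfer


section Nagata
variable {R : Type u} [CommRing R] [IsDomain R]

lemma n2'_of_isNagata (h : CAlg.IsNagata R) : N2' R :=
  n2'_of_ringEquiv (RingEquiv.quotientBot R) (n2'_of_n2 (h.2 ⊥))

lemma isNagata_of_dvr [IsDiscreteValuationRing R] (h : N2' R) : CAlg.IsNagata R := by
  refine ⟨inferInstance, ?_⟩
  intro p hp
  by_cases hp0 : p = ⊥
  · subst hp0
    exact n2_of_n2' (n2'_of_ringEquiv (RingEquiv.quotientBot R).symm h)
  · haveI : p.IsMaximal := hp.isMaximal hp0
    exact n2_of_isField ((Ideal.Quotient.maximal_ideal_iff_isField_quotient p).1 inferInstance)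

end Nagata

section Inter
variable {A B K L : Type u} [CommRing A] [IsDomain A] [IsDiscreteValuationRing A]
    [CommRing B] [IsDomain B] [IsDiscreteValuationRing B] [Algebra A B] [IsLocalHom (algebraMap A B)]
    [Field K] [Field L] [Algebra A K] [IsFractionRing A K] [Algebra B L] [IsFractionRing B L]
    [Algebra K L] [Algebra A L] [IsScalarTower A K L] [IsScalarTower A B L]

/-- `B ∩ K = A`. -/
lemma inter_eq {x : K} (hx : algebraMap K L x ∈ Set.range (algebraMap B L)) :
    x ∈ Set.range (algebraMap A K) := by
  obtain ⟨b, hb⟩ := hx
  rcases ValuationRing.isInteger_or_isInteger A x with h | h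
  · obtain ⟨a, ha⟩ := h
    exact ⟨a, ha⟩
  · obtain ⟨a, ha⟩ := h
    -- a = x⁻¹
    by_cases hx0 : x = 0
    · exact ⟨0, by rw [map_zero, hx0]⟩
    have hxa : x * algebraMap A K a = 1 := by rw [ha, mul_inv_cancel₀ hx0]
    have h1 : algebraMap B L (b * algebraMap A B a) = 1 := by
      rw [map_mul, hb, ← IsScalarTower.algebraMap_apply A B L, IsScalarTower.algebraMap_apply A K L,
        ← map_mul, hxa, map_one]
    have h2 : b * algebraMap A B a = 1 := by
      apply IsFractionRing.injective B L
      rw [h1, map_one]
    have hu : IsUnit (algebraMap A B a) := IsUnit.of_mul_eq_one_right b h2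
    have hua : IsUnit a := IsLocalHom.map_nonunit a hu
    obtain ⟨u, rfl⟩ := hua
    refine ⟨((u⁻¹ : Aˣ) : A), ?_⟩
    have : algebraMap A K ((u⁻¹ : Aˣ) : A) * algebraMap A K (u : A) = 1 := by
      rw [← map_mul, Units.inv_mul, map_one]
    have hne : algebraMap A K (u : A) ≠ 0 := right_ne_zero_of_mul_eq_one this
    exact mul_right_cancel₀ hne (this.trans hxa.symm)

/-- every nonzero `d ∈ B` divides the image of a nonzero element of `A`. -/
lemma exists_dvd_map (hinj : Function.Injective (algebraMap A B)) {d : B} (hd : d ≠ 0) :
    ∃ a : A, a ≠ 0 ∧ d ∣ algebraMap A B a := by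
  obtain ⟨π, hπ⟩ := IsDiscreteValuationRing.exists_irreducible A
  obtain ⟨ϖ, hϖ⟩ := IsDiscreteValuationRing.exists_irreducible B
  obtain ⟨s, u, hu⟩ := IsDiscreteValuationRing.eq_unit_mul_pow_irreducible hd hϖ
  have hπB : ϖ ∣ algebraMap A B π := by
    have h1 : algebraMap A B π ∈ maximalIdeal B := by
      rw [mem_maximalIdeal, mem_nonunits_iff]
      intro h
      exact hπ.not_isUnit (IsLocalHom.map_nonunit π h)
    rw [(IsDiscreteValuationRing.irreducible_iff_uniformizer ϖ).1 hϖ, Ideal.mem_span_singleton] at h1
    exact h1
  refine ⟨π ^ s, pow_ne_zero s hπ.ne_zero, ?_⟩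
  rw [map_pow, hu]
  have := pow_dvd_pow_of_dvd hπB s
  exact (Units.mul_left_dvd).2 this

end Inter

section LD
/-- linear disjointness of separable and purely inseparable: a `K`-basis of `K'` stays
`L`-linearly independent in any common overfield. -/
lemma linIndep_of_sep_insep {K L K' Ω : Type u} [Field K] [Field L] [Field K'] [Field Ω]
    [Algebra K L] [Algebra K K'] [Algebra K Ω] [Algebra L Ω] [Algebra K' Ω]
    [IsScalarTower K L Ω] [IsScalarTower K K' Ω] [Algebra.IsSeparable K L]
    [IsPurelyInseparable K K'] {ι : Type*} {b : ι → K'} (hb : LinearIndependent K b) :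
    LinearIndependent L (algebraMap K' Ω ∘ b) := by
  let S : IntermediateField K Ω := (IsScalarTower.toAlgHom K L Ω).fieldRange
  let eS : L ≃ₐ[K] S := AlgEquiv.ofInjectiveField (IsScalarTower.toAlgHom K L Ω)
  haveI : Algebra.IsSeparable K S := AlgEquiv.Algebra.isSeparable eS
  have H : S.LinearDisjoint K' :=
    IntermediateField.linearDisjoint_of_isPurelyInseparable_of_isSeparable K' S
  have h1 : LinearIndependent S (algebraMap K' Ω ∘ b) := H.linearIndependent_right' hb
  rw [linearIndependent_iff'] at h1 ⊢
  intro s g hg i hi
  have := h1 s (fun i => eS (g i)) ?_ i hi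
  · exact eS.injective (by rw [this, map_zero])
  · rw [← hg]
    apply Finset.sum_congr rfl
    intro j _
    rw [Algebra.smul_def, Algebra.smul_def]
    rfl

end LD

section Fixed
variable (K N : Type u) [Field K] [Field N] [Algebra K N]

/-- the fixed field of all automorphisms of a normal extension is purely inseparable over the
base. -/
lemma fixed_purelyInsep [Normal K N] :
    IsPurelyInseparable K (IntermediateField.fixedField (⊤ : Subgroup (N ≃ₐ[K] N))) := by
  classical
  rw [isPurelyInseparable_iff_natSepDegree_eq_one]
  intro x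
  rw [IntermediateField.minpoly_eq]
  have hsplit : ((minpoly K (x : N)).map (algebraMap K N)).Splits := Normal.splits inferInstance _
  rw [Polynomial.natSepDegree_eq_of_splits _ hsplit]
  have hx : (x : N) ∈ IntermediateField.fixedField (⊤ : Subgroup (N ≃ₐ[K] N)) := x.2
  rw [IntermediateField.mem_fixedField_iff] at hx
  have hint : IsIntegral K (x : N) := Normal.isIntegral inferInstance _
  have : ((minpoly K (x : N)).aroots N).toFinset = {(x : N)} := by
    ext y
    rw [Multiset.mem_toFinset, Polynomial.mem_aroots, Finset.mem_singleton]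
    constructor
    · rintro ⟨-, hy⟩
      have hy' : IsIntegral K y := Normal.isIntegral inferInstance _
      have h1 : minpoly K (x : N) = minpoly K y :=
        minpoly.eq_of_irreducible_of_monic (minpoly.irreducible hint) hy (minpoly.monic hint)
      obtain ⟨σ, hσ⟩ := (Normal.minpoly_eq_iff_mem_orbit N).1 h1
      have h2 : σ y = (x : N) := hσ
      have h3 : σ⁻¹ (x : N) = (x : N) := hx σ⁻¹ (Subgroup.mem_top _)
      have h4 : σ⁻¹ (σ y) = y := by
        rw [← AlgEquiv.mul_apply, inv_mul_cancel, AlgEquiv.one_apply]
      rw [← h4, h2, h3]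
    · rintro rfl
      exact ⟨minpoly.ne_zero hint, minpoly.aeval K _⟩
  rw [this, Finset.card_singleton]

lemma fixed_galois [FiniteDimensional K N] :
    IsGalois (IntermediateField.fixedField (⊤ : Subgroup (N ≃ₐ[K] N))) N :=
  IsGalois.of_fixed_field N (⊤ : Subgroup (N ≃ₐ[K] N))

end Fixed

/-- finiteness of integral closure through a finite integrally closed intermediate ring with
separable top part. -/
lemma finite_of_tower (A A₀ F₀ N : Type u) [CommRing A] [IsNoetherianRing A]
    [CommRing A₀] [IsDomain A₀] [Algebra A A₀] [Module.Finite A A₀] [Field F₀] [Algebra A₀ F₀]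
    [IsFractionRing A₀ F₀] [IsIntegrallyClosed A₀] [Field N] [Algebra F₀ N] [FiniteDimensional F₀ N]
    [Algebra.IsSeparable F₀ N] [Algebra A₀ N] [IsScalarTower A₀ F₀ N] [Algebra A N]
    [IsScalarTower A A₀ N] : Module.Finite A (integralClosure A N) := by
  haveI : IsNoetherianRing A₀ := IsNoetherianRing.of_finite A A₀
  have h2 : Module.Finite A₀ (integralClosure A₀ N) :=
    IsIntegralClosure.finite A₀ F₀ N (integralClosure A₀ N)
  haveI : Module.Finite A (integralClosure A₀ N) := Module.Finite.trans A₀ _
  have hmem : ∀ x : integralClosure A N, (x : N) ∈ integralClosure A₀ N :=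
    fun x => IsIntegral.tower_top x.2
  let f : integralClosure A N →ₗ[A] integralClosure A₀ N :=
    { toFun := fun x => ⟨x, hmem x⟩
      map_add' := fun x y => rfl
      map_smul' := fun c x => rfl }
  have hf : Function.Injective f := by
    intro x y hxy
    have := congrArg Subtype.val hxy
    exact Subtype.ext this
  exact Module.Finite.of_injective f hf


section PI
variable {A B K L : Type u} [CommRing A] [IsDomain A] [IsDiscreteValuationRing A]
    [CommRing B] [IsDomain B] [IsDiscreteValuationRing B] [Algebra A B] [IsLocalHom (algebraMap A B)]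
    [Field K] [Field L] [Algebra A K] [IsFractionRing A K] [Algebra B L] [IsFractionRing B L]
    [Algebra K L] [Algebra A L] [IsScalarTower A K L] [IsScalarTower A B L]

theorem finite_purelyInsep (hinj : Function.Injective (algebraMap A B)) [Algebra.IsSeparable K L]
    (hB : N2' B)
    (K' : Type u) [Field K'] [Algebra K K'] [Algebra A K'] [IsScalarTower A K K']
    [FiniteDimensional K K'] [IsPurelyInseparable K K'] :
    Module.Finite A (integralClosure A K') := by
  classical
  let Ω := AlgebraicClosure L
  let φ : K' →ₐ[K] Ω := IsAlgClosed.lift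
  letI : Algebra K' Ω := φ.toRingHom.toAlgebra
  haveI : IsScalarTower K K' Ω := IsScalarTower.of_algebraMap_eq (fun x => (φ.commutes x).symm)
  have hφ : ∀ x : K', algebraMap K' Ω x = φ x := fun _ => rfl
  let b := Module.finBasis K K'
  have hli : LinearIndependent L (algebraMap K' Ω ∘ b) :=
    linIndep_of_sep_insep b.linearIndependent
  -- coordinate functionals
  obtain ⟨ψ, hψ⟩ := LinearMap.exists_extend hli.repr
  have hψv : ∀ i, ψ (φ (b i)) = Finsupp.single i 1 := by
    intro i
    have h1 := LinearMap.congr_fun hψ ⟨φ (b i), Submodule.subset_span ⟨i, rfl⟩⟩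
    rw [LinearMap.comp_apply, Submodule.subtype_apply] at h1
    rw [h1]
    exact hli.repr_eq_single i _ rfl
  have hψφ : ∀ (x : K') i, ψ (φ x) i = algebraMap K L (b.repr x i) := by
    intro x i
    have hx : φ x = ∑ j, algebraMap K L (b.repr x j) • φ (b j) := by
      conv_lhs => rw [← b.sum_repr x]
      rw [map_sum]
      apply Finset.sum_congr rfl
      intro j _
      rw [map_smul, algebraMap_smul]
    rw [hx, map_sum, Finsupp.finset_sum_apply]
    simp only [map_smul, hψv, Finsupp.smul_apply, Finsupp.single_apply, smul_eq_mul, mul_ite,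
      mul_one, mul_zero]
    rw [Finset.sum_ite_eq' Finset.univ i]
    simp
  -- finite extension
  let T : Set Ω := Set.range (algebraMap K' Ω ∘ b)
  let L'' : IntermediateField L Ω := IntermediateField.adjoin L T
  haveI : FiniteDimensional L L'' :=
    IntermediateField.finiteDimensional_adjoin (fun x _ => Algebra.IsIntegral.isIntegral x)
  have hφL : ∀ x : K', φ x ∈ L'' := by
    intro x
    have hx : φ x = ∑ j, algebraMap K L (b.repr x j) • φ (b j) := by
      conv_lhs => rw [← b.sum_repr x]
      rw [map_sum]
      apply Finset.sum_congr rfl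
      intro j _
      rw [map_smul, algebraMap_smul]
    rw [hx]
    apply sum_mem
    intro j _
    rw [Algebra.smul_def]
    apply mul_mem
    · exact L''.algebraMap_mem _
    · exact IntermediateField.subset_adjoin L T ⟨j, rfl⟩
  -- integral closure of B
  have hfin : Module.Finite B (integralClosure B L'') := hB L L''
  obtain ⟨G, hG⟩ := hfin.fg_top
  -- common denominator
  let s : Finset L := (G ×ˢ (Finset.univ : Finset (Fin (Module.finrank K K')))).image
    (fun gi => ψ ((gi.1 : L'') : Ω) gi.2)
  obtain ⟨d, hd⟩ := IsLocalization.exist_integer_multiples_of_finset (nonZeroDivisors B) s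
  have hd0 : (d : B) ≠ 0 := nonZeroDivisors.ne_zero d.2
  obtain ⟨a₀, ha₀, hda⟩ := exists_dvd_map hinj hd0
  -- the B-submodule of good elements
  let N : Submodule B L :=
    { carrier := {x | algebraMap B L (d : B) * x ∈ Set.range (algebraMap B L)}
      add_mem' := by
        rintro x y ⟨u, hu⟩ ⟨v, hv⟩
        exact ⟨u + v, by rw [map_add, hu, hv, mul_add]⟩
      zero_mem' := ⟨0, by rw [map_zero, mul_zero]⟩
      smul_mem' := by
        rintro c x ⟨u, hu⟩
        exact ⟨c * u, by rw [map_mul, hu, Algebra.smul_def]; ring⟩ }
  have hN : ∀ (y : integralClosure B L'') i, ψ ((y : L'') : Ω) i ∈ N := by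
    intro y i
    let ℓ : (integralClosure B L'') →ₗ[B] L :=
      { toFun := fun y => ψ ((y : L'') : Ω) i
        map_add' := by
          intro x y
          simp
        map_smul' := by
          intro c y
          simp only [RingHom.id_apply]
          have : (((c • y : integralClosure B L'') : L'') : Ω) = algebraMap B L c • ((y : L'') : Ω) := by
            rw [algebraMap_smul]
            rfl
          rw [this, map_smul, Finsupp.smul_apply, Algebra.smul_def, Algebra.smul_def]
          rfl }
    have hy : y ∈ Submodule.span B (G : Set (integralClosure B L'')) := by rw [hG]; trivial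
    have : ℓ y ∈ N := by
      have hle : Submodule.span B (G : Set (integralClosure B L'')) ≤ N.comap ℓ := by
        rw [Submodule.span_le]
        intro g hg
        show algebraMap B L (d : B) * ψ ((g : L'') : Ω) i ∈ Set.range (algebraMap B L)
        have hmem : ψ ((g : L'') : Ω) i ∈ s := by
          apply Finset.mem_image.2
          exact ⟨(g, i), Finset.mem_product.2 ⟨hg, Finset.mem_univ i⟩, rfl⟩
        obtain ⟨c, hc⟩ := hd _ hmem
        exact ⟨c, by rw [hc, Algebra.smul_def]⟩
      exact hle hy
    exact this
  -- key containment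
  have key : ∀ x ∈ integralClosure A K', ∀ i,
      algebraMap A K a₀ * b.repr x i ∈ Set.range (algebraMap A K) := by
    intro x hx i
    have hint : IsIntegral B (⟨φ x, hφL x⟩ : L'') := by
      have h1 : IsIntegral A (φ x) := IsIntegral.map (φ.restrictScalars A) hx
      have h2 : IsIntegral B (φ x) := h1.tower_top
      haveI : IsScalarTower B L'' Ω := IsScalarTower.of_algebraMap_eq (fun x => rfl)
      exact (isIntegral_algebraMap_iff (FaithfulSMul.algebraMap_injective L'' Ω)).1 h2
    have h2 : algebraMap B L (d : B) * ψ (φ x) i ∈ Set.range (algebraMap B L) := hN ⟨_, hint⟩ i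
    rw [hψφ] at h2
    obtain ⟨c, hc⟩ := hda
    obtain ⟨w, hw⟩ := h2
    apply inter_eq (B := B) (L := L)
    refine ⟨c * w, ?_⟩
    rw [map_mul, map_mul, hw, ← IsScalarTower.algebraMap_apply A K L,
      IsScalarTower.algebraMap_apply A B L, hc, map_mul]
    ring
  -- the embedding into a finite module
  let Θ : K' →ₗ[A] (Fin (Module.finrank K K') → K) :=
    (algebraMap A K a₀) • ((b.equivFun : K' →ₗ[K] (Fin (Module.finrank K K') → K)).restrictScalars A)
  have hΘ : Function.Injective Θ := by
    intro x y hxy
    have h0 : algebraMap A K a₀ ≠ 0 := by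
      rw [Ne, map_eq_zero_iff _ (IsFractionRing.injective A K)]; exact ha₀
    have : b.equivFun x = b.equivFun y := by
      have h1 : (algebraMap A K a₀) • b.equivFun x = (algebraMap A K a₀) • b.equivFun y := hxy
      exact smul_right_injective _ h0 h1
    exact b.equivFun.injective this
  let ι₀ : (Fin (Module.finrank K K') → A) →ₗ[A] (Fin (Module.finrank K K') → K) :=
    LinearMap.pi (fun i => (Algebra.linearMap A K).comp (LinearMap.proj i))
  let P : Submodule A (Fin (Module.finrank K K') → K) := LinearMap.range ι₀
  haveI : Module.Finite A P := Module.Finite.range ι₀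
  have hmem : ∀ x : integralClosure A K', Θ (x : K') ∈ P := by
    intro x
    have h1 := key x x.2
    choose c hc using h1
    refine ⟨c, ?_⟩
    ext i
    simp only [ι₀, LinearMap.pi_apply, LinearMap.comp_apply, LinearMap.proj_apply,
      Algebra.linearMap_apply, hc i, Θ]
    simp [Algebra.smul_def]
  let f : integralClosure A K' →ₗ[A] P :=
    LinearMap.codRestrict P (Θ.comp (integralClosure A K').toSubmodule.subtype) hmem
  have hf : Function.Injective f := by
    intro x y hxy
    have : Θ (x : K') = Θ (y : K') := congrArg Subtype.val hxy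
    exact Subtype.ext (hΘ this)
  exact Module.Finite.of_injective f hf


theorem finite_normal (hinj : Function.Injective (algebraMap A B)) [Algebra.IsSeparable K L]
    (hB : N2' B)
    (N : Type u) [Field N] [Algebra K N] [Algebra A N] [IsScalarTower A K N]
    [FiniteDimensional K N] [Normal K N] : Module.Finite A (integralClosure A N) := by
  let F₀ : IntermediateField K N := IntermediateField.fixedField (⊤ : Subgroup (N ≃ₐ[K] N))
  haveI : IsPurelyInseparable K F₀ := fixed_purelyInsep K N
  haveI : IsGalois F₀ N := fixed_galois K N
  haveI hA₀ : Module.Finite A (integralClosure A F₀) :=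
    finite_purelyInsep (A := A) (B := B) (K := K) (L := L) hinj hB F₀
  haveI : IsFractionRing (integralClosure A F₀) F₀ :=
    integralClosure.isFractionRing_of_finite_extension K F₀
  haveI : IsIntegrallyClosed (integralClosure A F₀) :=
    integralClosure.isIntegrallyClosedOfFiniteExtension K
  haveI : IsScalarTower (integralClosure A F₀) F₀ N := inferInstance
  haveI : IsScalarTower A F₀ N := IsScalarTower.of_algebraMap_eq (fun x => rfl)
  haveI : IsScalarTower A (integralClosure A F₀) N :=
    IsScalarTower.of_algebraMap_eq (fun x => IsScalarTower.algebraMap_apply A F₀ N x)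
  exact finite_of_tower A (integralClosure A F₀) F₀ N


theorem finite_general (hinj : Function.Injective (algebraMap A B)) [Algebra.IsSeparable K L]
    (hB : N2' B)
    (E : Type u) [Field E] [Algebra K E] [Algebra A E] [IsScalarTower A K E]
    [FiniteDimensional K E] : Module.Finite A (integralClosure A E) := by
  haveI : IsAlgClosure K (AlgebraicClosure E) := IsAlgClosure.ofAlgebraic K E (AlgebraicClosure E)
  haveI : Normal K (AlgebraicClosure E) := IsAlgClosure.normal K (AlgebraicClosure E)
  let N : IntermediateField K (AlgebraicClosure E) :=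
    IntermediateField.normalClosure K E (AlgebraicClosure E)
  haveI : Normal K N := normalClosure.normal K E (AlgebraicClosure E)
  haveI : FiniteDimensional K N :=
    normalClosure.is_finiteDimensional K E (AlgebraicClosure E)
  haveI : Module.Finite A (integralClosure A N) :=
    finite_normal (A := A) (B := B) (K := K) (L := L) hinj hB N
  letI : Algebra E N := normalClosure.algebra K E (AlgebraicClosure E)
  haveI : IsScalarTower K E N := inferInstance
  haveI : IsScalarTower A E N := by
    apply IsScalarTower.of_algebraMap_eq
    intro x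
    rw [IsScalarTower.algebraMap_apply A K N, IsScalarTower.algebraMap_apply A K E,
      ← IsScalarTower.algebraMap_apply K E N]
  have hmem : ∀ x : integralClosure A E, algebraMap E N (x : E) ∈ integralClosure A N :=
    fun x => IsIntegral.map (IsScalarTower.toAlgHom A E N) x.2
  let f : integralClosure A E →ₗ[A] integralClosure A N :=
    LinearMap.codRestrict (integralClosure A N).toSubmodule
      ((IsScalarTower.toAlgHom A E N).toLinearMap.comp (integralClosure A E).toSubmodule.subtype)
      hmem
  have hf : Function.Injective f := by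
    intro x y hxy
    have h1 : algebraMap E N (x : E) = algebraMap E N (y : E) := congrArg Subtype.val hxy
    exact Subtype.ext ((algebraMap E N).injective h1)
  exact Module.Finite.of_injective f hf

theorem n2at (hinj : Function.Injective (algebraMap A B)) [Algebra.IsSeparable K L]
    (hB : N2' B) : N2at A K :=
  fun E _ _ _ _ _ => finite_general (A := A) (B := B) (K := K) (L := L) hinj hB E

end PI

end Nag
end Groth.Agent.Helper9.EtRamLib
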