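import Mathlib
import Groth.Prelude.Def_EtRam

set_option autoImplicit false
set_option linter.style.haveILetI false
set_option linter.unusedSectionVars false

/-!
# Artin–Schreier generators and the expansion lemma (helper9)
-/

namespace Groth.Agent.Helper9.EtRamLib

universe u

namespace ASgen
open Polynomial


/-- Artin–Schreier: a Galois extension of degree `p` in characteristic `p` is generated by a root
of `z^p - z = ξ`. -/
theorem exists_AS_gen (p : ℕ) [hp : Fact p.Prime] (L M : Type u) [Field L] [Field M] [Algebra L M]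
    [CharP L p] [IsGalois L M] (hdeg : Module.finrank L M = p) :
    ∃ (z : M) (ξ : L), z ^ p - z = algebraMap L M ξ ∧ IntermediateField.adjoin L {z} = ⊤ := by
  classical
  haveI : FiniteDimensional L M := Module.finite_of_finrank_pos (by rw [hdeg]; exact hp.out.pos)
  haveI : CharP M p := charP_of_injective_algebraMap (algebraMap L M).injective p
  have hcard : Nat.card (M ≃ₐ[L] M) = p := by rw [IsGalois.card_aut_eq_finrank, hdeg]
  have hcyc : IsCyclic (M ≃ₐ[L] M) := isCyclic_of_prime_card hcard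
  let e : (M ≃ₐ[L] M) ≃* Multiplicative (ZMod (Nat.card (M ≃ₐ[L] M))) :=
    (zmodCyclicMulEquiv hcyc).symm
  let r : ZMod (Nat.card (M ≃ₐ[L] M)) ≃+* ZMod p := ZMod.ringEquivCongr hcard
  let c : (M ≃ₐ[L] M) → ZMod p := fun τ => r (Multiplicative.toAdd (e τ))
  have hc_mul : ∀ ρ τ, c (ρ * τ) = c ρ + c τ := by
    intro ρ τ
    simp only [c, map_mul, toAdd_mul, map_add]
  have hc_surj : Function.Surjective c := by
    intro i
    refine ⟨e.symm (Multiplicative.ofAdd (r.symm i)), ?_⟩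
    simp [c]
  let ι : ZMod p →+* M := ZMod.castHom (dvd_refl p) M
  have hfix : ∀ (ρ : M ≃ₐ[L] M) (i : ZMod p), ρ (ι i) = ι i := by
    intro ρ i
    have : (ρ : M →+* M).comp ι = ι := RingHom.ext_zmod _ _
    exact RingHom.congr_fun this i
  obtain ⟨θ, hθ⟩ := Algebra.trace_surjective L M 1
  have htr : ∑ τ : M ≃ₐ[L] M, τ θ = 1 := by
    rw [← trace_eq_sum_automorphisms, hθ, map_one]
  let z : M := ∑ τ : M ≃ₐ[L] M, ι (c τ) * τ θ
  have hz : ∀ ρ : M ≃ₐ[L] M, ρ z = z - ι (c ρ) := by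
    intro ρ
    have h1 : ρ z = ∑ τ : M ≃ₐ[L] M, ι (c τ) * (ρ * τ) θ := by
      simp only [z, map_sum, map_mul, hfix, AlgEquiv.mul_apply]
    have h2 : ∑ τ : M ≃ₐ[L] M, ι (c τ) * (ρ * τ) θ
        = ∑ τ : M ≃ₐ[L] M, ι (c (ρ⁻¹ * τ)) * τ θ := by
      apply Fintype.sum_equiv (Equiv.mulLeft ρ)
      intro τ
      simp
    rw [h1, h2]
    have h3 : ∀ τ, ι (c (ρ⁻¹ * τ)) * τ θ = ι (c τ) * τ θ - ι (c ρ) * τ θ := by
      intro τ
      have : c (ρ⁻¹ * τ) = c τ - c ρ := by
        have h4 := hc_mul ρ (ρ⁻¹ * τ)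
        rw [mul_inv_cancel_left] at h4
        rw [h4]; ring
      rw [this, map_sub, sub_mul]
    simp only [h3, Finset.sum_sub_distrib, ← Finset.mul_sum, htr, mul_one, z]
  have hzp : ∀ ρ : M ≃ₐ[L] M, ρ (z ^ p - z) = z ^ p - z := by
    intro ρ
    rw [map_sub, map_pow, hz, sub_pow_char, ← map_pow, ZMod.pow_card]
    ring
  obtain ⟨ξ, hξ⟩ := (IsGalois.mem_range_algebraMap_iff_fixed (z ^ p - z)).2 hzp
  refine ⟨z, ξ, hξ.symm, ?_⟩
  haveI := IntermediateField.isSimpleOrder_of_finrank_prime L M (by rw [hdeg]; exact hp.out)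
  rcases eq_bot_or_eq_top (IntermediateField.adjoin L {z}) with h | h
  · exfalso
    have hzmem : z ∈ (⊥ : IntermediateField L M) := by
      rw [← h]; exact IntermediateField.mem_adjoin_simple_self L z
    obtain ⟨ρ, hρ⟩ := hc_surj 1
    have h5 := (IsGalois.mem_bot_iff_fixed z).1 hzmem ρ
    rw [hz, hρ, map_one] at h5
    have : (1 : M) = 0 := by linear_combination -h5
    exact one_ne_zero this
  · exact h

end ASgen

namespace Epp
open IsLocalRing


section Res
variable (p : ℕ) [hp : Fact p.Prime] {A B : Type u} [CommRing A] [IsLocalRing A]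
  [CommRing B] [IsLocalRing B] [Algebra A B] [IsLocalHom (algebraMap A B)]
  [CharP (ResidueField B) p]
  (hk : ∀ x : ResidueField B, (∀ n : ℕ, ∃ y : ResidueField B, y ^ (p ^ n) = x) ↔
      x ∈ Set.range (algebraMap (ResidueField A) (ResidueField B)))

include hk in
/-- `k` is closed under `p`-th roots. -/
lemma root_mem {β : ResidueField B}
    (hβ : β ∈ Set.range (algebraMap (ResidueField A) (ResidueField B))) :
    ∃ γ ∈ Set.range (algebraMap (ResidueField A) (ResidueField B)), γ ^ p = β := by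
  have h1 := (hk β).2 hβ
  obtain ⟨y₁, hy₁⟩ := h1 1
  rw [pow_one] at hy₁
  refine ⟨y₁, (hk y₁).1 ?_, hy₁⟩
  intro n
  obtain ⟨w, hw⟩ := h1 (n + 1)
  refine ⟨w, ?_⟩
  have : (w ^ p ^ n) ^ p = y₁ ^ p := by
    rw [← pow_mul, ← pow_succ, hw, hy₁]
  exact frobenius_inj (ResidueField B) p this

include hk in
/-- outside `k`, finite `p`-divisibility. -/
lemma exists_max_root {β : ResidueField B}
    (hβ : β ∉ Set.range (algebraMap (ResidueField A) (ResidueField B))) :
    ∃ (m : ℕ) (γ : ResidueField B), γ ^ (p ^ m) = β ∧ ¬ ∃ δ : ResidueField B, δ ^ p = γ := by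
  classical
  have h1 : ¬ ∀ n : ℕ, ∃ y : ResidueField B, y ^ (p ^ n) = β := fun h => hβ ((hk β).1 h)
  push Not at h1
  have h0 : ∃ n, ∀ y : ResidueField B, y ^ (p ^ n) ≠ β := h1
  let n := Nat.find h0
  have hn : ∀ y : ResidueField B, y ^ (p ^ n) ≠ β := Nat.find_spec h0
  have hn0 : n ≠ 0 := by
    intro h
    have := hn β
    rw [h, pow_zero, pow_one] at this
    exact this rfl
  obtain ⟨m, hm⟩ : ∃ m, n = m + 1 := ⟨n - 1, by omega⟩
  have hmin : ¬ ∀ y : ResidueField B, y ^ (p ^ m) ≠ β := Nat.find_min h0 (by omega)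
  push Not at hmin
  obtain ⟨γ, hγ⟩ := hmin
  refine ⟨m, γ, hγ, ?_⟩
  rintro ⟨δ, hδ⟩
  apply hn δ
  rw [hm, pow_succ', pow_mul, hδ, hγ]

end Res

section EL
variable (p : ℕ) [hp : Fact p.Prime] {A B : Type u} (L : Type u) [CommRing A] [IsLocalRing A]
  [CommRing B] [IsLocalRing B] [Algebra A B] [Field L] [Algebra B L] [CharP L p] (π : A)

/-- condition on a stuck term at index `i`. -/
def StuckOK (i : ℕ) (t : B) (m : ℕ) : Prop :=
  t = 0 ∨ ((¬ ∃ r : ResidueField B, residue B t = r ^ p) ∧ (m = 0 ∨ ¬ p ∣ i))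

/-- condition on a `K`-term at index `i`. -/
def KOK (i : ℕ) (a : A) : Prop := a = 0 ∨ (IsUnit a ∧ ¬ p ∣ i)

/-- the value of the `i`-th term. -/
noncomputable def term (i : ℕ) (t : B) (m : ℕ) (a : A) : L :=
  (algebraMap B L (algebraMap A B π) ^ i)⁻¹ * algebraMap B L (t ^ p ^ m + algebraMap A B a)

/-- expansion data at level `n`. -/
def ELdata (n : ℕ) (ξ : L) : Prop :=
  ∃ (y : L) (t : ℕ → B) (m : ℕ → ℕ) (a : ℕ → A) (b₀ : B),
    ξ = y ^ p - y + ∑ i ∈ Finset.Icc 1 n, term p (B := B) L π i (t i) (m i) (a i) + algebraMap B L b₀ ∧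
    ∀ i ∈ Finset.Icc 1 n, StuckOK p i (t i) (m i) ∧ KOK p i (a i)

variable {L}

lemma ELdata_zero (b : B) : ELdata p (B := B) L π 0 (algebraMap B L b) := by
  refine ⟨0, fun _ => 0, fun _ => 0, fun _ => 0, b, ?_, ?_⟩
  · simp [zero_pow hp.out.ne_zero]
  · intro i hi
    simp at hi

lemma ELdata_succ {n : ℕ} {ξ' : L} (h : ELdata p (B := B) L π n ξ') (t₀ : B) (m₀ : ℕ) (a₀ : A)
    (h1 : StuckOK p (n + 1) t₀ m₀) (h2 : KOK p (n + 1) a₀) :
    ELdata p (B := B) L π (n + 1) (ξ' + term p (B := B) L π (n + 1) t₀ m₀ a₀) := by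
  classical
  obtain ⟨y, t, m, a, b₀, hξ, hc⟩ := h
  refine ⟨y, Function.update t (n + 1) t₀, Function.update m (n + 1) m₀,
    Function.update a (n + 1) a₀, b₀, ?_, ?_⟩
  · rw [Finset.sum_Icc_succ_top (by omega)]
    simp only [Function.update_self]
    have : ∑ i ∈ Finset.Icc 1 n, term p (B := B) L π i (Function.update t (n + 1) t₀ i)
        (Function.update m (n + 1) m₀ i) (Function.update a (n + 1) a₀ i)
        = ∑ i ∈ Finset.Icc 1 n, term p (B := B) L π i (t i) (m i) (a i) := by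
      apply Finset.sum_congr rfl
      intro i hi
      have hne : i ≠ n + 1 := by
        have := (Finset.mem_Icc.1 hi).2
        omega
      rw [Function.update_of_ne hne, Function.update_of_ne hne, Function.update_of_ne hne]
    rw [this, hξ]
    ring
  · intro i hi
    by_cases hne : i = n + 1
    · subst hne
      simp only [Function.update_self]
      exact ⟨h1, h2⟩
    · rw [Function.update_of_ne hne, Function.update_of_ne hne, Function.update_of_ne hne]
      apply hc
      have := Finset.mem_Icc.1 hi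
      exact Finset.mem_Icc.2 ⟨this.1, by omega⟩

lemma ELdata_wp {n : ℕ} {ξ : L} (h : ELdata p (B := B) L π n ξ) (w : L) :
    ELdata p (B := B) L π n (ξ + (w ^ p - w)) := by
  obtain ⟨y, t, m, a, b₀, hξ, hc⟩ := h
  refine ⟨y + w, t, m, a, b₀, ?_, hc⟩
  rw [add_pow_char, hξ]
  ring

lemma term_zero (i : ℕ) (m : ℕ) : term p (B := B) L π i (0 : B) m (0 : A) = 0 := by
  simp [term, zero_pow (pow_ne_zero m hp.out.ne_zero)]

lemma ELdata_succ_zero {n : ℕ} {ξ : L} (h : ELdata p (B := B) L π n ξ) : ELdata p (B := B) L π (n + 1) ξ := by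
  have := ELdata_succ p π h 0 0 0 (Or.inl rfl) (Or.inl rfl)
  rwa [term_zero, add_zero] at this

end EL

section Main
variable (p : ℕ) [hp : Fact p.Prime] {A B : Type u} {L : Type u} [CommRing A] [IsLocalRing A]
  [CommRing B] [IsLocalRing B] [IsDomain B] [Algebra A B] [IsLocalHom (algebraMap A B)]
  [Field L] [Algebra B L] [IsFractionRing B L] [CharP L p] (π : A)
  (hπA : maximalIdeal A = Ideal.span {π})
  (hπB : maximalIdeal B = Ideal.span {algebraMap A B π}) (hπ0 : algebraMap A B π ≠ 0)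
  [CharP (ResidueField B) p]
  (hk : ∀ x : ResidueField B, (∀ n : ℕ, ∃ y : ResidueField B, y ^ (p ^ n) = x) ↔
      x ∈ Set.range (algebraMap (ResidueField A) (ResidueField B)))

local notation "ϖL" => algebraMap B L (algebraMap A B π)

include hπ0 in
lemma varpiL_ne : ϖL ≠ 0 := by
  rw [Ne, map_eq_zero_iff _ (IsFractionRing.injective B L)]
  exact hπ0

include hπB hπ0 in
/-- peel off the top coefficient. -/
lemma peel {n : ℕ} {ξ : L} {b c : B} (hb : ξ * ϖL ^ (n + 1) = algebraMap B L b)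
    (hc : residue B c = residue B b) :
    ∃ d : B, (ξ - (ϖL ^ (n + 1))⁻¹ * algebraMap B L c) * ϖL ^ n = algebraMap B L d := by
  have h0 := varpiL_ne (L := L) π hπ0
  have h1 : b - c ∈ maximalIdeal B := by
    rw [← residue_eq_zero_iff, map_sub, hc, sub_self]
  rw [hπB, Ideal.mem_span_singleton] at h1
  obtain ⟨d, hd⟩ := h1
  refine ⟨d, ?_⟩
  have h2 : (ξ - (ϖL ^ (n + 1))⁻¹ * algebraMap B L c) * ϖL ^ (n + 1)
      = ϖL * algebraMap B L d := by
    have h4 : (ϖL ^ (n + 1))⁻¹ * algebraMap B L c * ϖL ^ (n + 1) = algebraMap B L c := by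
      field_simp
    rw [sub_mul, hb, h4, ← map_sub, hd, map_mul]
  rw [pow_succ, ← mul_assoc] at h2
  have h3 : (ξ - (ϖL ^ n * ϖL)⁻¹ * algebraMap B L c) * ϖL ^ n * ϖL
      = algebraMap B L d * ϖL := by rw [h2]; ring
  rw [pow_succ]
  exact mul_right_cancel₀ h0 h3

include hπ0 in
lemma shift_mem {n j : ℕ} (hj : j ≤ n) (x : B) :
    ∃ d : B, ((ϖL ^ j)⁻¹ * algebraMap B L x) * ϖL ^ n = algebraMap B L d := by
  have h0 := varpiL_ne (L := L) π hπ0
  refine ⟨algebraMap A B π ^ (n - j) * x, ?_⟩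
  obtain ⟨k, rfl⟩ := Nat.exists_eq_add_of_le hj
  rw [Nat.add_sub_cancel_left, map_mul, map_pow, pow_add]
  field_simp

include hπA hπB hπ0 hk in
theorem EL_main : ∀ (n : ℕ) (ξ : L),
    (∃ b : B, ξ * ϖL ^ n = algebraMap B L b) → ELdata p (B := B) L π n ξ := by
  have h0 := varpiL_ne (L := L) π hπ0
  intro n
  induction n with
  | zero =>
    rintro ξ ⟨b, hb⟩
    rw [pow_zero, mul_one] at hb
    rw [hb]
    exact ELdata_zero p π b
  | succ n ih =>
    rintro ξ ⟨b, hb⟩
    by_cases hβ0 : residue B b = 0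
    · -- zero coefficient
      have := peel π hπB hπ0 hb (c := 0) (by rw [map_zero, hβ0])
      rw [map_zero, mul_zero, sub_zero] at this
      exact ELdata_succ_zero p π (ih ξ this)
    by_cases hβk : residue B b ∈ Set.range (algebraMap (ResidueField A) (ResidueField B))
    · -- coefficient in `k`
      obtain ⟨α, hα⟩ := hβk
      by_cases hpn : p ∣ n + 1
      · obtain ⟨j, hj⟩ := hpn
        obtain ⟨γ, ⟨γ', hγ'⟩, hγ⟩ := root_mem p hk ⟨α, hα⟩
        obtain ⟨a₁, ha₁⟩ := residue_surjective γ'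
        have hc : residue B (algebraMap A B (a₁ ^ p)) = residue B b := by
          rw [← ResidueField.algebraMap_residue, map_pow, map_pow, ha₁, hγ', hγ]
        obtain ⟨d, hd⟩ := peel π hπB hπ0 hb hc
        have hjn : j ≤ n := by
          have hp2 := hp.out.two_le
          nlinarith
        obtain ⟨d', hd'⟩ := shift_mem (L := L) π hπ0 hjn (algebraMap A B a₁)
        have hih := ih (ξ - (ϖL ^ (n + 1))⁻¹ * algebraMap B L (algebraMap A B (a₁ ^ p))
          + (ϖL ^ j)⁻¹ * algebraMap B L (algebraMap A B a₁)) ⟨d + d', by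
            rw [add_mul, hd, hd', map_add]⟩
        have h2 := ELdata_wp p π (ELdata_succ_zero p π hih)
          ((ϖL ^ j)⁻¹ * algebraMap B L (algebraMap A B a₁))
        convert h2 using 1
        have hpow : (algebraMap B L (algebraMap A B a₁)) ^ p
            = algebraMap B L (algebraMap A B (a₁ ^ p)) := by
          rw [map_pow, map_pow]
        have hϖ : (ϖL ^ j) ^ p = ϖL ^ (n + 1) := by rw [← pow_mul, mul_comm, ← hj]
        rw [mul_pow, inv_pow, hϖ, hpow]
        ring
      · obtain ⟨a₀, ha₀⟩ := residue_surjective α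
        have hc : residue B (algebraMap A B a₀) = residue B b := by
          rw [← ResidueField.algebraMap_residue, ha₀, hα]
        obtain ⟨d, hd⟩ := peel π hπB hπ0 hb hc
        have hih := ih _ ⟨d, hd⟩
        have hunit : IsUnit a₀ := by
          rw [← residue_ne_zero_iff_isUnit, ha₀]
          intro h
          apply hβ0
          rw [← hα, h, map_zero]
        have h2 := ELdata_succ p π hih 0 0 a₀ (Or.inl rfl) (Or.inr ⟨hunit, hpn⟩)
        convert h2 using 1
        simp only [term, zero_pow (pow_ne_zero 0 hp.out.ne_zero), zero_add]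
        ring
    · -- coefficient outside `k`
      obtain ⟨m, γ, hγ, hγp⟩ := exists_max_root p hk hβk
      obtain ⟨t₀, ht₀⟩ := residue_surjective γ
      have hc : residue B (t₀ ^ p ^ m) = residue B b := by
        rw [map_pow, ht₀, hγ]
      obtain ⟨d, hd⟩ := peel π hπB hπ0 hb hc
      by_cases hcase : m = 0 ∨ ¬ p ∣ n + 1
      · have hih := ih _ ⟨d, hd⟩
        have h2 := ELdata_succ p π hih t₀ m 0 (Or.inr ⟨by rw [ht₀]; exact fun ⟨r, hr⟩ => hγp ⟨r, hr.symm⟩, hcase⟩)
          (Or.inl rfl)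
        convert h2 using 1
        simp only [term, map_zero, add_zero]
        ring
      · push Not at hcase
        obtain ⟨hm0, j, hj⟩ := hcase
        obtain ⟨m', rfl⟩ : ∃ m', m = m' + 1 := ⟨m - 1, by omega⟩
        have hjn : j ≤ n := by
          have hp2 := hp.out.two_le
          nlinarith
        obtain ⟨d', hd'⟩ := shift_mem (L := L) π hπ0 hjn (t₀ ^ p ^ m')
        have hih := ih (ξ - (ϖL ^ (n + 1))⁻¹ * algebraMap B L (t₀ ^ p ^ (m' + 1))
          + (ϖL ^ j)⁻¹ * algebraMap B L (t₀ ^ p ^ m')) ⟨d + d', by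
            rw [add_mul, hd, hd', map_add]⟩
        have h2 := ELdata_wp p π (ELdata_succ_zero p π hih)
          ((ϖL ^ j)⁻¹ * algebraMap B L (t₀ ^ p ^ m'))
        convert h2 using 1
        have hpow : (algebraMap B L (t₀ ^ p ^ m')) ^ p = algebraMap B L (t₀ ^ p ^ (m' + 1)) := by
          rw [← map_pow, ← pow_mul, ← pow_succ]
        have hϖ : (ϖL ^ j) ^ p = ϖL ^ (n + 1) := by rw [← pow_mul, mul_comm, ← hj]
        rw [mul_pow, inv_pow, hϖ, hpow]
        ring

end Main
end Epp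

end Groth.Agent.Helper9.EtRamLib
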