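import Mathlib

set_option autoImplicit false
set_option linter.style.haveILetI false
set_option linter.unusedSectionVars false

/-!
# Reduction of Artin–Schreier classes after a totally ramified base change (helper9)
-/

namespace Groth.Agent.Helper9.EtRamLib
namespace Epp

universe u

section Red
variable (p : ℕ) [hp : Fact p.Prime] {F : Type u} [Field F] [CharP F p] (R : Subring F)

/-- Artin–Schreier classes modulo integral elements: `℘(F) + R`. -/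
def E : AddSubgroup F where
  carrier := {z | ∃ y : F, ∃ r ∈ R, z = y ^ p - y + r}
  add_mem' := by
    rintro _ _ ⟨y, r, hr, rfl⟩ ⟨y', r', hr', rfl⟩
    exact ⟨y + y', r + r', R.add_mem hr hr', by rw [add_pow_char]; ring⟩
  zero_mem' := ⟨0, 0, R.zero_mem, by simp [zero_pow hp.out.ne_zero]⟩
  neg_mem' := by
    rintro _ ⟨y, r, hr, rfl⟩
    refine ⟨-y, -r, R.neg_mem hr, ?_⟩
    have : (-y) ^ p = -(y ^ p) := by
      rw [neg_pow, neg_one_pow_char F p]; ring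
    rw [this]; ring

variable {p R}

lemma mem_E_of_mem {r : F} (hr : r ∈ R) : r ∈ E p R := ⟨0, r, hr, by simp [zero_pow hp.out.ne_zero]⟩

lemma wp_mem_E (y : F) : y ^ p - y ∈ E p R := ⟨y, 0, R.zero_mem, by ring⟩

lemma pow_sub_mem_E (X : F) (m : ℕ) : X ^ p ^ m - X ∈ E p R := by
  induction m with
  | zero => simp
  | succ m ih =>
    have : X ^ p ^ (m + 1) - X = ((X ^ p ^ m) ^ p - X ^ p ^ m) + (X ^ p ^ m - X) := by
      rw [← pow_mul, ← pow_succ]; ring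
    rw [this]
    exact (E p R).add_mem (wp_mem_E _) ih

variable {x ϖ w w' : F} {N n₀ : ℕ}
  (hx : x ∈ R) (hx0 : x ≠ 0) (hϖ : ϖ ∈ R) (hw : w ∈ R) (hw' : w' ∈ R) (hww' : w * w' = 1)
  (hϖx : ϖ = x ^ (p ^ N) * w') (hw1 : ∃ r ∈ R, w = 1 + ϖ ^ n₀ * r)

include hϖ hw1 in
lemma w_pow (i : ℕ) : ∃ r ∈ R, w ^ i = 1 + ϖ ^ n₀ * r := by
  obtain ⟨r, hr, hwr⟩ := hw1
  induction i with
  | zero => exact ⟨0, R.zero_mem, by simp⟩
  | succ i ih =>
    obtain ⟨ri, hri, hi⟩ := ih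
    refine ⟨ri + r + ϖ ^ n₀ * ri * r, ?_, ?_⟩
    · exact R.add_mem (R.add_mem hri hr) (R.mul_mem (R.mul_mem (R.pow_mem hϖ _) hri) hr)
    · rw [pow_succ, hi, hwr]; ring

include hx0 hww' hϖx in
lemma varpi_ne : ϖ ≠ 0 := by
  rw [hϖx]
  apply mul_ne_zero (pow_ne_zero _ hx0)
  exact right_ne_zero_of_mul_eq_one hww'

include hx hx0 hϖ hw hw' hww' hϖx hw1 in
/-- (T1) -/
lemma T1 {t : F} (ht : t ∈ R) {i m : ℕ} (hi : i ≤ n₀) (hm : m ≤ N) :
    (ϖ ^ i)⁻¹ * t ^ p ^ m - (x ^ (i * p ^ (N - m)))⁻¹ * t ∈ E p R := by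
  have hϖ0 := varpi_ne hx0 hww' hϖx
  have hw0 : w ≠ 0 := left_ne_zero_of_mul_eq_one hww'
  have hw'0 : w' ≠ 0 := right_ne_zero_of_mul_eq_one hww'
  obtain ⟨ri, hri, hwi⟩ := w_pow hϖ hw1 i
  -- ϖ^{-i} = x^{-iq} w^i
  have h1 : (ϖ ^ i)⁻¹ = (x ^ (i * p ^ N))⁻¹ * w ^ i := by
    have hw'inv : w' = w⁻¹ := eq_inv_of_mul_eq_one_right hww'
    rw [hϖx, mul_pow, ← pow_mul, mul_comm (p ^ N) i, hw'inv, inv_pow, mul_inv, inv_inv]
  have hq : i * p ^ N = (i * p ^ (N - m)) * p ^ m := by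
    rw [mul_assoc, ← pow_add, Nat.sub_add_cancel hm]
  -- split
  have h2 : (ϖ ^ i)⁻¹ * t ^ p ^ m - (x ^ (i * p ^ (N - m)))⁻¹ * t
      = (((x ^ (i * p ^ (N - m)))⁻¹ * t) ^ p ^ m - (x ^ (i * p ^ (N - m)))⁻¹ * t)
        + (x ^ (i * p ^ N))⁻¹ * ϖ ^ n₀ * ri * t ^ p ^ m := by
    rw [h1, hwi, mul_pow, inv_pow, ← pow_mul, ← hq]
    ring
  rw [h2]
  refine (E p R).add_mem (pow_sub_mem_E _ m) (mem_E_of_mem ?_)
  -- integrality of the error term
  obtain ⟨k, rfl⟩ := Nat.exists_eq_add_of_le hi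
  have h3 : (x ^ (i * p ^ N))⁻¹ * ϖ ^ (i + k) = w' ^ i * ϖ ^ k := by
    have h5 : ϖ ^ i = x ^ (i * p ^ N) * w' ^ i := by
      rw [hϖx, mul_pow, ← pow_mul, mul_comm (p ^ N) i]
    rw [pow_add, h5]
    field_simp
  rw [h3]
  exact R.mul_mem (R.mul_mem (R.mul_mem (R.pow_mem hw' _) (R.pow_mem hϖ _)) hri) (R.pow_mem ht _)


variable (A' : Subring F) (hA'R : A' ≤ R)
  (hperf : ∀ a ∈ A', ∃ a₁ ∈ A', ∃ d ∈ A', a = a₁ ^ (p ^ N) + ϖ * d)

include hx hx0 hϖ hw hw' hww' hϖx hw1 hA'R hperf in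
/-- (TK) -/
lemma TK : ∀ (i : ℕ), i ≤ n₀ → ∀ a ∈ A', ∃ c ∈ R, (ϖ ^ i)⁻¹ * a - (x ^ i)⁻¹ * c ∈ E p R := by
  have hϖ0 := varpi_ne hx0 hww' hϖx
  intro i
  induction i with
  | zero =>
    intro _ a ha
    exact ⟨a, hA'R ha, by simp⟩
  | succ i ih =>
    intro hi a ha
    obtain ⟨a₁, ha₁, d, hd, had⟩ := hperf a ha
    obtain ⟨c', hc', hE⟩ := ih (by omega) d hd
    have hT := T1 hx hx0 hϖ hw hw' hww' hϖx hw1 (hA'R ha₁) hi (le_refl N)
    rw [Nat.sub_self, pow_zero, mul_one] at hT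
    refine ⟨a₁ + x * c', R.add_mem (hA'R ha₁) (R.mul_mem hx hc'), ?_⟩
    have : (ϖ ^ (i + 1))⁻¹ * a - (x ^ (i + 1))⁻¹ * (a₁ + x * c')
        = ((ϖ ^ (i + 1))⁻¹ * a₁ ^ p ^ N - (x ^ (i + 1))⁻¹ * a₁)
          + ((ϖ ^ i)⁻¹ * d - (x ^ i)⁻¹ * c') := by
      rw [had, pow_succ, pow_succ]
      field_simp
      ring
    rw [this]
    exact (E p R).add_mem hT hE

include hx hx0 hϖ hw hw' hww' hϖx hw1 hA'R hperf in
/-- the final normal form: a single leading term. -/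
theorem FIN {n : ℕ} (hn₀ : n ≤ n₀) {ξ y b₀ : F} {t a : ℕ → F} {m : ℕ → ℕ}
    (ht : ∀ i, t i ∈ R) (ha : ∀ i, a i ∈ A') (hb₀ : b₀ ∈ R)
    (hξ : ξ = y ^ p - y + ∑ i ∈ Finset.Icc 1 n, (ϖ ^ i)⁻¹ * (t i ^ p ^ m i + a i) + b₀)
    {i₀ : ℕ} (hi₀ : i₀ ∈ Finset.Icc 1 n) (hm₀ : m i₀ ≤ N)
    (hm : ∀ i ∈ Finset.Icc 1 n, t i = 0 ∨ m i ≤ N)
    (hlt : ∀ i ∈ Finset.Icc 1 n, i ≠ i₀ → t i = 0 ∨ i * p ^ (N - m i) < i₀ * p ^ (N - m i₀))
    (hn : n < i₀ * p ^ (N - m i₀)) :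
    ∃ (y₁ c : F), c ∈ R ∧ ξ = y₁ ^ p - y₁ + (x ^ (i₀ * p ^ (N - m i₀)))⁻¹ * c ∧
      ∃ r ∈ R, c = t i₀ + x * r := by
  classical
  set e₀ := i₀ * p ^ (N - m i₀) with he₀
  have hTK : ∀ i : ℕ, ∃ c ∈ R, i ≤ n₀ → (ϖ ^ i)⁻¹ * a i - (x ^ i)⁻¹ * c ∈ E p R := by
    intro i
    by_cases hi : i ≤ n₀
    · obtain ⟨c, hc, hcE⟩ := TK hx hx0 hϖ hw hw' hww' hϖx hw1 A' hA'R hperf i hi (a i) (ha i)
      exact ⟨c, hc, fun _ => hcE⟩
    · exact ⟨0, R.zero_mem, fun h => absurd h hi⟩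
  choose c hcR hcE using hTK
  -- the reduced terms
  let e : ℕ → ℕ := fun i => i * p ^ (N - m i)
  let s : ℕ → F := fun i => (x ^ e i)⁻¹ * t i + (x ^ i)⁻¹ * c i
  have hA : ξ - ∑ i ∈ Finset.Icc 1 n, s i ∈ E p R := by
    have h1 : ξ - ∑ i ∈ Finset.Icc 1 n, s i = (y ^ p - y)
        + ∑ i ∈ Finset.Icc 1 n, (((ϖ ^ i)⁻¹ * t i ^ p ^ m i - (x ^ e i)⁻¹ * t i)
          + ((ϖ ^ i)⁻¹ * a i - (x ^ i)⁻¹ * c i)) + b₀ := by
      rw [hξ]
      simp only [s, Finset.sum_add_distrib, Finset.sum_sub_distrib, mul_add]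
      ring
    rw [h1]
    refine (E p R).add_mem ((E p R).add_mem (wp_mem_E _) ?_) (mem_E_of_mem hb₀)
    apply AddSubgroup.sum_mem
    intro i hi
    have hin : i ≤ n₀ := le_trans (Finset.mem_Icc.1 hi).2 hn₀
    refine (E p R).add_mem ?_ (hcE i hin)
    rcases hm i hi with h0 | hmi
    · rw [h0, zero_pow (pow_ne_zero _ hp.out.ne_zero)]
      simp
    · exact T1 hx hx0 hϖ hw hw' hww' hϖx hw1 (ht i) hin hmi
  -- collect
  let d : ℕ → F := fun i => if t i = 0 then 0 else x ^ (e₀ - e i) * t i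
  have hd : ∀ i ∈ Finset.Icc 1 n, (x ^ e i)⁻¹ * t i = (x ^ e₀)⁻¹ * d i := by
    intro i hi
    simp only [d]
    split_ifs with h0
    · rw [h0]; simp
    · have hle : e i ≤ e₀ := by
        by_cases hii : i = i₀
        · rw [hii]
        · rcases hlt i hi hii with h | h
          · exact absurd h h0
          · exact le_of_lt h
      obtain ⟨k, hk⟩ := Nat.exists_eq_add_of_le hle
      rw [hk, Nat.add_sub_cancel_left, pow_add]
      field_simp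
  have hd' : ∀ i ∈ Finset.Icc 1 n, (x ^ i)⁻¹ * c i = (x ^ e₀)⁻¹ * (x ^ (e₀ - i) * c i) := by
    intro i hi
    have hle : i ≤ e₀ := le_trans (Finset.mem_Icc.1 hi).2 (le_of_lt hn)
    obtain ⟨k, hk⟩ := Nat.exists_eq_add_of_le hle
    rw [hk, Nat.add_sub_cancel_left, pow_add]
    field_simp
  have hB : ∑ i ∈ Finset.Icc 1 n, s i
      = (x ^ e₀)⁻¹ * ∑ i ∈ Finset.Icc 1 n, (d i + x ^ (e₀ - i) * c i) := by
    rw [Finset.mul_sum]
    apply Finset.sum_congr rfl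
    intro i hi
    simp only [s]
    rw [hd i hi, hd' i hi, mul_add]
  -- the sum is `t i₀ + x * r`
  have hC : ∃ r ∈ R, ∑ i ∈ Finset.Icc 1 n, (d i + x ^ (e₀ - i) * c i) = t i₀ + x * r := by
    have hterm : ∀ i ∈ Finset.Icc 1 n, ∃ r ∈ R,
        d i + x ^ (e₀ - i) * c i = (if i = i₀ then t i₀ else 0) + x * r := by
      intro i hi
      have hpos : 1 ≤ e₀ - i := by
        have := (Finset.mem_Icc.1 hi).2
        omega
      obtain ⟨k, hk⟩ := Nat.exists_eq_add_of_le hpos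
      by_cases hii : i = i₀
      · subst hii
        refine ⟨x ^ k * c i, R.mul_mem (R.pow_mem hx _) (hcR i), ?_⟩
        simp only [d, if_true]
        split_ifs with h0
        · rw [h0, hk, pow_add, pow_one]; ring
        · rw [Nat.sub_self, pow_zero, one_mul, hk, pow_add, pow_one]; ring
      · simp only [d, if_neg hii]
        split_ifs with h0
        · refine ⟨x ^ k * c i, R.mul_mem (R.pow_mem hx _) (hcR i), ?_⟩
          rw [hk, pow_add, pow_one]; ring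
        · rcases hlt i hi hii with h | h
          · exact absurd h h0
          · have hpos' : 1 ≤ e₀ - e i := by
              have h' : e i < e₀ := h
              omega
            obtain ⟨k', hk'⟩ := Nat.exists_eq_add_of_le hpos'
            refine ⟨x ^ k' * t i + x ^ k * c i, R.add_mem (R.mul_mem (R.pow_mem hx _) (ht i))
              (R.mul_mem (R.pow_mem hx _) (hcR i)), ?_⟩
            rw [hk, hk', pow_add, pow_add, pow_one]; ring
    choose! r hrR hr using hterm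
    refine ⟨∑ i ∈ Finset.Icc 1 n, r i, R.sum_mem (fun i hi => hrR i hi), ?_⟩
    rw [Finset.sum_congr rfl hr, Finset.sum_add_distrib, Finset.sum_ite_eq' _ i₀, if_pos hi₀,
      Finset.mul_sum]
  obtain ⟨r, hrR, hr⟩ := hC
  obtain ⟨y₂, r₂, hr₂, hE⟩ := hA
  have he₀pos : 1 ≤ e₀ := by
    have := (Finset.mem_Icc.1 hi₀).1
    have := (Finset.mem_Icc.1 hi₀).2
    omega
  obtain ⟨k, hk⟩ := Nat.exists_eq_add_of_le he₀pos
  refine ⟨y₂, t i₀ + x * r + x ^ e₀ * r₂, ?_, ?_, ⟨r + x ^ k * r₂, ?_, ?_⟩⟩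
  · exact R.add_mem (R.add_mem (ht i₀) (R.mul_mem hx hrR)) (R.mul_mem (R.pow_mem hx _) hr₂)
  · have h5 : ξ = ∑ i ∈ Finset.Icc 1 n, s i + (y₂ ^ p - y₂ + r₂) := by
      rw [← hE]; ring
    rw [h5, hB, hr]
    have hx0' : x ^ e₀ ≠ 0 := pow_ne_zero _ hx0
    field_simp
    ring
  · exact R.add_mem hrR (R.mul_mem (R.pow_mem hx _) hr₂)
  · rw [hk, pow_add, pow_one]; ring

end Red

/-- selection of the leading stuck term. -/
lemma select (p : ℕ) (hp : p.Prime) (n : ℕ) (nz : ℕ → Prop) (m : ℕ → ℕ)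
    (hOK : ∀ i ∈ Finset.Icc 1 n, nz i → (m i = 0 ∨ ¬ p ∣ i))
    (hne : ∃ i ∈ Finset.Icc 1 n, nz i) :
    ∃ N i₀, i₀ ∈ Finset.Icc 1 n ∧ nz i₀ ∧ m i₀ < N ∧ (∀ i ∈ Finset.Icc 1 n, nz i → m i ≤ N) ∧
      (∀ i ∈ Finset.Icc 1 n, i ≠ i₀ → nz i → i * p ^ (N - m i) < i₀ * p ^ (N - m i₀)) ∧
      n < i₀ * p ^ (N - m i₀) := by
  classical
  set S := (Finset.Icc 1 n).filter nz with hS
  have hSne : S.Nonempty := by
    obtain ⟨i, hi, hnz⟩ := hne
    exact ⟨i, Finset.mem_filter.2 ⟨hi, hnz⟩⟩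
  set mmax := S.sup m with hmmax
  set N := mmax + 1 + n with hN
  have hmle : ∀ i ∈ S, m i ≤ mmax := fun i hi => Finset.le_sup hi
  obtain ⟨i₀, hi₀S, hmax⟩ := Finset.exists_max_image S (fun i => i * p ^ (N - m i)) hSne
  have hi₀ := Finset.mem_filter.1 hi₀S
  refine ⟨N, i₀, hi₀.1, hi₀.2, by have := hmle i₀ hi₀S; omega, ?_, ?_, ?_⟩
  · intro i hi hnz
    have := hmle i (Finset.mem_filter.2 ⟨hi, hnz⟩)
    omega
  · intro i hi hne' hnz
    have hiS : i ∈ S := Finset.mem_filter.2 ⟨hi, hnz⟩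
    have hle := hmax i hiS
    rcases lt_or_eq_of_le hle with h | h
    · exact h
    · exfalso
      -- distinctness
      have hmi := hmle i hiS
      have hmi₀ := hmle i₀ hi₀S
      have hpp : 0 < p := hp.pos
      rcases lt_trichotomy (m i) (m i₀) with hlt | heq | hgt
      · -- m i < m i₀ : p ∣ i₀ and m i₀ > 0
        have h1 : N - m i = (N - m i₀) + (m i₀ - m i) := by omega
        rw [h1, pow_add] at h
        have h2 : i * p ^ (m i₀ - m i) = i₀ := by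
          have h3 : (i * p ^ (m i₀ - m i)) * p ^ (N - m i₀) = i₀ * p ^ (N - m i₀) := by
            rw [← h]; ring
          exact Nat.eq_of_mul_eq_mul_right (pow_pos hpp _) h3
        have hdvd : p ∣ i₀ := by
          rw [← h2]
          apply Dvd.dvd.mul_left
          exact dvd_pow_self p (by omega)
        rcases hOK i₀ hi₀.1 hi₀.2 with h0 | h0
        · omega
        · exact h0 hdvd
      · rw [heq] at h
        have := Nat.eq_of_mul_eq_mul_right (pow_pos hpp _) h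
        exact hne' this
      · have h1 : N - m i₀ = (N - m i) + (m i - m i₀) := by omega
        rw [h1, pow_add] at h
        have h2 : i₀ * p ^ (m i - m i₀) = i := by
          have h3 : (i₀ * p ^ (m i - m i₀)) * p ^ (N - m i) = i * p ^ (N - m i) := by
            rw [h]; ring
          exact Nat.eq_of_mul_eq_mul_right (pow_pos hpp _) h3
        have hdvd : p ∣ i := by
          rw [← h2]
          apply Dvd.dvd.mul_left
          exact dvd_pow_self p (by omega)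
        rcases hOK i hi hnz with h0 | h0
        · omega
        · exact h0 hdvd
  · have h1 : 1 ≤ i₀ := (Finset.mem_Icc.1 hi₀.1).1
    have h2 : n + 1 ≤ N - m i₀ := by have := hmle i₀ hi₀S; omega
    have h3 : n < p ^ (N - m i₀) := by
      calc n < 2 ^ n := Nat.lt_two_pow_self
        _ ≤ p ^ n := Nat.pow_le_pow_left hp.two_le n
        _ ≤ p ^ (N - m i₀) := Nat.pow_le_pow_right hp.pos (by omega)
    calc n < p ^ (N - m i₀) := h3
      _ = 1 * p ^ (N - m i₀) := (one_mul _).symm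
      _ ≤ i₀ * p ^ (N - m i₀) := Nat.mul_le_mul_right _ h1


end Epp
end Groth.Agent.Helper9.EtRamLib
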