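import Mathlib
import Groth.Prelude.Def_EtRam
import Groth.Agent.Lib.Helper9.EtRam.Dom25
import Groth.Agent.Lib.Helper9.EtRam.Dom26
import Groth.Agent.S7157
import Groth.Agent.S7158

set_option autoImplicit false
set_option linter.style.haveILetI false
set_option linter.unusedSectionVars false

namespace Groth.Agent.Helper9.EtRamLib
namespace Epp
open IsLocalRing EtRam Polynomial

universe u

section Crit
variable {K₁ M' : Type u} [Field K₁] [Field M']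

lemma wu_crit (W : ValuationSubring M') (f : K₁ →+* M') (y : K₁) (hy : f y ∈ W)
    (hmax : maximalIdeal W = Ideal.span {(⟨f y, hy⟩ : W)}) :
    letI : Algebra (W.comap f) W := (inclOfComap W f).toAlgebra
    IsWeaklyUnramified (W.comap f) W := by
  letI : Algebra (W.comap f) W := (inclOfComap W f).toAlgebra
  show (maximalIdeal (W.comap f)).map (algebraMap (W.comap f) W) = maximalIdeal W
  have hyW : y ∈ W.comap f := hy
  have himg : (⟨f y, hy⟩ : W) = algebraMap (W.comap f) W ⟨y, hyW⟩ := rfl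
  apply le_antisymm
  · rw [Ideal.map_le_iff_le_comap]
    intro a ha
    rw [Ideal.mem_comap]
    rw [mem_maximalIdeal, mem_nonunits_iff] at ha ⊢
    intro hu
    exact ha (IsLocalHom.map_nonunit (f := inclOfComap W f) a hu)
  · rw [hmax, Ideal.span_le, Set.singleton_subset_iff, himg]
    apply Ideal.mem_map_of_mem
    rw [mem_maximalIdeal, mem_nonunits_iff]
    intro hu
    have h1 : IsUnit (algebraMap (W.comap f) W ⟨y, hyW⟩) := hu.map _
    have h2 : (⟨f y, hy⟩ : W) ∈ maximalIdeal W := by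
      rw [hmax]; exact Ideal.mem_span_singleton_self _
    rw [himg] at h2
    exact (mem_nonunits_iff.1 ((mem_maximalIdeal _).1 h2)) h1

end Crit

section Layer1
variable (p : ℕ) [hp : Fact p.Prime] {B L : Type u} [CommRing B] [IsDomain B]
  [IsDiscreteValuationRing B] [Field L] [Algebra B L] [IsFractionRing B L] [CharP L p]
  (ϖ : B) (hϖ : Irreducible ϖ) (N n : ℕ) (hN : 1 ≤ N)

/-- the Eisenstein polynomial over `B`. -/
noncomputable abbrev gB : B[X] := Groth.Agent.S7157.Aux.g B ϖ (n + 2)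

noncomputable abbrev fB : B[X] := Eis.f B ϖ (p ^ N) (gB ϖ n)

abbrev B₁ : Type u := AdjoinRoot (fB p ϖ N n)

include hp hN in
lemma q_ge : 2 ≤ p ^ N := by
  calc 2 ≤ p := hp.out.two_le
    _ = p ^ 1 := (pow_one p).symm
    _ ≤ p ^ N := Nat.pow_le_pow_right hp.out.pos hN

include hN in
lemma hgdeg : (gB ϖ n).natDegree < p ^ N :=
  Groth.Agent.S7157.Aux.g_deg B ϖ (n + 2) (p ^ N) (q_ge p N hN)

lemma hg0 : IsUnit ((gB ϖ n).coeff 0) := Groth.Agent.S7157.Aux.g_unit B ϖ (n + 2)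


include hp hϖ hN in
theorem layer1
    {ξ y : L} {t a : ℕ → B} {m : ℕ → ℕ} {b₀ : B}
    (hξ : ξ = y ^ p - y + ∑ i ∈ Finset.Icc 1 n,
        (algebraMap B L ϖ ^ i)⁻¹ * algebraMap B L (t i ^ p ^ m i + a i) + algebraMap B L b₀)
    {i₀ : ℕ} (hi₀ : i₀ ∈ Finset.Icc 1 n) (hm₀ : m i₀ < N)
    (hm : ∀ i ∈ Finset.Icc 1 n, t i ≠ 0 → m i ≤ N)
    (hlt : ∀ i ∈ Finset.Icc 1 n, i ≠ i₀ → t i ≠ 0 → i * p ^ (N - m i) < i₀ * p ^ (N - m i₀))
    (hn : n < i₀ * p ^ (N - m i₀))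
    (hstuck : ¬ ∃ r : ResidueField B, residue B (t i₀) = r ^ p)
    (A₀ : Subring B) (ha : ∀ i, a i ∈ A₀)
    (hperf : ∀ c ∈ A₀, ∃ c₁ ∈ A₀, ∃ d ∈ A₀, c = c₁ ^ (p ^ N) + ϖ * d)
    {M' : Type u} [Field M'] (φ : L →+* M') (x' z' : M')
    (hx' : eval₂ (φ.comp (algebraMap B L)) x' (fB p ϖ N n) = 0)
    (hz' : z' ^ p - z' = φ ξ)
    (hgen' : Subfield.closure (Set.range φ ∪ {x', z'}) = ⊤)
    (W : ValuationSubring M') (hW : Dominates B (φ.comp (algebraMap B L)) W) :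
    ∃ hx'W : x' ∈ W, maximalIdeal W = Ideal.span {(⟨x', hx'W⟩ : W)} := by
  classical
  have hg := hgdeg p ϖ N n hN
  have hg0' := hg0 ϖ n
  letI := Eis.isDomain B ϖ (p ^ N) (gB ϖ n) hϖ hg hg0'
  letI := Eis.isDVR B ϖ (p ^ N) (gB ϖ n) hϖ hg hg0'
  let ψ : B₁ p ϖ N n →+* M' := AdjoinRoot.lift (φ.comp (algebraMap B L)) x' hx'
  have hψof : ψ.comp (AdjoinRoot.of (fB p ϖ N n)) = φ.comp (algebraMap B L) :=
    AdjoinRoot.lift_comp_of _
  have hψroot : ψ (Eis.x B ϖ (p ^ N) (gB ϖ n)) = x' := AdjoinRoot.lift_root _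
  have hψinj : Function.Injective ψ :=
    Eis.hom_injective B ϖ (p ^ N) (gB ϖ n) hϖ hg hg0' ψ (by
      rw [hψof]; exact φ.injective.comp (IsFractionRing.injective B L))
  letI algB₁M : Algebra (B₁ p ϖ N n) M' := ψ.toAlgebra
  letI algF₁M : Algebra (FractionRing (B₁ p ϖ N n)) M' := (IsFractionRing.lift hψinj).toAlgebra
  haveI : IsScalarTower (B₁ p ϖ N n) (FractionRing (B₁ p ϖ N n)) M' :=
    IsScalarTower.of_algebraMap_eq (fun b => (IsFractionRing.lift_algebraMap hψinj b).symm)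
  have hlaminj : Function.Injective ((algebraMap (B₁ p ϖ N n) (FractionRing (B₁ p ϖ N n))).comp
      (AdjoinRoot.of (fB p ϖ N n))) :=
    (IsFractionRing.injective (B₁ p ϖ N n) (FractionRing (B₁ p ϖ N n))).comp
      (Eis.of_inj B ϖ (p ^ N) _ hg)
  let lam : L →+* FractionRing (B₁ p ϖ N n) := IsFractionRing.lift hlaminj
  have hlam : ∀ b : B, lam (algebraMap B L b)
      = algebraMap (B₁ p ϖ N n) (FractionRing (B₁ p ϖ N n)) (AdjoinRoot.of (fB p ϖ N n) b) :=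
    fun b => IsFractionRing.lift_algebraMap hlaminj b
  haveI : CharP (FractionRing (B₁ p ϖ N n)) p := charP_of_injective_ringHom lam.injective p
  haveI : CharP M' p := charP_of_injective_ringHom φ.injective p
  have hcompat : (algebraMap (FractionRing (B₁ p ϖ N n)) M').comp lam = φ := by
    apply IsLocalization.ringHom_ext (nonZeroDivisors B)
    ext b
    rw [RingHom.comp_apply, RingHom.comp_apply, hlam,
      ← IsScalarTower.algebraMap_apply (B₁ p ϖ N n) (FractionRing (B₁ p ϖ N n)) M']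
    exact RingHom.congr_fun hψof b
  -- notation
  let ι₁ : B₁ p ϖ N n →+* FractionRing (B₁ p ϖ N n) := algebraMap _ _
  have hι₁inj : Function.Injective ι₁ := IsFractionRing.injective _ _
  let R : Subring (FractionRing (B₁ p ϖ N n)) := ι₁.range
  let xB : B₁ p ϖ N n := Eis.x B ϖ (p ^ N) (gB ϖ n)
  let ofB : B →+* B₁ p ϖ N n := AdjoinRoot.of (fB p ϖ N n)
  obtain ⟨u, hu⟩ := Eis.gx_isUnit B ϖ (p ^ N) (gB ϖ n) hϖ hg hg0'
  have hgx : Eis.gx B ϖ (p ^ N) (gB ϖ n) = ofB (ϖ ^ (n + 1)) * xB + 1 := by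
    simp only [Eis.gx, gB, Groth.Agent.S7157.Aux.g, map_add, map_mul, AdjoinRoot.mk_C,
      AdjoinRoot.mk_X, map_one]
    rfl
  have hxp : xB ^ (p ^ N) = ofB ϖ * Eis.gx B ϖ (p ^ N) (gB ϖ n) :=
    Eis.x_pow B ϖ (p ^ N) (gB ϖ n)
  have hxB0 : xB ≠ 0 := Eis.x_ne_zero B ϖ (p ^ N) (gB ϖ n) hϖ hg hg0'
  -- FIN inputs
  have hx : ι₁ xB ∈ R := ⟨xB, rfl⟩
  have hx0 : ι₁ xB ≠ 0 := by
    rw [Ne, map_eq_zero_iff _ hι₁inj]; exact hxB0
  have hϖR : ι₁ (ofB ϖ) ∈ R := ⟨_, rfl⟩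
  have hwR : ι₁ (u : B₁ p ϖ N n) ∈ R := ⟨_, rfl⟩
  have hw'R : ι₁ ((u⁻¹ : (B₁ p ϖ N n)ˣ) : B₁ p ϖ N n) ∈ R := ⟨_, rfl⟩
  have hww' : ι₁ (u : B₁ p ϖ N n) * ι₁ ((u⁻¹ : (B₁ p ϖ N n)ˣ) : B₁ p ϖ N n) = 1 := by
    rw [← map_mul, Units.mul_inv, map_one]
  have hϖx : ι₁ (ofB ϖ) = ι₁ xB ^ (p ^ N) * ι₁ ((u⁻¹ : (B₁ p ϖ N n)ˣ) : B₁ p ϖ N n) := by
    rw [← map_pow, ← map_mul, hxp, ← hu, mul_assoc, Units.mul_inv, mul_one]
  have hw1 : ∃ r ∈ R, ι₁ (u : B₁ p ϖ N n) = 1 + ι₁ (ofB ϖ) ^ (n + 1) * r := by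
    refine ⟨ι₁ xB, hx, ?_⟩
    rw [hu, hgx, map_add, map_mul, map_one, map_pow, map_pow]
    ring
  let A' : Subring (FractionRing (B₁ p ϖ N n)) := A₀.map (ι₁.comp ofB)
  have hA'R : A' ≤ R := by
    rintro _ ⟨c, -, rfl⟩
    exact ⟨ofB c, rfl⟩
  have hperf' : ∀ c ∈ A', ∃ c₁ ∈ A', ∃ d ∈ A', c = c₁ ^ (p ^ N) + ι₁ (ofB ϖ) * d := by
    rintro _ ⟨c, hc, rfl⟩
    obtain ⟨c₁, hc₁, d, hd, hcd⟩ := hperf c hc
    refine ⟨(ι₁.comp ofB) c₁, ⟨c₁, hc₁, rfl⟩, (ι₁.comp ofB) d, ⟨d, hd, rfl⟩, ?_⟩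
    rw [hcd]
    simp only [RingHom.comp_apply, map_add, map_mul, map_pow]
  -- the expansion in `F₁`
  have hξF : lam ξ = lam y ^ p - lam y + ∑ i ∈ Finset.Icc 1 n,
      (ι₁ (ofB ϖ) ^ i)⁻¹ * ((fun i => ι₁ (ofB (t i))) i ^ p ^ m i
        + (fun i => ι₁ (ofB (a i))) i) + ι₁ (ofB b₀) := by
    rw [hξ]
    simp only [map_add, map_sub, map_pow, map_sum, map_mul, map_inv₀, hlam]
    rfl
  have hFIN := FIN (p := p) (R := R) hx hx0 hϖR hwR hw'R hww' hϖx hw1 A' hA'R hperf'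
    (n := n) (Nat.le_succ n) (ξ := lam ξ) (y := lam y) (b₀ := ι₁ (ofB b₀))
    (t := fun i => ι₁ (ofB (t i))) (a := fun i => ι₁ (ofB (a i))) (m := m)
    (fun i => ⟨_, rfl⟩) (fun i => ⟨a i, ha i, rfl⟩) ⟨_, rfl⟩ hξF hi₀ (le_of_lt hm₀)
    (by
      intro i hi
      by_cases h0 : t i = 0
      · left; simp only [h0, map_zero]
      · right; exact hm i hi h0)
    (by
      intro i hi hne
      by_cases h0 : t i = 0
      · left; simp only [h0, map_zero]
      · right; exact hlt i hi hne h0)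
    hn
  obtain ⟨y₁, c, ⟨c', rfl⟩, hξ₁, r, ⟨r', rfl⟩, hcr⟩ := hFIN
  have hcr' : c' = ofB (t i₀) + xB * r' := by
    apply hι₁inj
    rw [hcr, map_add, map_mul]
  -- the new Artin–Schreier equation
  set e₀ := i₀ * p ^ (N - m i₀) with he₀
  have he₀pos : 0 < e₀ := lt_of_le_of_lt (Nat.zero_le n) hn
  have hpe₀ : p ∣ e₀ := by
    rw [he₀]
    apply Dvd.dvd.mul_left
    exact dvd_pow_self p (by omega)
  let ξ₁ : FractionRing (B₁ p ϖ N n) := (ι₁ xB ^ e₀)⁻¹ * ι₁ c'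
  let z₁ : M' := z' - algebraMap (FractionRing (B₁ p ϖ N n)) M' y₁
  have hz₁ : z₁ ^ p - z₁ = algebraMap (FractionRing (B₁ p ϖ N n)) M' ξ₁ := by
    have h1 : φ ξ = algebraMap (FractionRing (B₁ p ϖ N n)) M' (lam ξ) :=
      (RingHom.congr_fun hcompat ξ).symm
    have h2 : algebraMap (FractionRing (B₁ p ϖ N n)) M' ξ₁
        = algebraMap (FractionRing (B₁ p ϖ N n)) M' (lam ξ)
          - ((algebraMap (FractionRing (B₁ p ϖ N n)) M' y₁) ^ p
            - algebraMap (FractionRing (B₁ p ϖ N n)) M' y₁) := by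
      rw [hξ₁]
      simp only [ξ₁, map_add, map_sub, map_mul, map_pow, map_inv₀]
      ring
    rw [h2, ← h1, ← hz']
    simp only [z₁]
    rw [sub_pow_char]
    ring
  have hgen₁ : IntermediateField.adjoin (FractionRing (B₁ p ϖ N n)) {z₁} = ⊤ := by
    rw [eq_top_iff]
    intro μ _
    have hμ : μ ∈ Subfield.closure (Set.range φ ∪ {x', z'}) := by rw [hgen']; trivial
    have hle : Subfield.closure (Set.range φ ∪ {x', z'})
        ≤ (IntermediateField.adjoin (FractionRing (B₁ p ϖ N n)) {z₁}).toSubfield := by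
      rw [Subfield.closure_le]
      rintro ν (⟨l, rfl⟩ | hν)
      · have : φ l = algebraMap (FractionRing (B₁ p ϖ N n)) M' (lam l) :=
          (RingHom.congr_fun hcompat l).symm
        rw [this]
        exact IntermediateField.algebraMap_mem _ _
      · rcases hν with rfl | hν
        · have : ν = algebraMap (FractionRing (B₁ p ϖ N n)) M' (ι₁ xB) := by
            rw [← IsScalarTower.algebraMap_apply (B₁ p ϖ N n) (FractionRing (B₁ p ϖ N n)) M']
            exact hψroot.symm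
          rw [this]
          exact IntermediateField.algebraMap_mem _ _
        · rw [Set.mem_singleton_iff] at hν
          subst hν
          have : ν = z₁ + algebraMap (FractionRing (B₁ p ϖ N n)) M' y₁ := by
            simp only [z₁]; ring
          rw [this]
          exact add_mem (IntermediateField.mem_adjoin_simple_self _ _)
            (IntermediateField.algebraMap_mem _ _)
    exact hle hμ
  -- apply the Artin–Schreier case analysis over `B₁`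
  have hmax : maximalIdeal (B₁ p ϖ N n) = Ideal.span {xB} :=
    Eis.maxIdeal_eq B ϖ (p ^ N) (gB ϖ n) hϖ hg hg0'
  have hres : ∀ r : B₁ p ϖ N n, residue (B₁ p ϖ N n) c' ≠ residue (B₁ p ϖ N n) r ^ p := by
    intro r hr
    obtain ⟨r₀, hr₀⟩ := Eis.residue_surj B ϖ (p ^ N) (gB ϖ n) hϖ hg hg0' (residue _ r)
    have hr₀' : residue (B₁ p ϖ N n) (ofB r₀) = residue (B₁ p ϖ N n) r := hr₀
    have h1 : residue (B₁ p ϖ N n) c' = residue (B₁ p ϖ N n) (ofB (t i₀)) := by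
      rw [hcr', map_add, map_mul]
      have : residue (B₁ p ϖ N n) xB = 0 := by
        rw [residue_eq_zero_iff, hmax]; exact Ideal.mem_span_singleton_self _
      rw [this, zero_mul, add_zero]
    have h2 : residue (B₁ p ϖ N n) (ofB (t i₀ - r₀ ^ p)) = 0 := by
      rw [map_sub, map_sub, map_pow, map_pow, hr₀', ← hr, h1, sub_self]
    rw [residue_eq_zero_iff] at h2
    haveI := Eis.isLocalHom_of B ϖ (p ^ N) (gB ϖ n) hϖ hg hg0'
    have h3 : t i₀ - r₀ ^ p ∈ maximalIdeal B := by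
      by_contra hnot
      have hu : IsUnit (t i₀ - r₀ ^ p) := by
        by_contra hnu
        exact hnot ((mem_maximalIdeal _).2 hnu)
      have hu' : IsUnit (ofB (t i₀ - r₀ ^ p)) := hu.map ofB
      exact (mem_nonunits_iff.1 ((mem_maximalIdeal _).1 h2)) hu'
    apply hstuck
    refine ⟨residue B r₀, ?_⟩
    rw [← residue_eq_zero_iff, map_sub, map_pow, sub_eq_zero] at h3
    exact h3
  have hξ₁eq : ξ₁ * ι₁ xB ^ e₀ = ι₁ c' := by
    simp only [ξ₁]
    have : ι₁ xB ^ e₀ ≠ 0 := pow_ne_zero _ hx0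
    rw [mul_comm, ← mul_assoc, mul_inv_cancel₀ this, one_mul]
  have hres' := Groth.Agent.S7158.result p hp.out (B₁ p ϖ N n) (FractionRing (B₁ p ϖ N n)) M'
    xB hmax ξ₁ z₁ hz₁ hgen₁
  have hC := hres'.2.2.2.2 e₀ c' he₀pos hpe₀ hres hξ₁eq
  -- domination
  have hWψ : Dominates (B₁ p ϖ N n) ψ W :=
    Eis.dominates_adjoinRoot B ϖ (p ^ N) (gB ϖ n) hϖ hg hg0' ψ (by rw [hψof]; exact hW)
  have hWdom : Dominates (B₁ p ϖ N n) (algebraMap (B₁ p ϖ N n) M') W := hWψ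
  letI : Algebra (B₁ p ϖ N n) W :=
    (RingHom.codRestrict (algebraMap (B₁ p ϖ N n) M') W hWdom.1).toAlgebra
  haveI : IsLocalHom (algebraMap (B₁ p ϖ N n) W) := dom_isLocalHom hWdom
  have hwu := hC.2.2 W hWdom
  have hwu1 : IsWeaklyUnramified (B₁ p ϖ N n) W := hwu.1
  have hx'W : x' ∈ W := by
    have := hWdom.1 xB
    rwa [show algebraMap (B₁ p ϖ N n) M' xB = x' from hψroot] at this
  refine ⟨hx'W, ?_⟩
  have h5 : (maximalIdeal (B₁ p ϖ N n)).map (algebraMap (B₁ p ϖ N n) W) = maximalIdeal W := hwu1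
  rw [← h5, hmax, Ideal.map_span, Set.image_singleton]
  congr 2
  exact Subtype.ext hψroot

end Layer1

end Epp
end Groth.Agent.Helper9.EtRamLib
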