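import Mathlib
import Groth.Prelude.Def_EtRam
import Groth.Agent.Lib.Helper9.EtRam.Dom27

set_option autoImplicit false
set_option linter.style.haveILetI false
set_option linter.unusedSectionVars false

namespace Groth.Agent.Helper9.EtRamLib
namespace Epp
open IsLocalRing EtRam

universe u

section Perf
variable (p : ℕ) [hp : Fact p.Prime] {A B : Type u} [CommRing A] [IsLocalRing A]
  [CommRing B] [IsLocalRing B] [Algebra A B] [IsLocalHom (algebraMap A B)]
  [CharP (ResidueField B) p]
  (hk : ∀ x : ResidueField B, (∀ n : ℕ, ∃ y : ResidueField B, y ^ (p ^ n) = x) ↔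
      x ∈ Set.range (algebraMap (ResidueField A) (ResidueField B)))

include hk in
lemma root_mem_pow (N : ℕ) {β : ResidueField B}
    (hβ : β ∈ Set.range (algebraMap (ResidueField A) (ResidueField B))) :
    ∃ γ ∈ Set.range (algebraMap (ResidueField A) (ResidueField B)), γ ^ (p ^ N) = β := by
  induction N generalizing β with
  | zero => exact ⟨β, hβ, by simp⟩
  | succ N ih =>
    obtain ⟨γ, hγ, hγβ⟩ := root_mem p hk hβ
    obtain ⟨δ, hδ, hδγ⟩ := ih hγ
    exact ⟨δ, hδ, by rw [pow_succ, pow_mul, hδγ, hγβ]⟩

include hk in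
/-- the residue field of `A` is perfect, in the form needed. -/
lemma perfect_A (π : A) (hπA : maximalIdeal A = Ideal.span {π}) (N : ℕ) (a : A) :
    ∃ a₁ d : A, a = a₁ ^ (p ^ N) + π * d := by
  obtain ⟨γ, ⟨γ', hγ'⟩, hγ⟩ := root_mem_pow p hk N ⟨residue A a, rfl⟩
  obtain ⟨a₁, ha₁⟩ := residue_surjective γ'
  have h1 : residue A (a - a₁ ^ (p ^ N)) = 0 := by
    rw [map_sub, map_pow, ha₁, sub_eq_zero]
    apply (algebraMap (ResidueField A) (ResidueField B)).injective
    rw [map_pow, hγ', hγ]
  rw [residue_eq_zero_iff, hπA, Ideal.mem_span_singleton] at h1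
  obtain ⟨d, hd⟩ := h1
  exact ⟨a₁, d, by rw [← hd]; ring⟩

end Perf

lemma map_ABM {A B : Type u} (C : Type u) {M : Type u} [CommRing A] [CommRing B] [CommRing C]
    [Field M] [Algebra A B] [Algebra B C] [Algebra A C] [IsScalarTower A B C] [Algebra C M]
    [Algebra B M] [IsScalarTower B C M] [Algebra A M] [IsScalarTower A C M] (a : A) :
    algebraMap A M a = algebraMap B M (algebraMap A B a) := by
  rw [IsScalarTower.algebraMap_apply A C M, IsScalarTower.algebraMap_apply A B C,
    ← IsScalarTower.algebraMap_apply B C M]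


section Setting2
variable (p : ℕ) [hp : Fact p.Prime] {A B C K L M : Type u}
    [CommRing A] [IsDomain A] [IsDiscreteValuationRing A] [CommRing B] [IsDomain B]
    [IsDiscreteValuationRing B] [CommRing C] [IsDomain C] [IsDiscreteValuationRing C]
    [Algebra A B] [Algebra B C] [Algebra A C] [IsScalarTower A B C]
    [IsLocalHom (algebraMap A B)] [IsLocalHom (algebraMap B C)]
    [Field K] [Field L] [Field M] [Algebra A K] [IsFractionRing A K] [Algebra B L]
    [IsFractionRing B L] [Algebra C M] [IsFractionRing C M] [Algebra K L] [Algebra L M]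
    [Algebra K M] [IsScalarTower K L M] [Algebra A L] [IsScalarTower A K L] [IsScalarTower A B L]
    [Algebra B M] [IsScalarTower B L M] [IsScalarTower B C M] [Algebra A M] [IsScalarTower A K M]
    [IsScalarTower A C M]

variable {M' : Type u} [Field M'] [Algebra K M'] [Algebra M M'] [IsScalarTower K M M']

omit hp in
/-- domination of `B` from domination of `C`. -/
lemma dominates_B {W : ValuationSubring M'}
    (hW : Dominates C ((algebraMap M M').comp (algebraMap C M)) W) :
    Dominates B (((algebraMap M M').comp (algebraMap L M)).comp (algebraMap B L)) W := by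
  have h1 : ∀ b : B, (((algebraMap M M').comp (algebraMap L M)).comp (algebraMap B L)) b
      = ((algebraMap M M').comp (algebraMap C M)) (algebraMap B C b) := by
    intro b
    simp only [RingHom.comp_apply]
    rw [← IsScalarTower.algebraMap_apply B L M, IsScalarTower.algebraMap_apply B C M]
  constructor
  · intro b
    rw [h1]; exact hW.1 _
  · intro b hb
    rw [h1]
    apply hW.2
    rw [mem_maximalIdeal, mem_nonunits_iff] at hb ⊢
    intro hu
    exact hb (IsLocalHom.map_nonunit b hu)

end Setting2

section CaseII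
open Polynomial in
theorem caseII (p : ℕ) [hp : Fact p.Prime] (A B C K L M : Type u)
    [CommRing A] [IsDomain A] [IsDiscreteValuationRing A] [CommRing B] [IsDomain B]
    [IsDiscreteValuationRing B] [CommRing C] [IsDomain C] [IsDiscreteValuationRing C]
    [Algebra A B] [Algebra B C] [Algebra A C] [IsScalarTower A B C]
    (hAB : Function.Injective (algebraMap A B))
    [IsLocalHom (algebraMap A B)] [IsLocalHom (algebraMap B C)]
    [Field K] [Field L] [Field M] [Algebra A K] [IsFractionRing A K] [Algebra B L]
    [IsFractionRing B L] [Algebra C M] [IsFractionRing C M] [Algebra K L] [Algebra L M]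
    [Algebra K M] [IsScalarTower K L M] [Algebra A L] [IsScalarTower A K L] [IsScalarTower A B L]
    [Algebra B M] [IsScalarTower B L M] [IsScalarTower B C M] [Algebra A M] [IsScalarTower A K M]
    [IsScalarTower A C M]
    (hw : IsWeaklyUnramified A B) [CharP K p]
    (hk : ∀ x : ResidueField B, (∀ n : ℕ, ∃ y : ResidueField B, y ^ (p ^ n) = x) ↔
      x ∈ Set.range (algebraMap (ResidueField A) (ResidueField B)))
    (π : A) (hπ : maximalIdeal A = Ideal.span {π})
    (z : M) (ξ : L) (hz : z ^ p - z = algebraMap L M ξ)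
    (hgenz : IntermediateField.adjoin L {z} = ⊤)
    (n : ℕ) (y : L) (t : ℕ → B) (m : ℕ → ℕ) (a : ℕ → A) (b₀ : B)
    (hξ : ξ = y ^ p - y + ∑ i ∈ Finset.Icc 1 n, term p (B := B) L π i (t i) (m i) (a i)
      + algebraMap B L b₀)
    (hc : ∀ i ∈ Finset.Icc 1 n, StuckOK p i (t i) (m i) ∧ KOK p i (a i))
    (hne : ∃ i ∈ Finset.Icc 1 n, t i ≠ 0) :
    ∃ (K₁ : Type u) (_ : Field K₁) (_ : Algebra K K₁), FiniteDimensional K K₁ ∧
      Algebra.IsSeparable K K₁ ∧
      IsTotallyRamified A ((algebraMap K K₁).comp (algebraMap A K)) ∧ IsWeakSolution C K M K₁ := by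
  classical
  have hp' := hp.out
  haveI : CharP L p := charP_of_injective_algebraMap (algebraMap K L).injective p
  have hpB : ((p : ℕ) : B) = 0 := by
    apply IsFractionRing.injective B L
    rw [map_natCast, map_zero]
    exact CharP.cast_eq_zero L p
  haveI : CharP (ResidueField B) p := by
    rw [CharP.charP_iff_prime_eq_zero hp']
    have := congrArg (residue B) hpB
    rwa [map_natCast, map_zero] at this
  have hπB : maximalIdeal B = Ideal.span {algebraMap A B π} := by
    have h1 : (maximalIdeal A).map (algebraMap A B) = maximalIdeal B := hw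
    rw [← h1, hπ, Ideal.map_span, Set.image_singleton]
  have hϖirr : Irreducible (algebraMap A B π) :=
    (IsDiscreteValuationRing.irreducible_iff_uniformizer _).2 hπB
  have hπirr : Irreducible π := (IsDiscreteValuationRing.irreducible_iff_uniformizer π).2 hπ
  obtain ⟨N, i₀, hi₀, hnz₀, hm₀, hmN, hnlt', hlt'⟩ := select p hp' n (fun i => t i ≠ 0) m
    (fun i hi hnz => ((hc i hi).1.resolve_left hnz).2) hne
  have hN : 1 ≤ N := by omega
  have hq : 2 ≤ p ^ N := q_ge p N hN
  have hg := Groth.Agent.S7157.Aux.g_deg A π (n + 2) (p ^ N) hq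
  have hg0 := Groth.Agent.S7157.Aux.g_unit A π (n + 2)
  letI := Eis.isDomain A π (p ^ N) (Groth.Agent.S7157.Aux.g A π (n + 2)) hπirr hg hg0
  letI := Eis.isDVR A π (p ^ N) (Groth.Agent.S7157.Aux.g A π (n + 2)) hπirr hg hg0
  have hinj : Function.Injective (algebraMap A
      (FractionRing (Groth.Agent.S7157.Aux.B A π (n + 2) (p ^ N)))) := by
    rw [IsScalarTower.algebraMap_eq A (Groth.Agent.S7157.Aux.B A π (n + 2) (p ^ N))
      (FractionRing (Groth.Agent.S7157.Aux.B A π (n + 2) (p ^ N)))]
    exact (IsFractionRing.injective (Groth.Agent.S7157.Aux.B A π (n + 2) (p ^ N)) _).comp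
      (Eis.of_inj A π (p ^ N) _ hg)
  letI algKL : Algebra K (FractionRing (Groth.Agent.S7157.Aux.B A π (n + 2) (p ^ N))) :=
    (IsFractionRing.lift hinj).toAlgebra
  haveI : IsScalarTower A K (FractionRing (Groth.Agent.S7157.Aux.B A π (n + 2) (p ^ N))) :=
    IsScalarTower.of_algebraMap_eq (fun a => (IsFractionRing.lift_algebraMap hinj a).symm)
  obtain ⟨hfin, hsep, htot, -⟩ := Groth.Agent.S7157.Aux.core A K π (n + 2) (p ^ N) hπirr
    (by omega) hq (FractionRing (Groth.Agent.S7157.Aux.B A π (n + 2) (p ^ N)))
  haveI : FiniteDimensional K (FractionRing (Groth.Agent.S7157.Aux.B A π (n + 2) (p ^ N))) :=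
    Module.finite_of_finrank_pos (by rw [hfin]; exact pow_pos hp'.pos N)
  refine ⟨FractionRing (Groth.Agent.S7157.Aux.B A π (n + 2) (p ^ N)), inferInstance, algKL,
    inferInstance, hsep, ?_, ?_⟩
  · rw [← IsScalarTower.algebraMap_eq]; exact htot
  · intro M' _ _ _ _ _ _ hadj W hW
    -- abbreviations
    let A₁ := Groth.Agent.S7157.Aux.B A π (n + 2) (p ^ N)
    let K₁ := FractionRing A₁
    let gA := Groth.Agent.S7157.Aux.g A π (n + 2)
    let fA : A[X] := Eis.f A π (p ^ N) gA
    let rt : A₁ := Eis.x A π (p ^ N) gA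
    let x₁ : K₁ := algebraMap A₁ K₁ rt
    let φ : L →+* M' := (algebraMap M M').comp (algebraMap L M)
    have hc1 : ∀ a₀ : A, φ (algebraMap B L (algebraMap A B a₀))
        = algebraMap K₁ M' (algebraMap A K₁ a₀) := by
      intro a₀
      simp only [φ, RingHom.comp_apply]
      rw [← IsScalarTower.algebraMap_apply A B L, IsScalarTower.algebraMap_apply A K L,
        ← IsScalarTower.algebraMap_apply K L M, ← IsScalarTower.algebraMap_apply K M M',
        IsScalarTower.algebraMap_apply A K K₁, ← IsScalarTower.algebraMap_apply K K₁ M']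
    have hfmap : fB p (algebraMap A B π) N n = fA.map (algebraMap A B) := by
      simp only [fB, gB, fA, gA, Eis.f, Groth.Agent.S7157.Aux.g, Polynomial.map_sub,
        Polynomial.map_mul, Polynomial.map_pow, Polynomial.map_add, Polynomial.map_one,
        Polynomial.map_X, Polynomial.map_C, map_pow]
    have hx' : eval₂ (φ.comp (algebraMap B L)) (algebraMap K₁ M' x₁)
        (fB p (algebraMap A B π) N n) = 0 := by
      rw [hfmap, eval₂_map]
      have h1 : (φ.comp (algebraMap B L)).comp (algebraMap A B)
          = ((algebraMap K₁ M').comp (algebraMap A₁ K₁)).comp (AdjoinRoot.of fA) := by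
        ext a₀
        simp only [RingHom.comp_apply]
        rw [hc1, IsScalarTower.algebraMap_apply A A₁ K₁]
        rfl
      rw [h1]
      have h2 : algebraMap K₁ M' x₁ = ((algebraMap K₁ M').comp (algebraMap A₁ K₁)) rt := rfl
      rw [h2, ← Polynomial.hom_eval₂]
      have h3 : eval₂ (AdjoinRoot.of fA) rt fA = 0 := AdjoinRoot.eval₂_root fA
      rw [h3, map_zero]
    have hz' : (algebraMap M M' z) ^ p - algebraMap M M' z = φ ξ := by
      rw [← map_pow, ← map_sub, hz]; rfl
    have hgen' : Subfield.closure (Set.range φ ∪ {algebraMap K₁ M' x₁, algebraMap M M' z}) = ⊤ := by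
      set S := Subfield.closure (Set.range φ ∪ {algebraMap K₁ M' x₁, algebraMap M M' z}) with hS
      have hφS : ∀ l : L, φ l ∈ S := fun l =>
        Subfield.subset_closure (Or.inl ⟨l, rfl⟩)
      have hxS : algebraMap K₁ M' x₁ ∈ S :=
        Subfield.subset_closure (Or.inr (Or.inl rfl))
      have hzS : algebraMap M M' z ∈ S :=
        Subfield.subset_closure (Or.inr (Or.inr rfl))
      -- image of `M`
      have hMS : ∀ w : M, algebraMap M M' w ∈ S := by
        intro w
        have hw : w ∈ IntermediateField.adjoin L {z} := by rw [hgenz]; trivial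
        induction hw using IntermediateField.adjoin_induction with
        | mem x hx =>
          rw [Set.mem_singleton_iff] at hx; subst hx; exact hzS
        | algebraMap l => exact hφS l
        | add x y _ _ hx hy => rw [map_add]; exact add_mem hx hy
        | inv x _ hx => rw [map_inv₀]; exact inv_mem hx
        | mul x y _ _ hx hy => rw [map_mul]; exact mul_mem hx hy
      -- image of `A₁`
      have hA₁S : ∀ w : A₁, algebraMap K₁ M' (algebraMap A₁ K₁ w) ∈ S := by
        intro w
        induction w using AdjoinRoot.induction_on with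
        | ih q =>
          induction q using Polynomial.induction_on' with
          | add q₁ q₂ h₁ h₂ => rw [map_add, map_add, map_add]; exact add_mem h₁ h₂
          | monomial k c =>
            have h1 : AdjoinRoot.mk fA (monomial k c) = AdjoinRoot.of fA c * rt ^ k := by
              rw [← C_mul_X_pow_eq_monomial, map_mul, map_pow, AdjoinRoot.mk_C, AdjoinRoot.mk_X]
            rw [h1, map_mul, map_mul, map_pow, map_pow]
            refine mul_mem ?_ (pow_mem hxS k)
            have h2 : algebraMap A₁ K₁ (AdjoinRoot.of fA c) = algebraMap A K₁ c :=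
              (IsScalarTower.algebraMap_apply A A₁ K₁ c).symm
            rw [h2, ← hc1]
            exact hφS _
      have hK₁S : ∀ w : K₁, algebraMap K₁ M' w ∈ S := by
        intro w
        obtain ⟨a₁, b₁, -, rfl⟩ := IsFractionRing.div_surjective (A := A₁) w
        rw [map_div₀]
        exact div_mem (hA₁S a₁) (hA₁S b₁)
      rw [eq_top_iff]
      intro μ _
      have hμ : μ ∈ Algebra.adjoin M (Set.range (algebraMap K₁ M')) := by rw [hadj]; trivial
      induction hμ using Algebra.adjoin_induction with
      | mem x hx => obtain ⟨w, rfl⟩ := hx; exact hK₁S w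
      | algebraMap r => exact hMS r
      | add x y _ _ hx hy => exact add_mem (hx trivial) (hy trivial)
      | mul x y _ _ hx hy => exact mul_mem (hx trivial) (hy trivial)
    have hW' : Dominates B (φ.comp (algebraMap B L)) W := dominates_B hW
    have hperf : ∀ c ∈ (algebraMap A B).range, ∃ c₁ ∈ (algebraMap A B).range,
        ∃ d ∈ (algebraMap A B).range, c = c₁ ^ (p ^ N) + algebraMap A B π * d := by
      rintro _ ⟨a₀, rfl⟩
      obtain ⟨a₁, d, had⟩ := perfect_A p hk π hπ N a₀
      refine ⟨_, ⟨a₁, rfl⟩, _, ⟨d, rfl⟩, ?_⟩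
      rw [had, map_add, map_mul, map_pow]
    have hξ' : ξ = y ^ p - y + ∑ i ∈ Finset.Icc 1 n,
        (algebraMap B L (algebraMap A B π) ^ i)⁻¹
          * algebraMap B L (t i ^ p ^ m i + (fun i => algebraMap A B (a i)) i)
        + algebraMap B L b₀ := hξ
    obtain ⟨hx'W, hmax⟩ := layer1 p (algebraMap A B π) hϖirr N n hN hξ' hi₀ hm₀ hmN hnlt'
      hlt' ((hc i₀ hi₀).1.resolve_left hnz₀).1 (algebraMap A B).range (fun i => ⟨a i, rfl⟩) hperf
      φ (algebraMap K₁ M' x₁) (algebraMap M M' z) hx' hz' hgen' W hW'
    exact wu_crit W (algebraMap K₁ M') x₁ hx'W hmax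

end CaseII

end Epp
end Groth.Agent.Helper9.EtRamLib
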