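import Mathlib
import Groth.Prelude.Def_EtRam
import Groth.Agent.Lib.Helper9.EtRam.Dom28
import Groth.Agent.S1984

set_option autoImplicit false
set_option linter.style.haveILetI false
set_option linter.unusedSectionVars false

namespace Groth.Agent.Helper9.EtRamLib
namespace Epp
open IsLocalRing EtRam

universe u

section CaseI
open Polynomial in
theorem caseI_generic (p : ℕ) [hp : Fact p.Prime] (A B C K L M : Type u)
    [CommRing A] [IsDomain A] [IsDiscreteValuationRing A] [CommRing B] [IsDomain B]
    [IsDiscreteValuationRing B] [CommRing C] [IsDomain C] [IsDiscreteValuationRing C]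
    [Algebra A B] [Algebra B C] [Algebra A C] [IsScalarTower A B C]
    (hAB : Function.Injective (algebraMap A B))
    [IsLocalHom (algebraMap A B)] [IsLocalHom (algebraMap B C)]
    [Field K] [Field L] [Field M] [Algebra A K] [IsFractionRing A K] [Algebra B L]
    [IsFractionRing B L] [Algebra C M] [IsFractionRing C M] [Algebra K L] [Algebra L M]
    [Algebra K M] [IsScalarTower K L M] [Algebra A L] [IsScalarTower A K L] [IsScalarTower A B L]
    [Algebra B M] [IsScalarTower B L M] [IsScalarTower B C M] [Algebra A M] [IsScalarTower A K M]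
    [IsScalarTower A C M]
    (hw : IsWeaklyUnramified A B) [CharP K p]
    (π : A) (hπ : maximalIdeal A = Ideal.span {π})
    (z : M) (ξ : L) (hz : z ^ p - z = algebraMap L M ξ)
    (hgenz : IntermediateField.adjoin L {z} = ⊤)
    (y : L) (ξK : K) (b₀ : B)
    (hξ : ξ = y ^ p - y + algebraMap K L ξK + algebraMap B L b₀)
    (K₁ : Type u) [Field K₁] [Algebra K K₁] [FiniteDimensional K K₁] [Algebra.IsSeparable K K₁]
    (ht : IsTotallyRamified A ((algebraMap K K₁).comp (algebraMap A K)))
    (z₀ : K₁) (hz₀ : z₀ ^ p - z₀ = algebraMap K K₁ ξK) :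
    IsWeakSolution C K M K₁ := by
  classical
  have hp' := hp.out
  haveI : CharP L p := charP_of_injective_algebraMap (algebraMap K L).injective p
  have hπB : maximalIdeal B = Ideal.span {algebraMap A B π} := by
    have h1 : (maximalIdeal A).map (algebraMap A B) = maximalIdeal B := hw
    rw [← h1, hπ, Ideal.map_span, Set.image_singleton]
  intro M' _ _ _ _ _ _ hadj W hW
  let φ : L →+* M' := (algebraMap M M').comp (algebraMap L M)
  letI algLM' : Algebra L M' := φ.toAlgebra
  haveI : IsScalarTower L M M' := IsScalarTower.of_algebraMap_eq (fun _ => rfl)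
  haveI : IsScalarTower K L M' := IsScalarTower.of_algebraMap_eq (fun k => by
    show algebraMap K M' k = algebraMap M M' (algebraMap L M (algebraMap K L k))
    rw [← IsScalarTower.algebraMap_apply K L M, ← IsScalarTower.algebraMap_apply K M M'])
  letI algBM' : Algebra B M' := (φ.comp (algebraMap B L)).toAlgebra
  haveI : IsScalarTower B L M' := IsScalarTower.of_algebraMap_eq (fun _ => rfl)
  haveI : CharP M' p := charP_of_injective_algebraMap (algebraMap L M').injective p
  have hW' : Dominates B (algebraMap B M') W := dominates_B hW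
  -- the unramified Artin–Schreier generator
  let z₁ : M' := algebraMap M M' z - algebraMap L M' y - algebraMap K₁ M' z₀
  have hz₁ : z₁ ^ p - z₁ = algebraMap L M' (algebraMap B L b₀) := by
    have h1 : (algebraMap M M' z) ^ p - algebraMap M M' z = algebraMap L M' ξ := by
      rw [← map_pow, ← map_sub, hz]; rfl
    have h2 : (algebraMap K₁ M' z₀) ^ p - algebraMap K₁ M' z₀
        = algebraMap L M' (algebraMap K L ξK) := by
      rw [← map_pow, ← map_sub, hz₀, ← IsScalarTower.algebraMap_apply K K₁ M',
        ← IsScalarTower.algebraMap_apply K L M']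
    have h3 : algebraMap L M' ξ = (algebraMap L M' y) ^ p - algebraMap L M' y
        + algebraMap L M' (algebraMap K L ξK) + algebraMap L M' (algebraMap B L b₀) := by
      rw [hξ]; simp only [map_add, map_sub, map_pow]
    simp only [z₁]
    rw [sub_pow_char, sub_pow_char]
    linear_combination h1 - h2 + h3
  -- the intermediate field `L₂ = L(z₁)`
  let L₂ : IntermediateField L M' := IntermediateField.adjoin L {z₁}
  let z₁' : L₂ := ⟨z₁, IntermediateField.mem_adjoin_simple_self L z₁⟩
  have hz₁' : z₁' ^ p - z₁' = algebraMap L L₂ (algebraMap B L b₀) := Subtype.ext hz₁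
  have hgen₂ : IntermediateField.adjoin L {z₁'} = ⊤ := by
    apply IntermediateField.lift_injective L₂
    rw [IntermediateField.lift_adjoin_simple, IntermediateField.lift_top]
  have hres := Groth.Agent.S7158.result p hp' B L L₂ (algebraMap A B π) hπB
    (algebraMap B L b₀) z₁' hz₁' hgen₂
  obtain ⟨hgal, -, hA, -, -⟩ := hres
  have hA' := hA ⟨b₀, rfl⟩
  -- integrality and finiteness
  have hz₁int : IsIntegral L z₁ := by
    refine ⟨X ^ p - (X + Polynomial.C (algebraMap B L b₀)), ?_, ?_⟩
    · apply Polynomial.monic_X_pow_sub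
      refine lt_of_le_of_lt (degree_X_add_C _).le ?_
      exact_mod_cast hp'.one_lt
    · simp only [eval₂_sub, eval₂_add, eval₂_pow, eval₂_X, eval₂_C]
      rw [← sub_sub, sub_eq_zero]; exact hz₁
  haveI : FiniteDimensional L L₂ := IntermediateField.adjoin.finiteDimensional hz₁int
  let W₂ : ValuationSubring L₂ := W.comap (algebraMap L₂ M')
  have hdom₂ : Dominates B (algebraMap B L₂) W₂ :=
    ⟨fun b => hW'.1 b, fun b hb => (val_comap_lt_one_iff W _ _).2 (hW'.2 b hb)⟩
  have hwu₂ : letI : Algebra B W₂ := (RingHom.codRestrict (algebraMap B L₂) W₂ hdom₂.1).toAlgebra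
      IsWeaklyUnramified B W₂ := by
    letI : Algebra B W₂ := (RingHom.codRestrict (algebraMap B L₂) W₂ hdom₂.1).toAlgebra
    haveI : IsLocalHom (algebraMap B W₂) := dom_isLocalHom hdom₂
    rcases hA' with h1 | ⟨hun, -⟩
    · have hb := (Dict.fund_bound L hdom₂).1
      rw [h1] at hb
      have he := Cases.eq_pos L hdom₂
      have hf := Cases.fq_pos L hdom₂
      have : Dict.eq hdom₂ = 1 := by
        have : Dict.eq hdom₂ ≤ Dict.eq hdom₂ * Dict.fq hdom₂ := Nat.le_mul_of_pos_right _ hf
        omega
      exact Cases.wu_of_eq_one L hdom₂ this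
    · exact (hun W₂ hdom₂).1
  haveI : IsDiscreteValuationRing W₂ := Cases.isDVR L hdom₂
  letI algBW₂ : Algebra B W₂ := (RingHom.codRestrict (algebraMap B L₂) W₂ hdom₂.1).toAlgebra
  haveI : IsLocalHom (algebraMap B W₂) := dom_isLocalHom hdom₂
  have hinjBW₂ : Function.Injective (algebraMap B W₂) := Cases.inj_V L hdom₂
  letI algAW₂ : Algebra A W₂ := ((algebraMap B W₂).comp (algebraMap A B)).toAlgebra
  haveI : IsScalarTower A B W₂ := IsScalarTower.of_algebraMap_eq (fun _ => rfl)
  haveI : IsLocalHom (algebraMap A W₂) := by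
    show IsLocalHom ((algebraMap B W₂).comp (algebraMap A B))
    infer_instance
  have hinjAW₂ : Function.Injective (algebraMap A W₂) := hinjBW₂.comp hAB
  have hwAW₂ : IsWeaklyUnramified A W₂ := by
    show (maximalIdeal A).map (algebraMap A W₂) = maximalIdeal W₂
    have h1 : (maximalIdeal A).map (algebraMap A B) = maximalIdeal B := hw
    have h2 : (maximalIdeal B).map (algebraMap B W₂) = maximalIdeal W₂ := hwu₂
    rw [← h2, ← h1, Ideal.map_map]
    rfl
  letI algAL₂ : Algebra A L₂ := ((algebraMap W₂ L₂).comp (algebraMap A W₂)).toAlgebra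
  haveI : IsScalarTower A W₂ L₂ := IsScalarTower.of_algebraMap_eq (fun _ => rfl)
  haveI : IsScalarTower A K L₂ := IsScalarTower.of_algebraMap_eq (fun a => by
    apply Subtype.ext
    show φ (algebraMap B L (algebraMap A B a)) = algebraMap K M' (algebraMap A K a)
    simp only [φ, RingHom.comp_apply]
    rw [← IsScalarTower.algebraMap_apply A B L, IsScalarTower.algebraMap_apply A K L,
      ← IsScalarTower.algebraMap_apply K L M, ← IsScalarTower.algebraMap_apply K M M'])
  have key := (Groth.Agent.S1984.result A W₂ K L₂ hinjAW₂ hwAW₂ K₁ ht).2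
  -- generation
  have hzint : IsIntegral L z := by
    refine ⟨X ^ p - (X + Polynomial.C ξ), ?_, ?_⟩
    · apply Polynomial.monic_X_pow_sub
      refine lt_of_le_of_lt (degree_X_add_C _).le ?_
      exact_mod_cast hp'.one_lt
    · simp only [eval₂_sub, eval₂_add, eval₂_pow, eval₂_X, eval₂_C]
      rw [← sub_sub, sub_eq_zero]; exact hz
  have hM : Algebra.adjoin L {z} = ⊤ := by
    rw [← IntermediateField.adjoin_simple_toSubalgebra_of_isAlgebraic hzint.isAlgebraic, hgenz,
      IntermediateField.top_toSubalgebra]
  have hadj₂ : Algebra.adjoin L₂ (Set.range (algebraMap K₁ M')) = ⊤ := by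
    set S := Algebra.adjoin L₂ (Set.range (algebraMap K₁ M')) with hS
    have hL₂S : ∀ l : L₂, (l : M') ∈ S := fun l => S.algebraMap_mem l
    have hLS : ∀ l : L, algebraMap L M' l ∈ S := fun l => hL₂S (algebraMap L L₂ l)
    have hK₁S : ∀ k : K₁, algebraMap K₁ M' k ∈ S := fun k => Algebra.subset_adjoin ⟨k, rfl⟩
    have hMS : ∀ w : M, algebraMap M M' w ∈ S := by
      intro w
      have hw : w ∈ Algebra.adjoin L {z} := by rw [hM]; trivial
      induction hw using Algebra.adjoin_induction with
      | mem x hx =>
        rw [Set.mem_singleton_iff] at hx; subst hx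
        have : algebraMap M M' x = z₁ + algebraMap L M' y + algebraMap K₁ M' z₀ := by
          simp only [z₁]; ring
        rw [this]
        exact add_mem (add_mem (hL₂S z₁') (hLS y)) (hK₁S z₀)
      | algebraMap l => exact hLS l
      | add x y _ _ hx hy => rw [map_add]; exact add_mem hx hy
      | mul x y _ _ hx hy => rw [map_mul]; exact mul_mem hx hy
    rw [eq_top_iff]
    intro μ _
    have hμ : μ ∈ Algebra.adjoin M (Set.range (algebraMap K₁ M')) := by rw [hadj]; trivial
    induction hμ using Algebra.adjoin_induction with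
    | mem x hx => obtain ⟨w, rfl⟩ := hx; exact hK₁S w
    | algebraMap r => exact hMS r
    | add x y _ _ hx hy => exact add_mem (hx trivial) (hy trivial)
    | mul x y _ _ hx hy => exact mul_mem (hx trivial) (hy trivial)
  haveI : IsScalarTower K L₂ M' := IsScalarTower.of_algebraMap_eq (fun _ => rfl)
  exact key M' hadj₂ W (dom_self_comap W (algebraMap L₂ M'))

end CaseI

section CaseI'
open Polynomial in
theorem caseI (p : ℕ) [hp : Fact p.Prime] (A B C K L M : Type u)
    [CommRing A] [IsDomain A] [IsDiscreteValuationRing A] [CommRing B] [IsDomain B]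
    [IsDiscreteValuationRing B] [CommRing C] [IsDomain C] [IsDiscreteValuationRing C]
    [Algebra A B] [Algebra B C] [Algebra A C] [IsScalarTower A B C]
    (hAB : Function.Injective (algebraMap A B))
    [IsLocalHom (algebraMap A B)] [IsLocalHom (algebraMap B C)]
    [Field K] [Field L] [Field M] [Algebra A K] [IsFractionRing A K] [Algebra B L]
    [IsFractionRing B L] [Algebra C M] [IsFractionRing C M] [Algebra K L] [Algebra L M]
    [Algebra K M] [IsScalarTower K L M] [Algebra A L] [IsScalarTower A K L] [IsScalarTower A B L]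
    [Algebra B M] [IsScalarTower B L M] [IsScalarTower B C M] [Algebra A M] [IsScalarTower A K M]
    [IsScalarTower A C M]
    (hw : IsWeaklyUnramified A B) [CharP K p]
    (π : A) (hπ : maximalIdeal A = Ideal.span {π})
    (z : M) (ξ : L) (hz : z ^ p - z = algebraMap L M ξ)
    (hgenz : IntermediateField.adjoin L {z} = ⊤)
    (n : ℕ) (y : L) (t : ℕ → B) (m : ℕ → ℕ) (a : ℕ → A) (b₀ : B)
    (hξ : ξ = y ^ p - y + ∑ i ∈ Finset.Icc 1 n, term p (B := B) L π i (t i) (m i) (a i)
      + algebraMap B L b₀)
    (hc : ∀ i ∈ Finset.Icc 1 n, StuckOK p i (t i) (m i) ∧ KOK p i (a i))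
    (hne : ∀ i ∈ Finset.Icc 1 n, t i = 0) :
    ∃ (K₁ : Type u) (_ : Field K₁) (_ : Algebra K K₁), FiniteDimensional K K₁ ∧
      Algebra.IsSeparable K K₁ ∧
      IsTotallyRamified A ((algebraMap K K₁).comp (algebraMap A K)) ∧ IsWeakSolution C K M K₁ := by
  classical
  have hp' := hp.out
  set πK : K := algebraMap A K π with hπK
  have hπirr : Irreducible π := (IsDiscreteValuationRing.irreducible_iff_uniformizer π).2 hπ
  have hπK0 : πK ≠ 0 := by
    rw [hπK, Ne, map_eq_zero_iff _ (IsFractionRing.injective A K)]
    exact hπirr.ne_zero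
  let ξK : K := ∑ i ∈ Finset.Icc 1 n, (πK ^ i)⁻¹ * algebraMap A K (a i)
  have hξ' : ξ = y ^ p - y + algebraMap K L ξK + algebraMap B L b₀ := by
    rw [hξ]
    congr 2
    simp only [ξK]
    rw [map_sum]
    apply Finset.sum_congr rfl
    intro i hi
    rw [term, hne i hi, zero_pow (pow_ne_zero _ hp'.ne_zero), zero_add, map_mul, map_inv₀, map_pow,
      hπK, ← IsScalarTower.algebraMap_apply A K L, ← IsScalarTower.algebraMap_apply A K L,
      ← IsScalarTower.algebraMap_apply A B L, ← IsScalarTower.algebraMap_apply A B L]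
  by_cases hall : ∀ i ∈ Finset.Icc 1 n, a i = 0
  · have hξK0 : ξK = 0 := by
      simp only [ξK]
      apply Finset.sum_eq_zero
      intro i hi
      rw [hall i hi, map_zero, mul_zero]
    have hcomp : (algebraMap K K).comp (algebraMap A K) = algebraMap A K := RingHom.ext fun _ => rfl
    have ht : IsTotallyRamified A ((algebraMap K K).comp (algebraMap A K)) := by
      rw [hcomp]; exact Groth.Agent.S7157.Aux.totRam_self A K
    refine ⟨K, inferInstance, inferInstance, inferInstance, inferInstance, ht, ?_⟩
    exact caseI_generic p A B C K L M hAB hw π hπ z ξ hz hgenz y ξK b₀ hξ' K ht 0 (by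
      rw [hξK0, map_zero, zero_pow hp'.ne_zero, sub_zero])
  · push Not at hall
    -- the top nonzero `K`-term
    set S := (Finset.Icc 1 n).filter (fun i => a i ≠ 0) with hS
    have hSne : S.Nonempty := by
      obtain ⟨i, hi, hai⟩ := hall
      exact ⟨i, Finset.mem_filter.2 ⟨hi, hai⟩⟩
    set j := S.max' hSne with hj
    have hjS : j ∈ S := Finset.max'_mem S hSne
    have hjI : j ∈ Finset.Icc 1 n := (Finset.mem_filter.1 hjS).1
    have haj : a j ≠ 0 := (Finset.mem_filter.1 hjS).2
    have hgt : ∀ i ∈ Finset.Icc 1 n, j < i → a i = 0 := by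
      intro i hi hlt
      by_contra h0
      have : i ≤ j := Finset.le_max' S i (Finset.mem_filter.2 ⟨hi, h0⟩)
      omega
    obtain ⟨haju, hpj⟩ := (hc j hjI).2.resolve_left haj
    have hj1 : 0 < j := by have := (Finset.mem_Icc.1 hjI).1; omega
    -- `ξK * πK ^ j` is a unit of `A`
    let c : ℕ → A := fun i => if i < j then π ^ (j - i) * a i else if i = j then a j else 0
    have hterm : ∀ i ∈ Finset.Icc 1 n, (πK ^ i)⁻¹ * algebraMap A K (a i) * πK ^ j
        = algebraMap A K (c i) := by
      intro i hi
      simp only [c]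
      rcases lt_trichotomy i j with h | h | h
      · rw [if_pos h, map_mul, map_pow, ← hπK]
        have : πK ^ j = πK ^ i * πK ^ (j - i) := by rw [← pow_add]; congr 1; omega
        rw [this]
        field_simp
      · subst h
        rw [if_neg (lt_irrefl _), if_pos rfl]
        field_simp
      · rw [if_neg (by omega), if_neg (by omega), hgt i hi h, map_zero, mul_zero, zero_mul]
    let u : A := ∑ i ∈ Finset.Icc 1 n, c i
    have hξKu : ξK * πK ^ j = algebraMap A K u := by
      simp only [ξK, u]
      rw [Finset.sum_mul, map_sum]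
      exact Finset.sum_congr rfl hterm
    have hu : IsUnit u := by
      have h1 : u = c j + ∑ i ∈ (Finset.Icc 1 n).erase j, c i :=
        (Finset.add_sum_erase _ c hjI).symm
      have hcj : c j = a j := by simp [c]
      have h2 : ∑ i ∈ (Finset.Icc 1 n).erase j, c i ∈ maximalIdeal A := by
        apply Ideal.sum_mem
        intro i hi
        have hij : i ≠ j := (Finset.mem_erase.1 hi).1
        simp only [c]
        by_cases hlt : i < j
        · rw [if_pos hlt]
          apply Ideal.mul_mem_right
          rw [hπ]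
          have : π ^ (j - i) = π * π ^ (j - i - 1) := by rw [← pow_succ']; congr 1; omega
          rw [this]
          exact Ideal.mul_mem_right _ _ (Ideal.mem_span_singleton_self π)
        · rw [if_neg hlt, if_neg hij]; exact Ideal.zero_mem _
      by_contra hnu
      have h3 : u ∈ maximalIdeal A := (mem_maximalIdeal _).2 hnu
      have h4 : a j ∈ maximalIdeal A := by
        have : a j = u - ∑ i ∈ (Finset.Icc 1 n).erase j, c i := by rw [h1, hcj]; ring
        rw [this]
        exact Ideal.sub_mem _ h3 h2
      exact (mem_nonunits_iff.1 ((mem_maximalIdeal _).1 h4)) haju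
    -- the Artin–Schreier extension of `K`
    let h : K[X] := X ^ p - (X + Polynomial.C ξK)
    have hmonic : h.Monic := by
      apply Polynomial.monic_X_pow_sub
      refine lt_of_le_of_lt (degree_X_add_C _).le ?_
      exact_mod_cast hp'.one_lt
    have hdeg : h.natDegree = p := by
      simp only [h]
      rw [Polynomial.natDegree_sub_eq_left_of_natDegree_lt, natDegree_X_pow]
      rw [natDegree_X_pow, natDegree_X_add_C]
      exact hp'.one_lt
    have hnu : ¬ IsUnit h := by
      intro hu'
      have := Polynomial.natDegree_eq_zero_of_isUnit hu'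
      rw [hdeg] at this
      exact hp'.ne_zero this
    obtain ⟨h', hirr, hdvd⟩ := WfDvdMonoid.exists_irreducible_factor hnu hmonic.ne_zero
    haveI : Fact (Irreducible h') := ⟨hirr⟩
    let z₀ : AdjoinRoot h' := AdjoinRoot.root h'
    have hz₀ : z₀ ^ p - z₀ = algebraMap K (AdjoinRoot h') ξK := by
      have h1 : AdjoinRoot.mk h' h = 0 := AdjoinRoot.mk_eq_zero.2 hdvd
      simp only [h, map_sub, map_add, map_pow, AdjoinRoot.mk_X, AdjoinRoot.mk_C] at h1
      rw [AdjoinRoot.algebraMap_eq]
      linear_combination h1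
    have hgen₀ : IntermediateField.adjoin K {z₀} = ⊤ :=
      IntermediateField.adjoin_eq_top_of_algebra K _ (AdjoinRoot.adjoinRoot_eq_top)
    have hres := Groth.Agent.S7158.result p hp' A K (AdjoinRoot h') π hπ ξK z₀ hz₀ hgen₀
    obtain ⟨hgal, -, -, hB, -⟩ := hres
    obtain ⟨htot, hfin⟩ := hB j hu.unit hj1 hpj (by rw [hξKu]; rfl)
    haveI : FiniteDimensional K (AdjoinRoot h') :=
      Module.finite_of_finrank_pos (by rw [hfin]; exact hp'.pos)
    have ht : IsTotallyRamified A ((algebraMap K (AdjoinRoot h')).comp (algebraMap A K)) := by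
      rw [← IsScalarTower.algebraMap_eq]; exact htot
    refine ⟨AdjoinRoot h', inferInstance, inferInstance, inferInstance, inferInstance, ht, ?_⟩
    exact caseI_generic p A B C K L M hAB hw π hπ z ξ hz hgenz y ξK b₀ hξ' (AdjoinRoot h') ht z₀ hz₀

end CaseI'

section Final
theorem epp_main (p : ℕ) (hp : p.Prime) (A B C K L M : Type u)
    [CommRing A] [IsDomain A] [IsDiscreteValuationRing A] [CommRing B] [IsDomain B]
    [IsDiscreteValuationRing B] [CommRing C] [IsDomain C] [IsDiscreteValuationRing C]
    [Algebra A B] [Algebra B C] [Algebra A C] [IsScalarTower A B C]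
    (hAB : Function.Injective (algebraMap A B))
    [IsLocalHom (algebraMap A B)] [IsLocalHom (algebraMap B C)]
    [Field K] [Field L] [Field M] [Algebra A K] [IsFractionRing A K] [Algebra B L]
    [IsFractionRing B L] [Algebra C M] [IsFractionRing C M] [Algebra K L] [Algebra L M]
    [Algebra K M] [IsScalarTower K L M] [Algebra A L] [IsScalarTower A K L] [IsScalarTower A B L]
    [Algebra B M] [IsScalarTower B L M] [IsScalarTower B C M] [Algebra A M] [IsScalarTower A K M]
    [IsScalarTower A C M]
    (hw : IsWeaklyUnramified A B) [CharP K p] [IsGalois L M] (hdeg : Module.finrank L M = p)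
    (hk : ∀ x : ResidueField B, (∀ n : ℕ, ∃ y : ResidueField B, y ^ (p ^ n) = x) ↔
      x ∈ Set.range (algebraMap (ResidueField A) (ResidueField B))) :
    ∃ (K₁ : Type u) (_ : Field K₁) (_ : Algebra K K₁), FiniteDimensional K K₁ ∧
      Algebra.IsSeparable K K₁ ∧
      IsTotallyRamified A ((algebraMap K K₁).comp (algebraMap A K)) ∧ IsWeakSolution C K M K₁ := by
  classical
  haveI : Fact p.Prime := ⟨hp⟩
  haveI : CharP L p := charP_of_injective_algebraMap (algebraMap K L).injective p
  have hpB : ((p : ℕ) : B) = 0 := by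
    apply IsFractionRing.injective B L
    rw [map_natCast, map_zero]
    exact CharP.cast_eq_zero L p
  haveI : CharP (ResidueField B) p := by
    rw [CharP.charP_iff_prime_eq_zero hp]
    have := congrArg (residue B) hpB
    rwa [map_natCast, map_zero] at this
  obtain ⟨π, hπirr⟩ := IsDiscreteValuationRing.exists_irreducible A
  have hπ : maximalIdeal A = Ideal.span {π} := hπirr.maximalIdeal_eq
  have hπB : maximalIdeal B = Ideal.span {algebraMap A B π} := by
    have h1 : (maximalIdeal A).map (algebraMap A B) = maximalIdeal B := hw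
    rw [← h1, hπ, Ideal.map_span, Set.image_singleton]
  have hϖirr : Irreducible (algebraMap A B π) :=
    (IsDiscreteValuationRing.irreducible_iff_uniformizer _).2 hπB
  have hπ0 : algebraMap A B π ≠ 0 := hϖirr.ne_zero
  obtain ⟨z, ξ, hz, hgenz⟩ := ASgen.exists_AS_gen p L M hdeg
  -- pole order of `ξ`
  obtain ⟨n, b, hb⟩ : ∃ (n : ℕ) (b : B),
      ξ * algebraMap B L (algebraMap A B π) ^ n = algebraMap B L b := by
    obtain ⟨b, s, hs, rfl⟩ := IsFractionRing.div_surjective (A := B) ξ
    have hs0 : s ≠ 0 := nonZeroDivisors.ne_zero hs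
    obtain ⟨n, u, hu⟩ := IsDiscreteValuationRing.eq_unit_mul_pow_irreducible hs0 hϖirr
    refine ⟨n, b * ((u⁻¹ : Bˣ) : B), ?_⟩
    have hsL : algebraMap B L s ≠ 0 := by
      rw [Ne, map_eq_zero_iff _ (IsFractionRing.injective B L)]; exact hs0
    have h1 : algebraMap B L s = algebraMap B L (u : B) * algebraMap B L (algebraMap A B π) ^ n := by
      rw [hu, map_mul, map_pow]
    have h2 : algebraMap B L (u : B) * algebraMap B L ((u⁻¹ : Bˣ) : B) = 1 := by
      rw [← map_mul, Units.mul_inv, map_one]
    rw [map_mul, div_mul_eq_mul_div, div_eq_iff hsL, h1]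
    linear_combination (-(algebraMap B L b) * algebraMap B L (algebraMap A B π) ^ n) * h2
  obtain ⟨y, t, m, a, b₀, hξ, hc⟩ := EL_main p π hπ hπB hπ0 hk n ξ ⟨b, hb⟩
  by_cases hne : ∃ i ∈ Finset.Icc 1 n, t i ≠ 0
  · exact caseII p A B C K L M hAB hw hk π hπ z ξ hz hgenz n y t m a b₀ hξ hc hne
  · push Not at hne
    exact caseI p A B C K L M hAB hw π hπ z ξ hz hgenz n y t m a b₀ hξ hc hne

end Final

end Epp
end Groth.Agent.Helper9.EtRamLib
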