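import Mathlib
import Groth.Prelude.Def_EtRam
import Groth.Prelude.Def_Found
import Groth.Agent.Lib.Helper9.EtRam.Dom29
import Groth.Agent.Lib.Helper9.EtRam.Dom24
import Groth.Agent.S7132
import Groth.Agent.S7133

set_option autoImplicit false
set_option linter.style.haveILetI false
set_option linter.unusedSectionVars false

namespace Groth.Agent.Helper9.EtRamLib
namespace PIstep
open IsLocalRing EtRam Polynomial

universe u

section Fields
variable (p : ℕ) (hp : p.Prime) (L M : Type u) [Field L] [Field M] [Algebra L M]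
  [IsPurelyInseparable L M] (hdeg : Module.finrank L M = p)

include hp hdeg in
lemma charP_of_pi : CharP L p := by
  haveI : FiniteDimensional L M := Module.finite_of_finrank_pos (by rw [hdeg]; exact hp.pos)
  obtain ⟨q, hexp⟩ : ∃ q, ExpChar L q := ⟨ringExpChar L, inferInstance⟩
  haveI := hexp
  obtain ⟨n, hn⟩ := IsPurelyInseparable.finrank_eq_pow (F := L) M q
  rw [hdeg] at hn
  cases hexp with
  | zero =>
    rw [one_pow] at hn
    exact absurd hn hp.ne_one
  | prime hq =>
    have hn0 : n ≠ 0 := by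
      rintro rfl
      rw [pow_zero] at hn
      exact hp.ne_one hn
    have hdvd : q ∣ p := by rw [hn]; exact dvd_pow_self q hn0
    have : q = p := (Nat.prime_dvd_prime_iff_eq hq hp).1 hdvd
    subst this
    infer_instance

include hp hdeg in
lemma pow_mem_range [CharP L p] (y : M) : ∃ l : L, algebraMap L M l = y ^ p := by
  haveI : FiniteDimensional L M := Module.finite_of_finrank_pos (by rw [hdeg]; exact hp.pos)
  haveI : Fact p.Prime := ⟨hp⟩
  haveI : ExpChar L p := ExpChar.prime hp
  obtain ⟨n, a, hmin⟩ := IsPurelyInseparable.minpoly_eq_X_pow_sub_C L p y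
  have h1 : (minpoly L y).natDegree ≤ p := by
    rw [← hdeg]; exact minpoly.natDegree_le y
  rw [hmin, natDegree_X_pow_sub_C] at h1
  have h2 : aeval y (minpoly L y) = 0 := minpoly.aeval L y
  rw [hmin] at h2
  simp only [map_sub, map_pow, aeval_X, aeval_C] at h2
  have hn : n ≤ 1 := by
    by_contra hcon
    push Not at hcon
    have : p ^ 2 ≤ p ^ n := Nat.pow_le_pow_right hp.pos hcon
    have h3 : p * p ≤ p := by rw [← sq]; exact this.trans h1
    have := hp.two_le
    nlinarith
  interval_cases n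
  · rw [pow_zero, pow_one, sub_eq_zero] at h2
    exact ⟨a ^ p, by rw [map_pow, ← h2]⟩
  · rw [pow_one, sub_eq_zero] at h2
    exact ⟨a, h2.symm⟩

include hp hdeg in
lemma adjoin_eq_top {y : M} (hy : y ∉ Set.range (algebraMap L M)) :
    IntermediateField.adjoin L {y} = ⊤ := by
  haveI : FiniteDimensional L M := Module.finite_of_finrank_pos (by rw [hdeg]; exact hp.pos)
  have h1 : Module.finrank L (IntermediateField.adjoin L {y}) ∣ p := by
    rw [← hdeg]
    exact ⟨_, (Module.finrank_mul_finrank L (IntermediateField.adjoin L {y}) M).symm⟩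
  rcases (Nat.dvd_prime hp).1 h1 with h | h
  · exfalso
    rw [IntermediateField.finrank_adjoin_simple_eq_one_iff] at h
    obtain ⟨l, hl⟩ := IntermediateField.mem_bot.1 h
    exact hy ⟨l, hl⟩
  · apply IntermediateField.eq_of_le_of_finrank_eq le_top
    rw [h, IntermediateField.finrank_top', hdeg]

end Fields

section DVR
variable (p : ℕ) (hp : p.Prime) {B C L M : Type u} [CommRing B] [IsDomain B]
  [IsDiscreteValuationRing B] [CommRing C] [IsDomain C] [IsDiscreteValuationRing C] [Algebra B C]
  (hBC : Function.Injective (algebraMap B C)) [IsLocalHom (algebraMap B C)]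
  [Field L] [Field M] [Algebra B L] [IsFractionRing B L] [Algebra C M] [IsFractionRing C M]
  [Algebra L M] [Algebra B M] [IsScalarTower B L M] [IsScalarTower B C M]
  [IsPurelyInseparable L M] (hdeg : Module.finrank L M = p)

include hp hBC hdeg in
lemma ram_dichotomy [CharP L p] :
    Ideal.ramificationIdx' (maximalIdeal B) (maximalIdeal C) = 1 ∨
    (Ideal.ramificationIdx' (maximalIdeal B) (maximalIdeal C) = p ∧
      Module.finrank (ResidueField B) (ResidueField C) = 1) := by
  haveI : FiniteDimensional L M := Module.finite_of_finrank_pos (by rw [hdeg]; exact hp.pos)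
  obtain ⟨hfin, hle⟩ := Groth.Agent.S7132.result B C L M hBC
  obtain ⟨k, hk⟩ := Groth.Agent.S7133.result B C L M hBC p hp
  rw [hdeg] at hle
  have hf : 0 < Module.finrank (ResidueField B) (ResidueField C) := Module.finrank_pos
  rcases Nat.eq_zero_or_pos k with h0 | hpos
  · left; rw [hk, h0, pow_zero]
  · right
    have h1 : p ≤ p ^ k := by
      calc p = p ^ 1 := (pow_one p).symm
        _ ≤ p ^ k := Nat.pow_le_pow_right hp.pos hpos
    rw [hk] at hle ⊢
    have h2 : p ^ k * Module.finrank (ResidueField B) (ResidueField C) ≤ p := hle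
    have h3 : p ^ k ≤ p ^ k * Module.finrank (ResidueField B) (ResidueField C) :=
      Nat.le_mul_of_pos_right _ hf
    have h4 : p ^ k = p := le_antisymm (h3.trans h2) h1
    refine ⟨h4, ?_⟩
    rw [h4] at h2
    have hp0 := hp.pos
    nlinarith

/-- `C ∩ L = B`. -/
lemma inter_eq' {x : L} {c : C} (hx : algebraMap L M x = algebraMap C M c) :
    ∃ b : B, algebraMap B L b = x :=
  Nag.inter_eq (A := B) (B := C) (K := L) (L := M) ⟨c, hx.symm⟩

include hp hBC hdeg in
lemma exists_unit [CharP L p]
    (he : Ideal.ramificationIdx' (maximalIdeal B) (maximalIdeal C) = p)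
    {ϖ : B} (hϖ : Irreducible ϖ) {πC : C} (hπC : Irreducible πC) :
    ∃ u : Bˣ, πC ^ p = algebraMap B C (u * ϖ) := by
  obtain ⟨l, hl⟩ := pow_mem_range p hp L M hdeg (algebraMap C M πC)
  rw [← map_pow] at hl
  obtain ⟨b', hb'⟩ := inter_eq' (B := B) hl
  have hb'C : algebraMap B C b' = πC ^ p := by
    apply IsFractionRing.injective C M
    rw [← hl, ← hb', ← IsScalarTower.algebraMap_apply, ← IsScalarTower.algebraMap_apply]
  obtain ⟨u', hu'⟩ := exists_unit_mul_pow hBC hϖ hπC
  rw [he] at hu'
  -- `b'` and `ϖ` are associated in `C`, hence in `B`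
  have hb'0 : b' ≠ 0 := by
    intro h
    rw [h, map_zero] at hb'C
    exact pow_ne_zero p hπC.ne_zero hb'C.symm
  have hϖ0 : ϖ ≠ 0 := hϖ.ne_zero
  obtain ⟨n, u, hu⟩ := IsDiscreteValuationRing.eq_unit_mul_pow_irreducible hb'0 hϖ
  -- compare: b' = u ϖ^n, ϖ = u' πC^p, b' = πC^p
  have h1 : πC ^ p = algebraMap B C (u : B) * (u' * πC ^ p) ^ n := by
    have h0 := hb'C.symm
    rw [hu, map_mul, map_pow, hu'] at h0
    exact h0
  have hn : n = 1 := by
    have hπCp0 : πC ^ p ≠ 0 := pow_ne_zero p hπC.ne_zero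
    rcases Nat.lt_trichotomy n 1 with h | h | h
    · exfalso
      have hn0 : n = 0 := by omega
      rw [hn0, pow_zero, mul_one] at h1
      have hunit : IsUnit (πC ^ p) := by
        rw [h1]; exact u.isUnit.map _
      exact hπC.not_isUnit (isUnit_of_mul_isUnit_left (by
        have : πC ^ p = πC * πC ^ (p - 1) := by
          rw [← pow_succ']; congr 1; have := hp.pos; omega
        rwa [this] at hunit))
    · exact h
    · exfalso
      obtain ⟨k, rfl⟩ : ∃ k, n = k + 2 := ⟨n - 2, by omega⟩
      have h2 : πC ^ p * 1 = πC ^ p * (algebraMap B C (u : B) * (u' : C) ^ (k + 2)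
          * (πC ^ p) ^ (k + 1)) := by
        rw [mul_one]
        conv_lhs => rw [h1]
        ring
      have h3 := mul_left_cancel₀ hπCp0 h2
      have hunit : IsUnit ((πC ^ p) ^ (k + 1)) :=
        IsUnit.of_mul_eq_one_right _ h3.symm
      have hunit' : IsUnit (πC ^ (p * (k + 1))) := by rwa [pow_mul]
      have hpos : 0 < p * (k + 1) := Nat.mul_pos hp.pos (Nat.succ_pos k)
      exact hπC.not_isUnit ((isUnit_pow_iff hpos.ne').1 hunit')
  subst hn
  rw [pow_one] at hu
  exact ⟨u, by rw [← hb'C, hu]⟩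

omit [IsDomain B] [IsDiscreteValuationRing B] [IsDomain C] [IsDiscreteValuationRing C] in
lemma res_surj [IsLocalRing B] [IsLocalRing C]
    (hf : Module.finrank (ResidueField B) (ResidueField C) = 1) (c : C) :
    ∃ b : B, c - algebraMap B C b ∈ maximalIdeal C := by
  obtain ⟨r, hr⟩ := (finrank_eq_one_iff_of_nonzero' (1 : ResidueField C) one_ne_zero).1 hf
    (residue C c)
  obtain ⟨b, rfl⟩ := residue_surjective r
  refine ⟨b, ?_⟩
  rw [← residue_eq_zero_iff, map_sub, ← hr, Algebra.smul_def, mul_one, sub_eq_zero]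
  rfl

end DVR

section Approx
variable (p : ℕ) {B : Type u} [CommRing B] [IsLocalRing B] (ϖ : B)

/-- `u` is a `p`-th power polynomial in `ϖ` up to order `m`. -/
def Q (u : B) (m : ℕ) : Prop :=
  ∃ (c : ℕ → B) (d : B), u = ∑ i ∈ Finset.range m, (c i) ^ p * ϖ ^ i + d * ϖ ^ m

/-- the approximation gets stuck at order `m`. -/
def Stuck (u : B) (m : ℕ) : Prop :=
  ∃ (c : ℕ → B) (b : B), u = ∑ i ∈ Finset.range m, (c i) ^ p * ϖ ^ i + b * ϖ ^ m ∧
    ∀ r : B, residue B b ≠ residue B r ^ p

lemma dichotomy (hϖ : maximalIdeal B = Ideal.span {ϖ}) (u : B) :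
    (∃ m, Stuck p ϖ u m) ∨ ∀ m, Q p ϖ u m := by
  classical
  by_cases h : ∃ m, Stuck p ϖ u m
  · exact Or.inl h
  right
  intro m
  induction m with
  | zero => exact ⟨fun _ => 0, u, by simp⟩
  | succ m ih =>
    obtain ⟨c, d, hu⟩ := ih
    by_cases hd : ∀ r : B, residue B d ≠ residue B r ^ p
    · exact absurd ⟨m, c, d, hu, hd⟩ h
    push Not at hd
    obtain ⟨r, hr⟩ := hd
    have h1 : d - r ^ p ∈ maximalIdeal B := by
      rw [← residue_eq_zero_iff, map_sub, map_pow, hr, sub_self]
    rw [hϖ, Ideal.mem_span_singleton] at h1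
    obtain ⟨d', hd'⟩ := h1
    refine ⟨Function.update c m r, d', ?_⟩
    rw [Finset.sum_range_succ, Function.update_self]
    have h2 : ∑ i ∈ Finset.range m, (Function.update c m r i) ^ p * ϖ ^ i
        = ∑ i ∈ Finset.range m, (c i) ^ p * ϖ ^ i := by
      apply Finset.sum_congr rfl
      intro i hi
      rw [Function.update_of_ne (Finset.mem_range.1 hi).ne]
    rw [h2, hu]
    have h3 : d = r ^ p + ϖ * d' := by rw [← hd']; ring
    rw [h3]; ring

end Approx

end PIstep
end Groth.Agent.Helper9.EtRamLib
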