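import Mathlib
import Groth.Prelude.Def_EtRam
import Groth.Prelude.Def_Found
import Groth.Agent.Lib.Helper9.EtRam.Dom30

set_option autoImplicit false
set_option linter.style.haveILetI false
set_option linter.unusedSectionVars false

namespace Groth.Agent.Helper9.EtRamLib
namespace PIstep
open IsLocalRing EtRam Polynomial

universe u

lemma krull_mem {R E : Type*} [CommRing R] [IsNoetherianRing R] [IsLocalRing R]
    [AddCommGroup E] [Module R E] [Module.Finite R E] (D : Submodule R E) {r : R}
    (hr : r ∈ IsLocalRing.maximalIdeal R) {θ : E}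
    (h : ∀ m : ℕ, ∃ s ∈ D, ∃ e : E, θ = s + r ^ m • e) : θ ∈ D := by
  have h1 : D.mkQ θ ∈ (⨅ i : ℕ, (IsLocalRing.maximalIdeal R) ^ i • ⊤ : Submodule R (E ⧸ D)) := by
    rw [Submodule.mem_iInf]
    intro m
    obtain ⟨s, hs, e, he⟩ := h m
    have : D.mkQ θ = r ^ m • D.mkQ e := by
      have h0 : D.mkQ s = 0 := (Submodule.Quotient.mk_eq_zero D).2 hs
      rw [he, map_add, map_smul, h0, zero_add]
    rw [this]
    exact Submodule.smul_mem_smul (Ideal.pow_mem_pow hr m) trivial
  rw [Ideal.iInf_pow_smul_eq_bot_of_isLocalRing _ (IsLocalRing.maximalIdeal.isMaximal R).ne_top,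
    Submodule.mem_bot] at h1
  exact (Submodule.Quotient.mk_eq_zero D).1 h1

section Root
variable (p : ℕ) (hp : p.Prime) {B C L M : Type u} [CommRing B] [IsDomain B]
  [IsDiscreteValuationRing B] [CommRing C] [IsDomain C] [IsDiscreteValuationRing C] [Algebra B C]
  (hBC : Function.Injective (algebraMap B C)) [IsLocalHom (algebraMap B C)]
  [Field L] [Field M] [Algebra B L] [IsFractionRing B L] [Algebra C M] [IsFractionRing C M]
  [Algebra L M] [Algebra B M] [IsScalarTower B L M] [IsScalarTower B C M]
  [IsPurelyInseparable L M] (hdeg : Module.finrank L M = p) [CharP L p]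
  (hB : Nag.N2' B) {ϖ : B} (hϖ : Irreducible ϖ) {πC : C} (hπC : Irreducible πC) (u : Bˣ)
  (hu : πC ^ p = algebraMap B C (u * ϖ)) (hQ : ∀ m, Q p ϖ (u : B) m)

include hp hdeg hϖ hu in
lemma piC_not_mem : algebraMap C M πC ∉ Set.range (algebraMap L M) := by
  rintro ⟨l, hl⟩
  obtain ⟨b, rfl⟩ := inter_eq' (B := B) hl
  have h1 : algebraMap B C b = πC := by
    apply IsFractionRing.injective C M
    rw [← hl, ← IsScalarTower.algebraMap_apply, ← IsScalarTower.algebraMap_apply]
  have h2 : b ^ p = u * ϖ := by
    have hinjBM : Function.Injective (algebraMap B M) := by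
      rw [IsScalarTower.algebraMap_eq B L M]
      exact (algebraMap L M).injective.comp (IsFractionRing.injective B L)
    apply hinjBM
    rw [map_pow, IsScalarTower.algebraMap_apply B C M, h1, ← map_pow, hu,
      ← IsScalarTower.algebraMap_apply B C M]
  have hprime : Prime ϖ := hϖ.prime
  have h3 : ϖ ∣ b ^ p := ⟨u, by rw [h2]; ring⟩
  obtain ⟨b₁, rfl⟩ := hprime.dvd_of_dvd_pow h3
  have hp2 := hp.two_le
  obtain ⟨k, rfl⟩ : ∃ k, p = k + 2 := ⟨p - 2, by omega⟩
  have h4 : ϖ * (ϖ ^ (k + 1) * b₁ ^ (k + 2)) = ϖ * u := by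
    rw [mul_comm ϖ (u : B), ← h2]; ring
  have h5 := mul_left_cancel₀ hϖ.ne_zero h4
  have h6 : IsUnit (ϖ ^ (k + 1) * b₁ ^ (k + 2)) := by rw [h5]; exact u.isUnit
  have h7 : IsUnit (ϖ ^ (k + 1)) := isUnit_of_mul_isUnit_left h6
  exact hϖ.not_isUnit ((isUnit_pow_iff (Nat.succ_ne_zero k)).1 h7)

include hp hdeg hB hϖ hu hQ in
lemma piC_mem_adjoin (N : Type u) [Field N] [Algebra M N] [Algebra L N] [IsScalarTower L M N]
    [Algebra B N] [IsScalarTower B L N] [IsScalarTower B M N] [FiniteDimensional M N]
    (ρ : N) (hρp : ρ ^ p = algebraMap B N ϖ) :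
    algebraMap M N (algebraMap C M πC) ∈ Algebra.adjoin B {ρ} := by
  classical
  haveI : Fact p.Prime := ⟨hp⟩
  haveI : FiniteDimensional L M := Module.finite_of_finrank_pos (by rw [hdeg]; exact hp.pos)
  haveI : FiniteDimensional L N := Module.Finite.trans M N
  haveI hEfin : Module.Finite B (integralClosure B N) := hB L N
  haveI : CharP N p := charP_of_injective_algebraMap (algebraMap L N).injective p
  have hinjBN : Function.Injective (algebraMap B N) := by
    rw [IsScalarTower.algebraMap_eq B L N]
    exact (algebraMap L N).injective.comp (IsFractionRing.injective B L)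
  have hϖN0 : algebraMap B N ϖ ≠ 0 := by
    rw [Ne, map_eq_zero_iff _ hinjBN]; exact hϖ.ne_zero
  have hρ0 : ρ ≠ 0 := by
    rintro rfl
    rw [zero_pow hp.ne_zero] at hρp
    exact hϖN0 hρp.symm
  set P' : N := algebraMap M N (algebraMap C M πC) with hP'
  have hP'p : P' ^ p = algebraMap B N (u * ϖ) := by
    rw [hP', ← map_pow, ← map_pow, hu, ← IsScalarTower.algebraMap_apply B C M,
      ← IsScalarTower.algebraMap_apply B M N]
  set θ : N := P' / ρ with hθ
  have hθp : θ ^ p = algebraMap B N (u : B) := by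
    rw [hθ, div_pow, hP'p, hρp, map_mul]
    field_simp
  have hθint : IsIntegral B θ := IsIntegral.of_pow hp.pos (hθp ▸ isIntegral_algebraMap)
  have hρint : IsIntegral B ρ := IsIntegral.of_pow hp.pos (hρp ▸ isIntegral_algebraMap)
  -- Krull intersection
  let E := integralClosure B N
  let D' : Subalgebra B N := Algebra.adjoin B {ρ}
  have hρD' : ρ ∈ D' := Algebra.subset_adjoin rfl
  let D : Submodule B E := Submodule.comap E.val.toLinearMap D'.toSubmodule
  have hθD : (⟨θ, hθint⟩ : E) ∈ D := by
    apply krull_mem D (r := ϖ) ((mem_maximalIdeal _).2 hϖ.not_isUnit)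
    intro m
    obtain ⟨c, d, hud⟩ := hQ (p * m)
    set s : N := ∑ i ∈ Finset.range (p * m), algebraMap B N (c i) * ρ ^ i with hs
    have hsD' : s ∈ D' := by
      apply sum_mem
      intro i _
      exact mul_mem (D'.algebraMap_mem _) (pow_mem hρD' i)
    have hsint : IsIntegral B s := by
      apply IsIntegral.sum
      intro i _
      exact isIntegral_algebraMap.mul (hρint.pow i)
    have hρpm : ρ ^ (p * m) = algebraMap B N (ϖ ^ m) := by
      rw [pow_mul, hρp, map_pow]
    have hwp : (θ - s) ^ p = algebraMap B N d * (ρ ^ (p * m)) ^ p := by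
      rw [sub_pow_char, hθp, hs, sum_pow_char]
      have h1 : ∑ i ∈ Finset.range (p * m), (algebraMap B N (c i) * ρ ^ i) ^ p
          = algebraMap B N (∑ i ∈ Finset.range (p * m), (c i) ^ p * ϖ ^ i) := by
        rw [map_sum]
        apply Finset.sum_congr rfl
        intro i _
        rw [mul_pow, ← pow_mul, mul_comm i p, pow_mul, hρp, map_mul, map_pow, map_pow]
      rw [h1, ← map_sub]
      have h2 : (u : B) - ∑ i ∈ Finset.range (p * m), (c i) ^ p * ϖ ^ i = d * ϖ ^ (p * m) := by
        conv_lhs => rw [hud]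
        ring
      rw [h2, map_mul, map_pow, ← hρp, ← pow_mul, ← pow_mul]
      congr 2
      ring
    set e' : N := (θ - s) / ρ ^ (p * m) with he'
    have hρpm0 : ρ ^ (p * m) ≠ 0 := pow_ne_zero _ hρ0
    have he'p : e' ^ p = algebraMap B N d := by
      rw [he', div_pow, hwp]
      field_simp
    have he'int : IsIntegral B e' := IsIntegral.of_pow hp.pos (he'p ▸ isIntegral_algebraMap)
    refine ⟨⟨s, hsint⟩, hsD', ⟨e', he'int⟩, ?_⟩
    apply Subtype.ext
    show θ = s + (ϖ ^ m) • e'
    rw [Algebra.smul_def, ← hρpm, he']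
    field_simp
    ring
  have hθD' : θ ∈ D' := hθD
  have : P' = θ * ρ := by rw [hθ]; field_simp
  rw [this]
  exact mul_mem hθD' hρD'

include hp hdeg hB hϖ hu hQ in
lemma root_mem_range (N : Type u) [Field N] [Algebra M N] [Algebra L N] [IsScalarTower L M N]
    [Algebra B N] [IsScalarTower B L N] [IsScalarTower B M N] [FiniteDimensional M N]
    (ρ : N) (hρp : ρ ^ p = algebraMap B N ϖ) :
    ∃ c₀ : M, algebraMap M N c₀ = ρ := by
  classical
  haveI : FiniteDimensional L M := Module.finite_of_finrank_pos (by rw [hdeg]; exact hp.pos)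
  haveI : FiniteDimensional L N := Module.Finite.trans M N
  have hP'D' := piC_mem_adjoin p hp hdeg hB hϖ u hu hQ N ρ hρp
  let Lρ : IntermediateField L N := IntermediateField.adjoin L {ρ}
  have hρLρ : ρ ∈ Lρ := IntermediateField.mem_adjoin_simple_self L ρ
  have hD'Lρ : ∀ x ∈ Algebra.adjoin B {ρ}, x ∈ Lρ := by
    intro x hx
    induction hx using Algebra.adjoin_induction with
    | mem x hx => rw [Set.mem_singleton_iff] at hx; rw [hx]; exact hρLρ
    | algebraMap b =>
      rw [IsScalarTower.algebraMap_apply B L N]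
      exact Lρ.algebraMap_mem _
    | add x y _ _ hx hy => exact add_mem hx hy
    | mul x y _ _ hx hy => exact mul_mem hx hy
  have hP'Lρ := hD'Lρ _ hP'D'
  have htop := adjoin_eq_top p hp L M hdeg (piC_not_mem p hp hdeg hϖ u hu)
  have hMLρ : ∀ y : M, algebraMap M N y ∈ Lρ := by
    intro y
    have hy : y ∈ IntermediateField.adjoin L {algebraMap C M πC} := by rw [htop]; trivial
    induction hy using IntermediateField.adjoin_induction with
    | mem x hx => rw [Set.mem_singleton_iff] at hx; rw [hx]; exact hP'Lρ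
    | algebraMap l =>
      rw [← IsScalarTower.algebraMap_apply L M N]
      exact Lρ.algebraMap_mem _
    | add x y _ _ hx hy => rw [map_add]; exact add_mem hx hy
    | inv x _ hx => rw [map_inv₀]; exact inv_mem hx
    | mul x y _ _ hx hy => rw [map_mul]; exact mul_mem hx hy
  let M' : IntermediateField L N := (IsScalarTower.toAlgHom L M N).fieldRange
  have hM'le : M' ≤ Lρ := by
    rintro x ⟨y, rfl⟩
    exact hMLρ y
  have hfinM' : Module.finrank L M' = p := by
    rw [← hdeg]
    exact (AlgEquiv.ofInjectiveField (IsScalarTower.toAlgHom L M N)).toLinearEquiv.finrank_eq.symm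
  have hρint : IsIntegral L ρ := by
    refine ⟨X ^ p - Polynomial.C (algebraMap B L ϖ), monic_X_pow_sub_C _ hp.ne_zero, ?_⟩
    simp only [eval₂_sub, eval₂_pow, eval₂_X, eval₂_C]
    rw [hρp, ← IsScalarTower.algebraMap_apply B L N, sub_self]
  have hfinLρ : Module.finrank L Lρ ≤ p := by
    rw [IntermediateField.adjoin.finrank hρint]
    have hdvd : minpoly L ρ ∣ X ^ p - Polynomial.C (algebraMap B L ϖ) := by
      apply minpoly.dvd
      simp only [map_sub, map_pow, aeval_X, aeval_C]
      rw [hρp, ← IsScalarTower.algebraMap_apply B L N, sub_self]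
    have := Polynomial.natDegree_le_of_dvd hdvd (X_pow_sub_C_ne_zero hp.pos _)
    rwa [natDegree_X_pow_sub_C] at this
  have heq : M' = Lρ := IntermediateField.eq_of_le_of_finrank_le hM'le (by rw [hfinM']; exact hfinLρ)
  have : ρ ∈ M' := by rw [heq]; exact hρLρ
  obtain ⟨c₀, hc₀⟩ := this
  exact ⟨c₀, hc₀⟩

include hp hdeg hB hϖ hu hQ in
lemma exists_root_in_M : ∃ c₀ : M, c₀ ^ p = algebraMap B M ϖ := by
  classical
  let f : M[X] := X ^ p - Polynomial.C (algebraMap B M ϖ)
  haveI : IsScalarTower B L f.SplittingField := IsScalarTower.of_algebraMap_eq (fun b => by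
    rw [IsScalarTower.algebraMap_apply B M f.SplittingField, IsScalarTower.algebraMap_apply B L M,
      ← IsScalarTower.algebraMap_apply L M f.SplittingField])
  have hfdeg : (f.map (algebraMap M f.SplittingField)).degree ≠ 0 := by
    rw [Polynomial.degree_map]
    simp only [f]
    rw [degree_X_pow_sub_C hp.pos]
    exact_mod_cast hp.ne_zero
  obtain ⟨ρ, hρ⟩ := (Polynomial.SplittingField.splits f).exists_eval_eq_zero hfdeg
  have hρp : ρ ^ p = algebraMap B f.SplittingField ϖ := by
    simp only [f, Polynomial.map_sub, Polynomial.map_pow, Polynomial.map_X, Polynomial.map_C,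
      eval_sub, eval_pow, eval_X, eval_C] at hρ
    rw [sub_eq_zero] at hρ
    rw [hρ, ← IsScalarTower.algebraMap_apply B M f.SplittingField]
  obtain ⟨c₀, hc₀⟩ := root_mem_range p hp hdeg hB hϖ u hu hQ f.SplittingField ρ hρp
  refine ⟨c₀, ?_⟩
  apply (algebraMap M f.SplittingField).injective
  rw [map_pow, hc₀, hρp, ← IsScalarTower.algebraMap_apply B M f.SplittingField]

include hp hdeg in
lemma isIntegral_of_pi (c' : C) : IsIntegral B (algebraMap C M c') := by
  obtain ⟨l, hl⟩ := pow_mem_range p hp L M hdeg (algebraMap C M c')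
  rw [← map_pow] at hl
  obtain ⟨b, rfl⟩ := inter_eq' (B := B) hl
  apply IsIntegral.of_pow hp.pos
  rw [← map_pow, ← hl, ← IsScalarTower.algebraMap_apply B L M]
  exact isIntegral_algebraMap

include hp hdeg hB in
lemma finite_C : Module.Finite B C := by
  haveI : FiniteDimensional L M := Module.finite_of_finrank_pos (by rw [hdeg]; exact hp.pos)
  haveI hfin : Module.Finite B (integralClosure B M) := hB L M
  haveI : IsNoetherian B (integralClosure B M) := isNoetherian_of_isNoetherianRing_of_finite B _
  let φ : C →ₐ[B] integralClosure B M :=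
    (IsScalarTower.toAlgHom B C M).codRestrict (integralClosure B M)
      (fun c' => isIntegral_of_pi p hp hdeg c')
  apply Module.Finite.of_injective φ.toLinearMap
  intro x y hxy
  apply IsFractionRing.injective C M
  exact congrArg Subtype.val hxy

include hp hdeg hB hϖ hπC hu hQ in
theorem root_case (hf : Module.finrank (ResidueField B) (ResidueField C) = 1) :
    ∃ c : C, c ^ p = algebraMap B C ϖ ∧ Algebra.adjoin B {c} = ⊤ := by
  classical
  obtain ⟨c₀, hc₀⟩ := exists_root_in_M p hp hdeg hB hϖ u hu hQ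
  have hint : IsIntegral C c₀ := by
    apply IsIntegral.of_pow hp.pos
    rw [hc₀, IsScalarTower.algebraMap_apply B C M]
    exact isIntegral_algebraMap
  obtain ⟨c, hc⟩ := IsIntegrallyClosed.algebraMap_eq_of_integral (R := C) (K := M) hint
  have hcp : c ^ p = algebraMap B C ϖ := by
    apply IsFractionRing.injective C M
    rw [map_pow, hc, hc₀, ← IsScalarTower.algebraMap_apply B C M]
  refine ⟨c, hcp, ?_⟩
  -- `c` is a uniformizer
  have hc0 : c ≠ 0 := by
    rintro rfl
    rw [zero_pow hp.ne_zero] at hcp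
    have : algebraMap B C ϖ ≠ 0 := by
      intro h
      have hinjBM : Function.Injective (algebraMap B M) := by
        rw [IsScalarTower.algebraMap_eq B L M]
        exact (algebraMap L M).injective.comp (IsFractionRing.injective B L)
      have h2 : algebraMap B M ϖ = 0 := by
        rw [IsScalarTower.algebraMap_apply B C M, h, map_zero]
      exact hϖ.ne_zero ((map_eq_zero_iff _ hinjBM).1 h2)
    exact this hcp.symm
  obtain ⟨k, v, hv⟩ := IsDiscreteValuationRing.eq_unit_mul_pow_irreducible hc0 hπC
  have hk : k = 1 := by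
    have h1 : πC ^ p = algebraMap B C (u : B) * c ^ p := by rw [hu, map_mul, hcp]
    rw [hv, mul_pow, ← pow_mul] at h1
    let w : Cˣ := Units.map (algebraMap B C).toMonoidHom u * v ^ p
    have h2 : ((1 : Cˣ) : C) * πC ^ p = (w : C) * πC ^ (k * p) := by
      rw [Units.val_one, one_mul, h1]
      simp only [w, Units.val_mul, Units.val_pow_eq_pow_val, Units.coe_map,
        RingHom.toMonoidHom_eq_coe, MonoidHom.coe_coe]
      ring
    have h3 := IsDiscreteValuationRing.unit_mul_pow_congr_pow hπC hπC 1 w p (k * p) h2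
    have hp0 := hp.pos
    nlinarith
  subst hk
  rw [pow_one] at hv
  have hmax : maximalIdeal C = Ideal.span {c} := by
    rw [hπC.maximalIdeal_eq, hv, Ideal.span_singleton_eq_span_singleton]
    exact (associated_unit_mul_left _ _ v.isUnit).symm
  -- Nakayama
  haveI : Module.Finite B C := finite_C p hp hdeg hB
  set S : Subalgebra B C := Algebra.adjoin B {c} with hS
  have hcS : c ∈ S := Algebra.subset_adjoin rfl
  have key : ∀ k : ℕ, ∀ y : C, ∃ s ∈ S, ∃ y' : C, y = s + c ^ k * y' := by
    intro k
    induction k with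
    | zero => intro y; exact ⟨0, zero_mem _, y, by simp⟩
    | succ k ih =>
      intro y
      obtain ⟨s, hs, y', hy⟩ := ih y
      obtain ⟨b, hb⟩ := res_surj hf y'
      rw [hmax, Ideal.mem_span_singleton] at hb
      obtain ⟨y'', hy''⟩ := hb
      refine ⟨s + c ^ k * algebraMap B C b, add_mem hs (mul_mem (pow_mem hcS k)
        (S.algebraMap_mem b)), y'', ?_⟩
      have : y' = algebraMap B C b + c * y'' := by rw [← hy'']; ring
      rw [hy, this]; ring
  rw [eq_top_iff]
  have hle : (⊤ : Submodule B C) ≤ S.toSubmodule := by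
    apply Submodule.le_of_le_smul_of_le_jacobson_bot (I := maximalIdeal B) Module.Finite.fg_top
      (IsLocalRing.maximalIdeal_le_jacobson ⊥)
    intro y _
    obtain ⟨s, hs, y', hy⟩ := key p y
    rw [Submodule.mem_sup]
    refine ⟨s, hs, c ^ p * y', ?_, hy.symm⟩
    rw [hcp, ← Algebra.smul_def]
    exact Submodule.smul_mem_smul ((mem_maximalIdeal _).2 hϖ.not_isUnit) trivial
  intro y _
  exact hle trivial

end Root

end PIstep
end Groth.Agent.Helper9.EtRamLib
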