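import Mathlib
import Groth.Prelude.Def_EtRam
import Groth.Prelude.Def_Found
import Groth.Agent.Lib.Helper9.EtRam.Dom31

set_option autoImplicit false
set_option linter.style.haveILetI false
set_option linter.unusedSectionVars false

namespace Groth.Agent.Helper9.EtRamLib
namespace PIstep
open IsLocalRing EtRam Polynomial

universe u

lemma key_identity (p : ℕ) [hp : Fact p.Prime] {R : Type*} [CommRing R] [CharP R p]
    {ϖ x g ginv u b : R} {c : ℕ → R} {m : ℕ}
    (hx : x ^ p = ϖ * g) (hg : g = ϖ ^ (m + 1) * x + 1) (hginv : g * ginv = 1)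
    (hu : u = ∑ i ∈ Finset.range m, (c i) ^ p * ϖ ^ i + b * ϖ ^ m) :
    ∃ r : R, u * ginv = (∑ i ∈ Finset.range m, c i * x ^ i) ^ p + b * x ^ (p * m)
      + x ^ (p * (m + 1)) * r := by
  set J : Ideal R := Ideal.span {x ^ (p * (m + 1))} with hJ
  let mk := Ideal.Quotient.mk J
  have h1 : mk (ϖ ^ (m + 1)) = 0 := by
    rw [Ideal.Quotient.eq_zero_iff_mem, hJ, Ideal.mem_span_singleton]
    refine ⟨ginv ^ (m + 1), ?_⟩
    have : ϖ ^ (m + 1) = ϖ ^ (m + 1) * (g * ginv) ^ (m + 1) := by rw [hginv, one_pow, mul_one]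
    rw [this, pow_mul, hx]; ring
  have h2 : mk g = 1 := by
    rw [hg, map_add, map_mul, h1, zero_mul, zero_add, map_one]
  have h3 : mk ginv = 1 := by
    have := congrArg mk hginv
    rwa [map_mul, h2, one_mul, map_one] at this
  have h4 : mk ϖ = mk x ^ p := by
    have := congrArg mk hx
    rw [map_mul, h2, mul_one, map_pow] at this
    exact this.symm
  have h5 : mk (u * ginv - ((∑ i ∈ Finset.range m, c i * x ^ i) ^ p + b * x ^ (p * m))) = 0 := by
    rw [sum_pow_char, map_sub, map_mul, h3, mul_one, hu]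
    simp only [map_add, map_sum, map_mul, map_pow, h4]
    rw [sub_eq_zero]
    congr 1
    · apply Finset.sum_congr rfl
      intro i _
      rw [mul_pow, ← pow_mul, ← pow_mul, mul_comm p i]
    · rw [← pow_mul]
  rw [Ideal.Quotient.eq_zero_iff_mem, hJ, Ideal.mem_span_singleton] at h5
  obtain ⟨r, hr⟩ := h5
  exact ⟨r, by rw [← hr]; ring⟩

section LayerPI
variable (p : ℕ) [hp : Fact p.Prime] {B L : Type u} [CommRing B] [IsDomain B]
  [IsDiscreteValuationRing B] [Field L] [Algebra B L] [IsFractionRing B L] [CharP L p]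
  (ϖ : B) (hϖ : Irreducible ϖ) (m : ℕ)

open Epp in
include hp hϖ in
theorem layerPI
    {u b : B} {c : ℕ → B}
    (hu : u = ∑ i ∈ Finset.range m, (c i) ^ p * ϖ ^ i + b * ϖ ^ m)
    (hb : ∀ r : B, residue B b ≠ residue B r ^ p)
    {M' : Type u} [Field M'] (φ : L →+* M') (x' P : M')
    (hx' : eval₂ (φ.comp (algebraMap B L)) x' (fB p ϖ 1 m) = 0)
    (hP : P ^ p = φ (algebraMap B L (u * ϖ)))
    (hgen' : Subfield.closure (Set.range φ ∪ {x', P}) = ⊤)
    (W : ValuationSubring M') (hW : Dominates B (φ.comp (algebraMap B L)) W) :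
    (∃ hx'W : x' ∈ W, maximalIdeal W = Ideal.span {(⟨x', hx'W⟩ : W)}) ∧
    (letI : Algebra L M' := φ.toAlgebra
     p * p ≤ Module.finrank L M') := by
  classical
  have hp' := hp.out
  have hN : 1 ≤ 1 := le_refl 1
  have hg := hgdeg p ϖ 1 m hN
  have hg0' := hg0 ϖ m
  letI := Eis.isDomain B ϖ (p ^ 1) (gB ϖ m) hϖ hg hg0'
  letI := Eis.isDVR B ϖ (p ^ 1) (gB ϖ m) hϖ hg hg0'
  let ψ : B₁ p ϖ 1 m →+* M' := AdjoinRoot.lift (φ.comp (algebraMap B L)) x' hx'
  have hψof : ψ.comp (AdjoinRoot.of (fB p ϖ 1 m)) = φ.comp (algebraMap B L) :=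
    AdjoinRoot.lift_comp_of _
  have hψroot : ψ (Eis.x B ϖ (p ^ 1) (gB ϖ m)) = x' := AdjoinRoot.lift_root _
  have hψinj : Function.Injective ψ :=
    Eis.hom_injective B ϖ (p ^ 1) (gB ϖ m) hϖ hg hg0' ψ (by
      rw [hψof]; exact φ.injective.comp (IsFractionRing.injective B L))
  letI algB₁M : Algebra (B₁ p ϖ 1 m) M' := ψ.toAlgebra
  letI algF₁M : Algebra (FractionRing (B₁ p ϖ 1 m)) M' := (IsFractionRing.lift hψinj).toAlgebra
  haveI : IsScalarTower (B₁ p ϖ 1 m) (FractionRing (B₁ p ϖ 1 m)) M' :=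
    IsScalarTower.of_algebraMap_eq (fun b => (IsFractionRing.lift_algebraMap hψinj b).symm)
  have hlaminj : Function.Injective ((algebraMap (B₁ p ϖ 1 m) (FractionRing (B₁ p ϖ 1 m))).comp
      (AdjoinRoot.of (fB p ϖ 1 m))) :=
    (IsFractionRing.injective (B₁ p ϖ 1 m) (FractionRing (B₁ p ϖ 1 m))).comp
      (Eis.of_inj B ϖ (p ^ 1) _ hg)
  let lam : L →+* FractionRing (B₁ p ϖ 1 m) := IsFractionRing.lift hlaminj
  have hlam : ∀ b : B, lam (algebraMap B L b)
      = algebraMap (B₁ p ϖ 1 m) (FractionRing (B₁ p ϖ 1 m)) (AdjoinRoot.of (fB p ϖ 1 m) b) :=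
    fun b => IsFractionRing.lift_algebraMap hlaminj b
  haveI : CharP (FractionRing (B₁ p ϖ 1 m)) p := charP_of_injective_ringHom lam.injective p
  haveI : CharP M' p := charP_of_injective_ringHom φ.injective p
  haveI : CharP (B₁ p ϖ 1 m) p := (RingHom.charP_iff _
    (IsFractionRing.injective (B₁ p ϖ 1 m) (FractionRing (B₁ p ϖ 1 m))) p).2 inferInstance
  have hcompat : (algebraMap (FractionRing (B₁ p ϖ 1 m)) M').comp lam = φ := by
    apply IsLocalization.ringHom_ext (nonZeroDivisors B)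
    ext b
    rw [RingHom.comp_apply, RingHom.comp_apply, hlam,
      ← IsScalarTower.algebraMap_apply (B₁ p ϖ 1 m) (FractionRing (B₁ p ϖ 1 m)) M']
    exact RingHom.congr_fun hψof b
  let xB : B₁ p ϖ 1 m := Eis.x B ϖ (p ^ 1) (gB ϖ m)
  let ofB : B →+* B₁ p ϖ 1 m := AdjoinRoot.of (fB p ϖ 1 m)
  obtain ⟨gu, hgu⟩ := Eis.gx_isUnit B ϖ (p ^ 1) (gB ϖ m) hϖ hg hg0'
  have hgx : Eis.gx B ϖ (p ^ 1) (gB ϖ m) = ofB ϖ ^ (m + 1) * xB + 1 := by
    simp only [Eis.gx, gB, Groth.Agent.S7157.Aux.g, map_add, map_mul, AdjoinRoot.mk_C,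
      AdjoinRoot.mk_X, map_one, map_pow]
    rfl
  have hxp : xB ^ p = ofB ϖ * Eis.gx B ϖ (p ^ 1) (gB ϖ m) := by
    have h1 : xB ^ p = xB ^ (p ^ 1) := congrArg (fun k => xB ^ k) (pow_one p).symm
    rw [h1]
    exact Eis.x_pow B ϖ (p ^ 1) (gB ϖ m)
  have hxB0 : xB ≠ 0 := Eis.x_ne_zero B ϖ (p ^ 1) (gB ϖ m) hϖ hg hg0'
  have hmax : maximalIdeal (B₁ p ϖ 1 m) = Ideal.span {xB} :=
    Eis.maxIdeal_eq B ϖ (p ^ 1) (gB ϖ m) hϖ hg hg0'
  -- the key identity in `B₁`
  have hu' : ofB u = ∑ i ∈ Finset.range m, (ofB (c i)) ^ p * ofB ϖ ^ i + ofB b * ofB ϖ ^ m := by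
    rw [hu]; simp only [map_add, map_sum, map_mul, map_pow]
  obtain ⟨r, hr⟩ := key_identity p hxp hgx (by rw [← hgu]; exact gu.mul_inv) hu'
  -- pass to `M'`
  have hx'0 : x' ≠ 0 := by
    rw [← hψroot, Ne, map_eq_zero_iff _ hψinj]; exact hxB0
  have hψofB : ∀ b : B, ψ (ofB b) = φ (algebraMap B L b) := fun b => RingHom.congr_fun hψof b
  set s : B₁ p ϖ 1 m := ∑ i ∈ Finset.range m, ofB (c i) * xB ^ i with hs
  set b₁ : B₁ p ϖ 1 m := ofB b + xB ^ p * r with hb₁
  set y₁ : M' := (P / x' - ψ s) / x' ^ m with hy₁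
  have hy₁p : y₁ ^ p = ψ b₁ := by
    have h1 : (P / x') ^ p = ψ (ofB u * ((gu⁻¹ : (B₁ p ϖ 1 m)ˣ) : B₁ p ϖ 1 m)) := by
      have hx'p : x' ^ p = ψ (ofB ϖ) * ψ (gu : B₁ p ϖ 1 m) := by
        rw [← hψroot, ← map_pow, hxp, map_mul, hgu]
      have hgu1 : ψ (gu : B₁ p ϖ 1 m) * ψ ((gu⁻¹ : (B₁ p ϖ 1 m)ˣ) : B₁ p ϖ 1 m) = 1 := by
        rw [← map_mul, Units.mul_inv, map_one]
      have hϖ0 : ψ (ofB ϖ) ≠ 0 := by
        rw [Ne, map_eq_zero_iff _ hψinj, map_eq_zero_iff _ (Eis.of_inj B ϖ (p ^ 1) _ hg)]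
        exact hϖ.ne_zero
      have hgu0 : ψ (gu : B₁ p ϖ 1 m) ≠ 0 := left_ne_zero_of_mul_eq_one hgu1
      rw [div_pow, hP, hx'p, ← hψofB, map_mul, map_mul, map_mul, div_eq_iff
        (mul_ne_zero hϖ0 hgu0)]
      linear_combination (-(ψ (ofB u)) * ψ (ofB ϖ)) * hgu1
    rw [hy₁, div_pow, sub_pow_char, h1, ← map_pow, ← map_sub, hr, ← pow_mul, mul_comm m p,
      div_eq_iff (pow_ne_zero _ hx'0), ← hψroot, ← map_pow, ← map_mul, hb₁]
    congr 1
    rw [mul_add p m 1, pow_add, mul_one]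
    ring
  -- generation and degree
  let ι₁ : B₁ p ϖ 1 m →+* FractionRing (B₁ p ϖ 1 m) := algebraMap _ _
  have hι₁ : ∀ w : B₁ p ϖ 1 m, ψ w = algebraMap (FractionRing (B₁ p ϖ 1 m)) M' (ι₁ w) := fun w =>
    IsScalarTower.algebraMap_apply (B₁ p ϖ 1 m) (FractionRing (B₁ p ϖ 1 m)) M' w
  have hgen₁ : IntermediateField.adjoin (FractionRing (B₁ p ϖ 1 m)) {y₁} = ⊤ := by
    rw [eq_top_iff]
    intro μ _
    have hμ : μ ∈ Subfield.closure (Set.range φ ∪ {x', P}) := by rw [hgen']; trivial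
    have hle : Subfield.closure (Set.range φ ∪ {x', P})
        ≤ (IntermediateField.adjoin (FractionRing (B₁ p ϖ 1 m)) {y₁}).toSubfield := by
      rw [Subfield.closure_le]
      have hx'mem : x' ∈ IntermediateField.adjoin (FractionRing (B₁ p ϖ 1 m)) {y₁} := by
        rw [← hψroot, hι₁]
        exact IntermediateField.algebraMap_mem _ _
      rintro ν (⟨l, rfl⟩ | hν)
      · have : φ l = algebraMap (FractionRing (B₁ p ϖ 1 m)) M' (lam l) :=
          (RingHom.congr_fun hcompat l).symm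
        rw [this]
        exact IntermediateField.algebraMap_mem _ _
      · rcases hν with rfl | hν
        · exact hx'mem
        · rw [Set.mem_singleton_iff] at hν
          subst hν
          have : ν = (y₁ * x' ^ m + ψ s) * x' := by
            rw [hy₁]; field_simp; ring
          rw [this]
          refine mul_mem (add_mem (mul_mem (IntermediateField.mem_adjoin_simple_self _ _)
            (pow_mem hx'mem m)) ?_) hx'mem
          rw [hι₁]
          exact IntermediateField.algebraMap_mem _ _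
    exact hle hμ
  have hy₁int : IsIntegral (FractionRing (B₁ p ϖ 1 m)) y₁ := by
    apply IsIntegral.of_pow hp'.pos
    rw [hy₁p, hι₁]
    exact isIntegral_algebraMap
  haveI hfd : FiniteDimensional (FractionRing (B₁ p ϖ 1 m)) M' := by
    haveI h1 : FiniteDimensional (FractionRing (B₁ p ϖ 1 m))
        (IntermediateField.adjoin (FractionRing (B₁ p ϖ 1 m)) {y₁}) :=
      IntermediateField.adjoin.finiteDimensional hy₁int
    rw [hgen₁] at h1
    exact Module.Finite.equiv (IntermediateField.topEquiv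
      (F := FractionRing (B₁ p ϖ 1 m)) (E := M')).toLinearEquiv
  have hfinle : Module.finrank (FractionRing (B₁ p ϖ 1 m)) M' ≤ p := by
    have h1 := IntermediateField.adjoin.finrank hy₁int
    rw [hgen₁, IntermediateField.finrank_top'] at h1
    rw [h1]
    have hdvd : minpoly (FractionRing (B₁ p ϖ 1 m)) y₁ ∣ X ^ p - Polynomial.C (ι₁ b₁) := by
      apply minpoly.dvd
      simp only [map_sub, map_pow, aeval_X, aeval_C]
      rw [hy₁p, hι₁, sub_self]
    have := Polynomial.natDegree_le_of_dvd hdvd (X_pow_sub_C_ne_zero hp'.pos _)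
    rwa [natDegree_X_pow_sub_C] at this
  -- domination and the fundamental inequality
  have hWψ : Dominates (B₁ p ϖ 1 m) ψ W :=
    Eis.dominates_adjoinRoot B ϖ (p ^ 1) (gB ϖ m) hϖ hg hg0' ψ (by rw [hψof]; exact hW)
  haveI : IsDiscreteValuationRing W :=
    isDVR_of_dominates (A := B₁ p ϖ 1 m) (K := FractionRing (B₁ p ϖ 1 m)) (g := ψ) hι₁ hWψ
  letI algB₁W : Algebra (B₁ p ϖ 1 m) W := (RingHom.codRestrict ψ W hWψ.1).toAlgebra
  haveI : IsLocalHom (algebraMap (B₁ p ϖ 1 m) W) := dom_isLocalHom hWψ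
  haveI : IsScalarTower (B₁ p ϖ 1 m) W M' := IsScalarTower.of_algebraMap_eq (fun _ => rfl)
  have hinjW : Function.Injective (algebraMap (B₁ p ϖ 1 m) W) :=
    codRestrict_injective hψinj hWψ.1
  obtain ⟨hfinres, hle⟩ := Groth.Agent.S7132.result (B₁ p ϖ 1 m) W
    (FractionRing (B₁ p ϖ 1 m)) M' hinjW
  -- `y₁ ∈ W`
  have hy₁W : y₁ ∈ W := by
    rw [← W.valuation_le_one_iff]
    have h1 : W.valuation y₁ ^ p ≤ 1 := by
      rw [← map_pow, hy₁p]
      exact (W.valuation_le_one_iff _).2 (hWψ.1 b₁)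
    by_contra hcon
    push Not at hcon
    exact absurd h1 (not_le.2 (one_lt_pow₀ hcon hp'.ne_zero))
  -- the residue degree is at least `p`
  have hβ : ∀ r : ResidueField (B₁ p ϖ 1 m), r ^ p ≠ residue (B₁ p ϖ 1 m) b₁ := by
    intro r₁ hr₁
    obtain ⟨r₀, hr₀⟩ := Eis.residue_surj B ϖ (p ^ 1) (gB ϖ m) hϖ hg hg0' r₁
    have hr₀' : residue (B₁ p ϖ 1 m) (ofB r₀) = r₁ := hr₀
    have h1 : residue (B₁ p ϖ 1 m) b₁ = residue (B₁ p ϖ 1 m) (ofB b) := by
      rw [hb₁, map_add, map_mul, map_pow]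
      have : residue (B₁ p ϖ 1 m) xB = 0 := by
        rw [residue_eq_zero_iff, hmax]; exact Ideal.mem_span_singleton_self _
      rw [this, zero_pow hp'.ne_zero, zero_mul, add_zero]
    have h2 : residue (B₁ p ϖ 1 m) (ofB (b - r₀ ^ p)) = 0 := by
      rw [map_sub, map_sub, map_pow, map_pow, hr₀', hr₁, h1, sub_self]
    rw [residue_eq_zero_iff] at h2
    haveI := Eis.isLocalHom_of B ϖ (p ^ 1) (gB ϖ m) hϖ hg hg0'
    have h3 : b - r₀ ^ p ∈ maximalIdeal B := by
      by_contra hnot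
      have hu1 : IsUnit (b - r₀ ^ p) := by
        by_contra hnu
        exact hnot ((mem_maximalIdeal _).2 hnu)
      have hu2 : IsUnit (ofB (b - r₀ ^ p)) := hu1.map ofB
      exact (mem_nonunits_iff.1 ((mem_maximalIdeal _).1 h2)) hu2
    apply hb r₀
    rw [← residue_eq_zero_iff, map_sub, map_pow, sub_eq_zero] at h3
    exact h3
  have hfp : p ≤ Module.finrank (ResidueField (B₁ p ϖ 1 m)) (ResidueField W) := by
    set ybar : ResidueField W := residue W ⟨y₁, hy₁W⟩ with hybar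
    have hirr : Irreducible (X ^ p - Polynomial.C (residue (B₁ p ϖ 1 m) b₁)) :=
      X_pow_sub_C_irreducible_of_prime hp' hβ
    have hroot : aeval ybar (X ^ p - Polynomial.C (residue (B₁ p ϖ 1 m) b₁)) = 0 := by
      simp only [map_sub, map_pow, aeval_X, aeval_C]
      rw [sub_eq_zero, hybar, ← map_pow]
      have : (⟨y₁, hy₁W⟩ : W) ^ p = algebraMap (B₁ p ϖ 1 m) W b₁ := Subtype.ext hy₁p
      rw [this]
      rfl
    have hmin := minpoly.eq_of_irreducible_of_monic hirr hroot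
      (monic_X_pow_sub_C _ hp'.ne_zero)
    have := minpoly.natDegree_le (A := ResidueField (B₁ p ϖ 1 m)) ybar
    rw [← hmin, natDegree_X_pow_sub_C] at this
    exact this
  have hepos := ramificationIdx_pos (B₁ p ϖ 1 m) W hinjW
  have he1 : Ideal.ramificationIdx' (maximalIdeal (B₁ p ϖ 1 m)) (maximalIdeal W) = 1 := by
    set e := Ideal.ramificationIdx' (maximalIdeal (B₁ p ϖ 1 m)) (maximalIdeal W)
    set f := Module.finrank (ResidueField (B₁ p ϖ 1 m)) (ResidueField W)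
    have h1 : e * f ≤ p := hle.trans hfinle
    have h2 : e * p ≤ e * f := Nat.mul_le_mul_left e hfp
    have hp0 := hp'.pos
    nlinarith
  have hfinge : p ≤ Module.finrank (FractionRing (B₁ p ϖ 1 m)) M' := by
    rw [he1, one_mul] at hle
    exact hfp.trans hle
  have hwu : IsWeaklyUnramified (B₁ p ϖ 1 m) W :=
    (isWeaklyUnramified_iff (B₁ p ϖ 1 m) W hinjW).2 he1
  refine ⟨?_, ?_⟩
  · have hx'W : x' ∈ W := by
      have := hWψ.1 xB
      rwa [hψroot] at this
    refine ⟨hx'W, ?_⟩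
    have h5 : (maximalIdeal (B₁ p ϖ 1 m)).map (algebraMap (B₁ p ϖ 1 m) W) = maximalIdeal W := hwu
    rw [← h5, hmax, Ideal.map_span, Set.image_singleton]
    congr 2
    exact Subtype.ext hψroot
  · letI algLM' : Algebra L M' := φ.toAlgebra
    letI algLF₁ : Algebra L (FractionRing (B₁ p ϖ 1 m)) := lam.toAlgebra
    haveI : IsScalarTower L (FractionRing (B₁ p ϖ 1 m)) M' :=
      IsScalarTower.of_algebraMap_eq (fun l => (RingHom.congr_fun hcompat l).symm)
    haveI : IsScalarTower B L (FractionRing (B₁ p ϖ 1 m)) :=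
      IsScalarTower.of_algebraMap_eq (fun b => by
        rw [IsScalarTower.algebraMap_apply B (B₁ p ϖ 1 m) (FractionRing (B₁ p ϖ 1 m))]
        exact (hlam b).symm)
    have hq : 2 ≤ p ^ 1 := by rw [pow_one]; exact hp'.two_le
    obtain ⟨hfin1, -⟩ := Groth.Agent.S7157.Aux.core B L ϖ (m + 2) (p ^ 1) hϖ (by omega) hq
      (FractionRing (B₁ p ϖ 1 m))
    rw [pow_one] at hfin1
    rw [← Module.finrank_mul_finrank L (FractionRing (B₁ p ϖ 1 m)) M', hfin1]
    exact Nat.mul_le_mul_left p hfinge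

end LayerPI

end PIstep
end Groth.Agent.Helper9.EtRamLib
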