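import Mathlib
import Groth.Prelude.Def_EtRam
import Groth.Prelude.Def_Found
import Groth.Agent.Lib.Helper9.EtRam.Dom32
import Groth.Agent.S1984

set_option autoImplicit false
set_option linter.style.haveILetI false
set_option linter.unusedSectionVars false

namespace Groth.Agent.Helper9.EtRamLib
namespace PIstep
open IsLocalRing EtRam TensorProduct

universe u

theorem isField_tensor_of_degree (K F K₁ : Type u) [Field K] [Field F] [Field K₁] [Algebra K F]
    [Algebra K K₁] [FiniteDimensional K K₁]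
    (h : ∀ (M'' : Type u) [Field M''] [Algebra K M''] [Algebra F M''] [Algebra K₁ M'']
      [IsScalarTower K F M''] [IsScalarTower K K₁ M''],
      Algebra.adjoin F (Set.range (algebraMap K₁ M'')) = ⊤ →
      Module.finrank K K₁ ≤ Module.finrank F M'') : IsField (F ⊗[K] K₁) := by
  haveI : Nontrivial (F ⊗[K] K₁) := inferInstance
  obtain ⟨𝔪, h𝔪⟩ := Ideal.exists_maximal (F ⊗[K] K₁)
  letI : Field ((F ⊗[K] K₁) ⧸ 𝔪) := Ideal.Quotient.field 𝔪
  letI algK₁ : Algebra K₁ ((F ⊗[K] K₁) ⧸ 𝔪) :=
    ((Ideal.Quotient.mk 𝔪).comp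
      (Algebra.TensorProduct.includeRight : K₁ →ₐ[K] F ⊗[K] K₁).toRingHom).toAlgebra
  haveI : IsScalarTower K K₁ ((F ⊗[K] K₁) ⧸ 𝔪) := IsScalarTower.of_algebraMap_eq (fun k => by
    show Ideal.Quotient.mk 𝔪 (algebraMap K (F ⊗[K] K₁) k) =
      Ideal.Quotient.mk 𝔪 (Algebra.TensorProduct.includeRight (algebraMap K K₁ k))
    rw [AlgHom.commutes])
  have hadj : Algebra.adjoin F (Set.range (algebraMap K₁ ((F ⊗[K] K₁) ⧸ 𝔪))) = ⊤ := by
    rw [eq_top_iff]
    rintro x -
    obtain ⟨t, rfl⟩ := Ideal.Quotient.mk_surjective x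
    induction t using TensorProduct.induction_on with
    | zero => rw [map_zero]; exact zero_mem _
    | tmul l k =>
      have : (l ⊗ₜ[K] k : F ⊗[K] K₁) = l • ((1 : F) ⊗ₜ[K] k) := by
        rw [TensorProduct.smul_tmul', smul_eq_mul, mul_one]
      rw [this]
      have h2 : Ideal.Quotient.mk 𝔪 (l • ((1 : F) ⊗ₜ[K] k)) =
          l • Ideal.Quotient.mk 𝔪 ((1 : F) ⊗ₜ[K] k) := rfl
      rw [h2]
      have h3 : Ideal.Quotient.mk 𝔪 ((1 : F) ⊗ₜ[K] k) ∈
          Algebra.adjoin F (Set.range (algebraMap K₁ ((F ⊗[K] K₁) ⧸ 𝔪))) :=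
        Algebra.subset_adjoin ⟨k, rfl⟩
      exact Subalgebra.smul_mem _ h3 l
    | add x y hx hy => rw [map_add]; exact add_mem hx hy
  have hdeg := h ((F ⊗[K] K₁) ⧸ 𝔪) hadj
  have hT : Module.finrank F (F ⊗[K] K₁) = Module.finrank K K₁ := Module.finrank_baseChange
  have hsum := Submodule.finrank_quotient_add_finrank (𝔪.restrictScalars F)
  have hq : Module.finrank F ((F ⊗[K] K₁) ⧸ 𝔪.restrictScalars F) =
      Module.finrank F ((F ⊗[K] K₁) ⧸ 𝔪) := rfl
  have h0 : Module.finrank F (𝔪.restrictScalars F) = 0 := by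
    have hle : Module.finrank F ((F ⊗[K] K₁) ⧸ 𝔪) ≤ Module.finrank F (F ⊗[K] K₁) := by
      rw [← hsum, hq]; exact Nat.le_add_right _ _
    omega
  have hbot : 𝔪 = ⊥ := by
    have := Submodule.finrank_eq_zero.1 h0
    apply le_antisymm _ bot_le
    intro x hx
    have hx' : x ∈ 𝔪.restrictScalars F := hx
    rw [this] at hx'
    exact hx'
  subst hbot
  refine ⟨⟨0, 1, zero_ne_one⟩, mul_comm, fun {a} ha => ?_⟩
  have hsp : Ideal.span {a} = ⊤ := by
    by_contra hne
    have hlt : (⊥ : Ideal (F ⊗[K] K₁)) < Ideal.span {a} := by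
      rw [bot_lt_iff_ne_bot, Ne, Ideal.span_singleton_eq_bot]
      exact ha
    exact hne (h𝔪.1.2 _ hlt)
  obtain ⟨b, hb⟩ := Ideal.mem_span_singleton'.1
    (hsp ▸ Submodule.mem_top : (1 : F ⊗[K] K₁) ∈ Ideal.span {a})
  exact ⟨b, by rw [mul_comm]; exact hb⟩

section Stuck
open Polynomial Epp in
theorem stuck_local (p : ℕ) [hp : Fact p.Prime] (A B C K L M : Type u)
    [CommRing A] [IsDomain A] [IsDiscreteValuationRing A] [CommRing B] [IsDomain B]
    [IsDiscreteValuationRing B] [CommRing C] [IsDomain C] [IsDiscreteValuationRing C]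
    [Algebra A B] [Algebra B C] [Algebra A C] [IsScalarTower A B C]
    [IsLocalHom (algebraMap A B)] [IsLocalHom (algebraMap B C)]
    [Field K] [Field L] [Field M] [Algebra A K] [IsFractionRing A K] [Algebra B L]
    [IsFractionRing B L] [Algebra C M] [IsFractionRing C M] [Algebra K L] [Algebra L M]
    [Algebra K M] [IsScalarTower K L M] [Algebra A L] [IsScalarTower A K L] [IsScalarTower A B L]
    [Algebra B M] [IsScalarTower B L M] [IsScalarTower B C M] [Algebra A M] [IsScalarTower A K M]
    [IsScalarTower A C M]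
    (hw : IsWeaklyUnramified A B) [CharP L p] [IsPurelyInseparable L M]
    (hdeg : Module.finrank L M = p)
    (π : A) (hπ : maximalIdeal A = Ideal.span {π})
    (πC : C) (u : Bˣ) (hu : πC ^ p = algebraMap B C (u * algebraMap A B π))
    (m : ℕ) (c : ℕ → B) (b : B)
    (hub : (u : B) = ∑ i ∈ Finset.range m, (c i) ^ p * (algebraMap A B π) ^ i
      + b * (algebraMap A B π) ^ m)
    (hb : ∀ r : B, residue B b ≠ residue B r ^ p)
    (K₁ : Type u) [Field K₁] [Algebra K K₁] (x₁ : K₁)
    (hx₁ : eval₂ ((algebraMap K K₁).comp (algebraMap A K)) x₁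
      (Eis.f A π (p ^ 1) (Groth.Agent.S7157.Aux.g A π (m + 2))) = 0)
    (hgen₁ : Subfield.closure (Set.range (algebraMap K K₁) ∪ {x₁}) = ⊤)
    (M' : Type u) [Field M'] [Algebra K M'] [Algebra M M'] [Algebra K₁ M']
    [IsScalarTower K M M'] [IsScalarTower K K₁ M']
    (hadj : Algebra.adjoin M (Set.range (algebraMap K₁ M')) = ⊤)
    (W : ValuationSubring M') (hW : Dominates C ((algebraMap M M').comp (algebraMap C M)) W) :
    (letI : Algebra (W.comap (algebraMap K₁ M')) W :=
      (inclOfComap W (algebraMap K₁ M')).toAlgebra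
     IsWeaklyUnramified (W.comap (algebraMap K₁ M')) W) ∧
    p ≤ Module.finrank M M' := by
  classical
  have hp' := hp.out
  have hπB : maximalIdeal B = Ideal.span {algebraMap A B π} := by
    have h1 : (maximalIdeal A).map (algebraMap A B) = maximalIdeal B := hw
    rw [← h1, hπ, Ideal.map_span, Set.image_singleton]
  have hϖirr : Irreducible (algebraMap A B π) :=
    (IsDiscreteValuationRing.irreducible_iff_uniformizer _).2 hπB
  let gA := Groth.Agent.S7157.Aux.g A π (m + 2)
  let fA : A[X] := Eis.f A π (p ^ 1) gA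
  let φ : L →+* M' := (algebraMap M M').comp (algebraMap L M)
  have hcK : ∀ k : K, φ (algebraMap K L k) = algebraMap K₁ M' (algebraMap K K₁ k) := by
    intro k
    simp only [φ, RingHom.comp_apply]
    rw [← IsScalarTower.algebraMap_apply K L M, ← IsScalarTower.algebraMap_apply K M M',
      ← IsScalarTower.algebraMap_apply K K₁ M']
  have hc1 : ∀ a₀ : A, φ (algebraMap B L (algebraMap A B a₀))
      = algebraMap K₁ M' (algebraMap K K₁ (algebraMap A K a₀)) := by
    intro a₀
    rw [← hcK, ← IsScalarTower.algebraMap_apply A B L, IsScalarTower.algebraMap_apply A K L]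
  have hfmap : fB p (algebraMap A B π) 1 m = fA.map (algebraMap A B) := by
    simp only [fB, gB, fA, gA, Eis.f, Groth.Agent.S7157.Aux.g, Polynomial.map_sub,
      Polynomial.map_mul, Polynomial.map_pow, Polynomial.map_add, Polynomial.map_one,
      Polynomial.map_X, Polynomial.map_C, map_pow]
  have hx' : eval₂ (φ.comp (algebraMap B L)) (algebraMap K₁ M' x₁)
      (fB p (algebraMap A B π) 1 m) = 0 := by
    rw [hfmap, eval₂_map]
    have h1 : (φ.comp (algebraMap B L)).comp (algebraMap A B)
        = (algebraMap K₁ M').comp ((algebraMap K K₁).comp (algebraMap A K)) := by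
      ext a₀
      simp only [RingHom.comp_apply]
      rw [hc1]
    rw [h1, ← Polynomial.hom_eval₂, hx₁, map_zero]
  set P : M' := algebraMap M M' (algebraMap C M πC) with hP
  have hPp : P ^ p = φ (algebraMap B L (u * algebraMap A B π)) := by
    rw [hP, ← map_pow, ← map_pow, hu, ← IsScalarTower.algebraMap_apply B C M,
      IsScalarTower.algebraMap_apply B L M]
    rfl
  have htop := adjoin_eq_top p hp' L M hdeg (piC_not_mem p hp' hdeg hϖirr u hu)
  have hgen' : Subfield.closure (Set.range φ ∪ {algebraMap K₁ M' x₁, P}) = ⊤ := by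
    set S := Subfield.closure (Set.range φ ∪ {algebraMap K₁ M' x₁, P}) with hS
    have hφS : ∀ l : L, φ l ∈ S := fun l =>
      Subfield.subset_closure (Or.inl ⟨l, rfl⟩)
    have hxS : algebraMap K₁ M' x₁ ∈ S :=
      Subfield.subset_closure (Or.inr (Or.inl rfl))
    have hzS : P ∈ S :=
      Subfield.subset_closure (Or.inr (Or.inr rfl))
    have hMS : ∀ w : M, algebraMap M M' w ∈ S := by
      intro w
      have hw : w ∈ IntermediateField.adjoin L {algebraMap C M πC} := by rw [htop]; trivial
      induction hw using IntermediateField.adjoin_induction with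
      | mem x hx =>
        rw [Set.mem_singleton_iff] at hx; subst hx; exact hzS
      | algebraMap l => exact hφS l
      | add x y _ _ hx hy => rw [map_add]; exact add_mem hx hy
      | inv x _ hx => rw [map_inv₀]; exact inv_mem hx
      | mul x y _ _ hx hy => rw [map_mul]; exact mul_mem hx hy
    have hK₁S : ∀ w : K₁, algebraMap K₁ M' w ∈ S := by
      intro w
      have hw : w ∈ Subfield.closure (Set.range (algebraMap K K₁) ∪ {x₁}) := by
        rw [hgen₁]; trivial
      have hle : Subfield.closure (Set.range (algebraMap K K₁) ∪ {x₁})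
          ≤ S.comap (algebraMap K₁ M') := by
        rw [Subfield.closure_le]
        rintro ν (⟨k, rfl⟩ | hν)
        · show algebraMap K₁ M' (algebraMap K K₁ k) ∈ S
          rw [← hcK]; exact hφS _
        · rw [Set.mem_singleton_iff] at hν; subst hν
          exact hxS
      exact hle hw
    rw [eq_top_iff]
    intro μ _
    have hμ : μ ∈ Algebra.adjoin M (Set.range (algebraMap K₁ M')) := by rw [hadj]; trivial
    induction hμ using Algebra.adjoin_induction with
    | mem x hx => obtain ⟨w, rfl⟩ := hx; exact hK₁S w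
    | algebraMap r => exact hMS r
    | add x y _ _ hx hy => exact add_mem (hx trivial) (hy trivial)
    | mul x y _ _ hx hy => exact mul_mem (hx trivial) (hy trivial)
  have hW' : Dominates B (φ.comp (algebraMap B L)) W := dominates_B hW
  obtain ⟨⟨hx'W, hmax⟩, hdegL⟩ := layerPI p (algebraMap A B π) hϖirr m hub hb
    φ (algebraMap K₁ M' x₁) P hx' hPp hgen' W hW'
  refine ⟨wu_crit W (algebraMap K₁ M') x₁ hx'W hmax, ?_⟩
  letI algLM' : Algebra L M' := φ.toAlgebra
  haveI : IsScalarTower L M M' := IsScalarTower.of_algebraMap_eq (fun _ => rfl)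
  have h1 := Module.finrank_mul_finrank L M M'
  rw [hdeg] at h1
  have h2 : p * p ≤ p * Module.finrank M M' := by rw [h1]; exact hdegL
  exact Nat.le_of_mul_le_mul_left h2 hp'.pos

end Stuck

section Main
open Polynomial Epp in
theorem trichotomy (p : ℕ) (hp : p.Prime) (A B C K L M : Type u)
    [CommRing A] [IsDomain A] [IsDiscreteValuationRing A] [CommRing B] [IsDomain B]
    [IsDiscreteValuationRing B] [CommRing C] [IsDomain C] [IsDiscreteValuationRing C]
    [Algebra A B] [Algebra B C] [Algebra A C] [IsScalarTower A B C]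
    (hAB : Function.Injective (algebraMap A B)) (hBC : Function.Injective (algebraMap B C))
    [IsLocalHom (algebraMap A B)] [IsLocalHom (algebraMap B C)]
    [Field K] [Field L] [Field M] [Algebra A K] [IsFractionRing A K] [Algebra B L]
    [IsFractionRing B L] [Algebra C M] [IsFractionRing C M] [Algebra K L] [Algebra L M]
    [Algebra K M] [IsScalarTower K L M] [Algebra A L] [IsScalarTower A K L] [IsScalarTower A B L]
    [Algebra B M] [IsScalarTower B L M] [IsScalarTower B C M] [Algebra A M] [IsScalarTower A K M]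
    [IsScalarTower A C M]
    (π : A) (hπ : maximalIdeal A = Ideal.span {π}) (hB : CAlg.IsNagata B)
    (hw : IsWeaklyUnramified A B) [IsPurelyInseparable L M] (hdeg : Module.finrank L M = p) :
    IsWeaklyUnramified A C ∨
      (∃ c : C, c ^ p = algebraMap A C π ∧ Algebra.adjoin B {c} = ⊤) ∨
      ∃ (K₁ : Type u) (_ : Field K₁) (_ : Algebra K K₁),
        Module.finrank K K₁ = p ∧ Algebra.IsSeparable K K₁ ∧
          IsTotallyRamified A ((algebraMap K K₁).comp (algebraMap A K)) ∧
          IsField (L ⊗[K] K₁) ∧ IsField (M ⊗[K] K₁) ∧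
          IsWeakSolution B K L K₁ ∧ IsWeakSolution C K M K₁ := by
  classical
  haveI : Fact p.Prime := ⟨hp⟩
  haveI : CharP L p := charP_of_pi p hp L M hdeg
  have hπB : maximalIdeal B = Ideal.span {algebraMap A B π} := by
    have h1 : (maximalIdeal A).map (algebraMap A B) = maximalIdeal B := hw
    rw [← h1, hπ, Ideal.map_span, Set.image_singleton]
  have hϖirr : Irreducible (algebraMap A B π) :=
    (IsDiscreteValuationRing.irreducible_iff_uniformizer _).2 hπB
  have hπirr : Irreducible π := (IsDiscreteValuationRing.irreducible_iff_uniformizer π).2 hπ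
  rcases ram_dichotomy p hp hBC hdeg with he1 | ⟨hep, hf⟩
  · left
    have h2 : IsWeaklyUnramified B C := (isWeaklyUnramified_iff B C hBC).2 he1
    show (maximalIdeal A).map (algebraMap A C) = maximalIdeal C
    have h1 : (maximalIdeal A).map (algebraMap A B) = maximalIdeal B := hw
    have h2' : (maximalIdeal B).map (algebraMap B C) = maximalIdeal C := h2
    rw [← h2', ← h1, Ideal.map_map, ← IsScalarTower.algebraMap_eq]
  right
  obtain ⟨πC, hπC⟩ := IsDiscreteValuationRing.exists_irreducible C
  obtain ⟨u, hu⟩ := exists_unit p hp hBC hdeg hep hϖirr hπC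
  rcases dichotomy p (algebraMap A B π) hπB (u : B) with ⟨m, c, b, hub, hb⟩ | hQ
  swap
  · left
    obtain ⟨c, hc, hadj⟩ := root_case p hp hdeg (Nag.n2'_of_isNagata hB) hϖirr hπC u hu hQ hf
    exact ⟨c, by rw [hc, ← IsScalarTower.algebraMap_apply], hadj⟩
  right
  -- the totally ramified extension
  have hq : 2 ≤ p ^ 1 := by rw [pow_one]; exact hp.two_le
  have hg := Groth.Agent.S7157.Aux.g_deg A π (m + 2) (p ^ 1) hq
  have hg0 := Groth.Agent.S7157.Aux.g_unit A π (m + 2)
  letI := Eis.isDomain A π (p ^ 1) (Groth.Agent.S7157.Aux.g A π (m + 2)) hπirr hg hg0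
  letI := Eis.isDVR A π (p ^ 1) (Groth.Agent.S7157.Aux.g A π (m + 2)) hπirr hg hg0
  have hinj : Function.Injective (algebraMap A
      (FractionRing (Groth.Agent.S7157.Aux.B A π (m + 2) (p ^ 1)))) := by
    rw [IsScalarTower.algebraMap_eq A (Groth.Agent.S7157.Aux.B A π (m + 2) (p ^ 1))
      (FractionRing (Groth.Agent.S7157.Aux.B A π (m + 2) (p ^ 1)))]
    exact (IsFractionRing.injective (Groth.Agent.S7157.Aux.B A π (m + 2) (p ^ 1)) _).comp
      (Eis.of_inj A π (p ^ 1) _ hg)
  letI algKL : Algebra K (FractionRing (Groth.Agent.S7157.Aux.B A π (m + 2) (p ^ 1))) :=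
    (IsFractionRing.lift hinj).toAlgebra
  haveI : IsScalarTower A K (FractionRing (Groth.Agent.S7157.Aux.B A π (m + 2) (p ^ 1))) :=
    IsScalarTower.of_algebraMap_eq (fun a => (IsFractionRing.lift_algebraMap hinj a).symm)
  obtain ⟨hfin, hsep, htot, -⟩ := Groth.Agent.S7157.Aux.core A K π (m + 2) (p ^ 1) hπirr
    (by omega) hq (FractionRing (Groth.Agent.S7157.Aux.B A π (m + 2) (p ^ 1)))
  replace hfin : Module.finrank K (FractionRing (Groth.Agent.S7157.Aux.B A π (m + 2) (p ^ 1))) = p :=
    hfin.trans (pow_one p)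
  haveI : FiniteDimensional K (FractionRing (Groth.Agent.S7157.Aux.B A π (m + 2) (p ^ 1))) :=
    Module.finite_of_finrank_pos (by rw [hfin]; exact hp.pos)
  have ht : IsTotallyRamified A ((algebraMap K
      (FractionRing (Groth.Agent.S7157.Aux.B A π (m + 2) (p ^ 1)))).comp (algebraMap A K)) := by
    rw [← IsScalarTower.algebraMap_eq]; exact htot
  obtain ⟨hfL, hwsB⟩ := Groth.Agent.S1984.result A B K L hAB hw
    (FractionRing (Groth.Agent.S7157.Aux.B A π (m + 2) (p ^ 1))) ht
  -- the generator
  let A₁ := Groth.Agent.S7157.Aux.B A π (m + 2) (p ^ 1)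
  let K₁ := FractionRing A₁
  let gA := Groth.Agent.S7157.Aux.g A π (m + 2)
  let fA : A[X] := Eis.f A π (p ^ 1) gA
  let rt : A₁ := Eis.x A π (p ^ 1) gA
  let x₁ : K₁ := algebraMap A₁ K₁ rt
  have hx₁ : eval₂ ((algebraMap K K₁).comp (algebraMap A K)) x₁ fA = 0 := by
    have h1 : (algebraMap K K₁).comp (algebraMap A K)
        = (algebraMap A₁ K₁).comp (AdjoinRoot.of fA) := by
      ext a₀
      simp only [RingHom.comp_apply]
      rw [← IsScalarTower.algebraMap_apply A K K₁, IsScalarTower.algebraMap_apply A A₁ K₁]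
      rfl
    rw [h1]
    have h2 : x₁ = (algebraMap A₁ K₁) rt := rfl
    rw [h2, ← Polynomial.hom_eval₂]
    have h3 : eval₂ (AdjoinRoot.of fA) rt fA = 0 := AdjoinRoot.eval₂_root fA
    rw [h3, map_zero]
  have hgen₁ : Subfield.closure (Set.range (algebraMap K K₁) ∪ {x₁}) = ⊤ := by
    set S := Subfield.closure (Set.range (algebraMap K K₁) ∪ {x₁}) with hS
    have hKS : ∀ k : K, algebraMap K K₁ k ∈ S := fun k =>
      Subfield.subset_closure (Or.inl ⟨k, rfl⟩)
    have hxS : x₁ ∈ S := Subfield.subset_closure (Or.inr rfl)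
    have hA₁S : ∀ w : A₁, algebraMap A₁ K₁ w ∈ S := by
      intro w
      induction w using AdjoinRoot.induction_on with
      | ih q =>
        induction q using Polynomial.induction_on' with
        | add q₁ q₂ h₁ h₂ => rw [map_add, map_add]; exact add_mem h₁ h₂
        | monomial k c =>
          have h1 : AdjoinRoot.mk fA (monomial k c) = AdjoinRoot.of fA c * rt ^ k := by
            rw [← C_mul_X_pow_eq_monomial, map_mul, map_pow, AdjoinRoot.mk_C, AdjoinRoot.mk_X]
          rw [h1, map_mul, map_pow]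
          refine mul_mem ?_ (pow_mem hxS k)
          have h2 : algebraMap A₁ K₁ (AdjoinRoot.of fA c) = algebraMap A K₁ c :=
            (IsScalarTower.algebraMap_apply A A₁ K₁ c).symm
          rw [h2, IsScalarTower.algebraMap_apply A K K₁]
          exact hKS _
    rw [eq_top_iff]
    intro w _
    obtain ⟨a₁, b₁, -, rfl⟩ := IsFractionRing.div_surjective (A := A₁) w
    exact div_mem (hA₁S a₁) (hA₁S b₁)
  have hlocal := fun (M' : Type u) [Field M'] [Algebra K M'] [Algebra M M'] [Algebra K₁ M']
      [IsScalarTower K M M'] [IsScalarTower K K₁ M']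
      (hadj : Algebra.adjoin M (Set.range (algebraMap K₁ M')) = ⊤)
      (W : ValuationSubring M') (hW : Dominates C ((algebraMap M M').comp (algebraMap C M)) W) =>
    stuck_local p A B C K L M hw hdeg π hπ πC u hu m c b hub hb K₁ x₁ hx₁ hgen₁ M' hadj W hW
  refine ⟨K₁, inferInstance, algKL, hfin, hsep, ht, hfL, ?_, hwsB, ?_⟩
  · apply isField_tensor_of_degree K M K₁
    intro M'' _ _ _ _ _ _ hadj
    obtain ⟨W, hW⟩ := exists_dominates ((algebraMap M M'').comp (algebraMap C M))
    rw [hfin]
    exact (hlocal M'' hadj W hW).2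
  · intro M' _ _ _ _ _ _ hadj W hW
    exact (hlocal M' hadj W hW).1

end Main

end PIstep
end Groth.Agent.Helper9.EtRamLib
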