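import Mathlib
import Groth.Agent.Lib.Helper2.CartierSep

set_option autoImplicit false
set_option linter.style.haveILetI false
set_option linter.unusedSectionVars false

/-!
# Field-theoretic lemmas for the purely inseparable descent step (helper9)
-/

namespace Groth.Agent.Helper9.EtRamLib
namespace Sq
open Groth.Agent.Helper2.Sep Polynomial

universe u

section Basic
variable (p : ℕ) [hp : Fact p.Prime]

/-- an element which is separable and whose `p`-th power lies in the base lies in the base -/
lemma mem_range_of_sep_of_pow {F E : Type*} [Field F] [Field E] [Algebra F E] [CharP F p]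
    {x : E} (hs : IsSeparable F x) (hx : x ^ p ∈ Set.range (algebraMap F E)) :
    x ∈ Set.range (algebraMap F E) := by
  haveI : ExpChar F p := ExpChar.prime hp.out
  haveI h1 : IsPurelyInseparable F (IntermediateField.adjoin F {x}) := by
    rw [IntermediateField.isPurelyInseparable_adjoin_simple_iff_pow_mem F E p]
    exact ⟨1, by rw [pow_one]; exact hx⟩
  haveI h2 : Algebra.IsSeparable F (IntermediateField.adjoin F {x}) :=
    (IntermediateField.isSeparable_adjoin_simple_iff_isSeparable F E).2 hs
  have h3 := IsPurelyInseparable.surjective_algebraMap_of_isSeparable F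
    (IntermediateField.adjoin F {x})
  obtain ⟨c, hc⟩ := h3 ⟨x, IntermediateField.mem_adjoin_simple_self F x⟩
  exact ⟨c, congrArg Subtype.val hc⟩

lemma linearIndependent_of_range_le {k k' F : Type*} [Field k] [Field k'] [Field F] [Algebra k F]
    [Algebra k' F] (h : Set.range (algebraMap k' F) ⊆ Set.range (algebraMap k F)) {ι : Type*}
    {s : ι → F} (hs : LinearIndependent k s) : LinearIndependent k' s := by
  rw [linearIndependent_iff'] at hs ⊢
  intro t g hg i hi
  have hex : ∀ j, ∃ c : k, algebraMap k F c = algebraMap k' F (g j) := fun j => h ⟨g j, rfl⟩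
  choose c hc using hex
  have h1 := hs t c (by
    rw [← hg]
    apply Finset.sum_congr rfl
    intro j _
    rw [Algebra.smul_def, Algebra.smul_def, hc]) i hi
  have h2 : algebraMap k' F (g i) = 0 := by rw [← hc, h1, map_zero]
  exact (map_eq_zero _).1 h2

lemma macLane_of_range_eq {k k' F : Type*} [Field k] [Field k'] [Field F] [Algebra k F]
    [Algebra k' F] (h : Set.range (algebraMap k' F) = Set.range (algebraMap k F))
    (hM : MacLane k' F p) : MacLane k F p := by
  intro n s hs
  exact linearIndependent_of_range_le h.ge (hM n s (linearIndependent_of_range_le h.le hs))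

end Basic

section Four
variable (p : ℕ) [hp : Fact p.Prime] {k₁ k₂ F₁ F₂ : Type*} [Field k₁] [Field k₂] [Field F₁]
  [Field F₂] [Algebra k₁ k₂] [Algebra k₁ F₁] [Algebra k₂ F₂] [Algebra F₁ F₂] [Algebra k₁ F₂]
  [IsScalarTower k₁ k₂ F₂] [IsScalarTower k₁ F₁ F₂]

lemma macLane_of_surj (hs : Function.Surjective (algebraMap k₁ k₂)) (hM : MacLane k₂ F₂ p) :
    MacLane k₁ F₁ p := by
  have h1 : MacLane k₁ F₂ p := by
    apply macLane_of_range_eq p _ hM
    ext y
    constructor
    · rintro ⟨c, rfl⟩
      obtain ⟨d, rfl⟩ := hs c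
      exact ⟨d, IsScalarTower.algebraMap_apply k₁ k₂ F₂ d⟩
    · rintro ⟨d, rfl⟩
      exact ⟨algebraMap k₁ k₂ d, (IsScalarTower.algebraMap_apply k₁ k₂ F₂ d).symm⟩
  exact h1.of_algHom (IsScalarTower.toAlgHom k₁ F₁ F₂)

omit [Algebra k₁ k₂] [Algebra k₁ F₁] [Algebra k₁ F₂] [IsScalarTower k₁ k₂ F₂]
  [IsScalarTower k₁ F₁ F₂] in
lemma surj_of_le [CharP F₁ p] [Algebra.IsSeparable k₂ F₂]
    (hle : ∀ c : k₂, algebraMap k₂ F₂ c ∈ Set.range (algebraMap F₁ F₂))
    (hpow : ∀ x : F₂, x ^ p ∈ Set.range (algebraMap F₁ F₂)) :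
    Function.Surjective (algebraMap F₁ F₂) := by
  intro x
  have hsep : IsSeparable k₂ x := Algebra.IsSeparable.isSeparable k₂ x
  have hlift : (minpoly k₂ x).map (algebraMap k₂ F₂) ∈ Polynomial.lifts (algebraMap F₁ F₂) := by
    rw [Polynomial.lifts_iff_coeff_lifts]
    intro n
    rw [Polynomial.coeff_map]
    exact hle _
  obtain ⟨h, hh⟩ := hlift
  replace hh : h.map (algebraMap F₁ F₂) = (minpoly k₂ x).map (algebraMap k₂ F₂) := hh
  have hhsep : h.Separable := by
    rw [← Polynomial.separable_map (algebraMap F₁ F₂), hh]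
    exact Polynomial.Separable.map (f := algebraMap k₂ F₂) hsep
  have hroot : Polynomial.aeval x h = 0 := by
    rw [Polynomial.aeval_def, ← Polynomial.eval_map, hh, Polynomial.eval_map,
      ← Polynomial.aeval_def, minpoly.aeval]
  have hxs : IsSeparable F₁ x := hhsep.of_dvd (minpoly.dvd F₁ x hroot)
  exact mem_range_of_sep_of_pow p hxs (hpow x)

end Four


section NotMem
variable (p : ℕ) [hp : Fact p.Prime] {k₁ k₂ F₁ F₂ : Type*} [Field k₁] [Field k₂] [Field F₁]
  [Field F₂] [Algebra k₁ k₂] [Algebra k₁ F₁] [Algebra k₂ F₂] [Algebra F₁ F₂] [Algebra k₁ F₂]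
  [IsScalarTower k₁ k₂ F₂] [IsScalarTower k₁ F₁ F₂]

/-- degree of the minimal polynomial of a `p`-th root not in the base field -/
lemma natDegree_minpoly_of_pow {F E : Type*} [Field F] [Field E] [Algebra F E] [CharP F p]
    {x : E} {a : F} (hx : x ^ p = algebraMap F E a) (hx' : x ∉ Set.range (algebraMap F E)) :
    (minpoly F x).natDegree = p := by
  haveI : CharP E p := charP_of_injective_algebraMap (algebraMap F E).injective p
  have hirr : Irreducible (X ^ p - C a : F[X]) := by
    apply X_pow_sub_C_irreducible_of_prime hp.out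
    intro b hb
    apply hx'
    refine ⟨b, ?_⟩
    apply frobenius_inj E p
    show (algebraMap F E b) ^ p = x ^ p
    rw [hx, ← map_pow, hb]
  have hroot : aeval x (X ^ p - C a : F[X]) = 0 := by
    simp only [map_sub, map_pow, aeval_X, aeval_C]
    rw [hx, sub_self]
  have hmon : (X ^ p - C a : F[X]).Monic := monic_X_pow_sub_C a hp.out.ne_zero
  rw [← minpoly.eq_of_irreducible_of_monic hirr hroot hmon, natDegree_X_pow_sub_C]

lemma linearIndependent_pow_of_pow {F E : Type*} [Field F] [Field E] [Algebra F E] [CharP F p]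
    {x : E} {a : F} (hx : x ^ p = algebraMap F E a) (hx' : x ∉ Set.range (algebraMap F E)) :
    LinearIndependent F (fun i : Fin p => x ^ (i : ℕ)) := by
  have hd := natDegree_minpoly_of_pow p hx hx'
  have := (linearIndependent_pow (K := F) x).comp (Fin.cast hd.symm) (Fin.cast_injective _)
  exact this

lemma macLane_of_not_mem [CharP k₁ p] [Module.Finite k₁ k₂] (hdeg : Module.finrank k₁ k₂ ≤ p)
    (β : k₂) (α : k₁) (hβp : β ^ p = algebraMap k₁ k₂ α)
    (hβ : algebraMap k₂ F₂ β ∉ Set.range (algebraMap F₁ F₂)) (hM : MacLane k₂ F₂ p) :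
    MacLane k₁ F₁ p := by
  classical
  haveI : CharP F₁ p := charP_of_injective_algebraMap (algebraMap k₁ F₁).injective p
  set β' := algebraMap k₂ F₂ β with hβ'
  have hβ'p : β' ^ p = algebraMap F₁ F₂ (algebraMap k₁ F₁ α) := by
    rw [hβ', ← map_pow, hβp, ← IsScalarTower.algebraMap_apply, ← IsScalarTower.algebraMap_apply]
  have hli' : LinearIndependent F₁ (fun i : Fin p => β' ^ (i : ℕ)) :=
    linearIndependent_pow_of_pow p hβ'p hβ
  have hβk : β ∉ Set.range (algebraMap k₁ k₂) := by
    rintro ⟨c, hc⟩
    apply hβ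
    refine ⟨algebraMap k₁ F₁ c, ?_⟩
    rw [hβ', ← hc, ← IsScalarTower.algebraMap_apply, ← IsScalarTower.algebraMap_apply]
  have hli : LinearIndependent k₁ (fun i : Fin p => β ^ (i : ℕ)) :=
    linearIndependent_pow_of_pow p hβp hβk
  have hcard : Fintype.card (Fin p) = Module.finrank k₁ k₂ := by
    rw [Fintype.card_fin]
    have := hli.fintype_card_le_finrank
    rw [Fintype.card_fin] at this
    omega
  let bas : Module.Basis (Fin p) k₁ k₂ := basisOfLinearIndependentOfCardEqFinrank hli hcard
  have hbas : ∀ i, bas i = β ^ (i : ℕ) := fun i => by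
    simp only [bas, coe_basisOfLinearIndependentOfCardEqFinrank]
  intro n s hs
  -- the family stays independent over `k₂`
  have hs2 : LinearIndependent k₂ (fun j => algebraMap F₁ F₂ (s j)) := by
    rw [Fintype.linearIndependent_iff]
    intro g hg
    -- coefficients
    have hgj : ∀ j, g j = ∑ i, bas.repr (g j) i • β ^ (i : ℕ) := by
      intro j
      conv_lhs => rw [← bas.sum_repr (g j)]
      exact Finset.sum_congr rfl (fun i _ => by rw [hbas])
    have ht : ∑ i : Fin p, (∑ j, bas.repr (g j) i • s j) • β' ^ (i : ℕ) = 0 := by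
      rw [← hg]
      have h1 : ∀ j, g j • algebraMap F₁ F₂ (s j) =
          ∑ i : Fin p, (bas.repr (g j) i • s j) • β' ^ (i : ℕ) := by
        intro j
        conv_lhs => rw [hgj j]
        rw [Finset.sum_smul]
        apply Finset.sum_congr rfl
        intro i _
        rw [Algebra.smul_def, Algebra.smul_def, Algebra.smul_def, Algebra.smul_def, map_mul,
          map_mul, map_pow, ← hβ', ← IsScalarTower.algebraMap_apply k₁ k₂ F₂,
          ← IsScalarTower.algebraMap_apply k₁ F₁ F₂]
        ring
      simp_rw [h1, Finset.sum_smul]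
      rw [Finset.sum_comm]
    have ht2 := (Fintype.linearIndependent_iff.1 hli') _ ht
    have hs' := Fintype.linearIndependent_iff.1 hs
    intro j
    have hrepr : bas.repr (g j) = 0 := by
      ext i
      exact hs' _ (ht2 i) j
    exact (LinearEquiv.map_eq_zero_iff _).1 hrepr
  have h3 := hM n _ hs2
  have h4 : LinearIndependent k₁ (fun j => (algebraMap F₁ F₂ (s j)) ^ p) :=
    LinearIndependent.restrict_scalars' k₁ h3
  have h5 : (fun j => (algebraMap F₁ F₂ (s j)) ^ p) =
      (IsScalarTower.toAlgHom k₁ F₁ F₂).toLinearMap ∘ (fun j => s j ^ p) := by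
    funext j
    simp
  rw [h5] at h4
  exact LinearIndependent.of_comp _ h4

end NotMem

end Sq
end Groth.Agent.Helper9.EtRamLib
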