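import Mathlib
import Groth.Prelude.Def_EtRam
import Groth.Prelude.Def_Found
import Groth.Agent.Lib.Helper9.EtRam.Dom33
import Groth.Agent.Lib.Helper9.EtRam.Dom34

set_option autoImplicit false
set_option linter.style.haveILetI false
set_option linter.unusedSectionVars false

/-!
# The square of discrete valuation rings for a purely inseparable degree `p` step (helper9)
-/

namespace Groth.Agent.Helper9.EtRamLib
namespace Sq
open IsLocalRing EtRam Groth.Agent.Helper2.Sep

universe u

section NotImmediate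
variable (p : ℕ) (hp : p.Prime) {B C L M : Type u} [CommRing B] [IsDomain B]
  [IsDiscreteValuationRing B] [CommRing C] [IsDomain C] [IsDiscreteValuationRing C] [Algebra B C]
  (hBC : Function.Injective (algebraMap B C)) [IsLocalHom (algebraMap B C)]
  [Field L] [Field M] [Algebra B L] [IsFractionRing B L] [Algebra C M] [IsFractionRing C M]
  [Algebra L M] [Algebra B M] [IsScalarTower B L M] [IsScalarTower B C M]
  [IsPurelyInseparable L M] (hdeg : Module.finrank L M = p)

include hp hdeg in
/-- `p`-th powers of residues come from below -/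
lemma pow_mem_res [CharP L p] (x : ResidueField C) :
    x ^ p ∈ Set.range (algebraMap (ResidueField B) (ResidueField C)) := by
  obtain ⟨c, rfl⟩ := residue_surjective x
  obtain ⟨l, hl⟩ := PIstep.pow_mem_range p hp L M hdeg (algebraMap C M c)
  rw [← map_pow] at hl
  obtain ⟨b, hb⟩ := PIstep.inter_eq' (B := B) hl
  have hbC : algebraMap B C b = c ^ p := by
    apply IsFractionRing.injective C M
    rw [← hl, ← hb, ← IsScalarTower.algebraMap_apply, ← IsScalarTower.algebraMap_apply]
  refine ⟨residue B b, ?_⟩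
  rw [← map_pow, ← hbC]
  rfl

include hp hdeg in
/-- a purely inseparable extension of degree `p` over an N-2 discrete valuation ring is not
immediate -/
theorem not_immediate (hB : Nag.N2' B) (hwu : IsWeaklyUnramified B C)
    (hres : Function.Surjective (algebraMap (ResidueField B) (ResidueField C))) : False := by
  haveI : CharP L p := PIstep.charP_of_pi p hp L M hdeg
  haveI : Module.Finite B C := PIstep.finite_C p hp hdeg hB
  have hle : (⊤ : Submodule B C) ≤ LinearMap.range (Algebra.linearMap B C) := by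
    apply Submodule.le_of_le_smul_of_le_jacobson_bot (I := maximalIdeal B) Module.Finite.fg_top
      (IsLocalRing.maximalIdeal_le_jacobson ⊥)
    intro y _
    obtain ⟨r, hr⟩ := hres (residue C y)
    obtain ⟨b, rfl⟩ := residue_surjective r
    have h1 : y - algebraMap B C b ∈ maximalIdeal C := by
      rw [← residue_eq_zero_iff, map_sub, ← hr, sub_eq_zero]
      rfl
    have h2 : y - algebraMap B C b ∈ maximalIdeal B • (⊤ : Submodule B C) := by
      rw [Ideal.smul_top_eq_map]
      show y - algebraMap B C b ∈ (maximalIdeal B).map (algebraMap B C)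
      have h3 : (maximalIdeal B).map (algebraMap B C) = maximalIdeal C := hwu
      rw [h3]
      exact h1
    rw [Submodule.mem_sup]
    exact ⟨algebraMap B C b, ⟨b, rfl⟩, _, h2, by ring⟩
  have hsurj : Function.Surjective (algebraMap B C) := by
    intro c
    obtain ⟨b, hb⟩ := hle (Submodule.mem_top : c ∈ ⊤)
    exact ⟨b, hb⟩
  have hsurjLM : Function.Surjective (algebraMap L M) := by
    intro m
    obtain ⟨c, c', hc', rfl⟩ := IsFractionRing.div_surjective (A := C) m
    obtain ⟨b, rfl⟩ := hsurj c
    obtain ⟨b', rfl⟩ := hsurj c'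
    refine ⟨algebraMap B L b / algebraMap B L b', ?_⟩
    rw [map_div₀, ← IsScalarTower.algebraMap_apply B L M, ← IsScalarTower.algebraMap_apply B L M,
      IsScalarTower.algebraMap_apply B C M b, IsScalarTower.algebraMap_apply B C M b']
  have h1 : Module.finrank L M = 1 := by
    rw [← Subalgebra.bot_eq_top_iff_finrank_eq_one]
    exact ((Algebra.surjective_algebraMap_iff).1 hsurjLM).symm
  rw [hdeg] at h1
  exact hp.ne_one h1

end NotImmediate


section Core
variable (p : ℕ) [hp : Fact p.Prime]
  (A₁ A₂ W₁ W₂ K₁ K₂ M₁ M₂ : Type u)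
  [CommRing A₁] [IsDomain A₁] [IsDiscreteValuationRing A₁]
  [CommRing A₂] [IsDomain A₂] [IsDiscreteValuationRing A₂]
  [CommRing W₁] [IsDomain W₁] [IsDiscreteValuationRing W₁]
  [CommRing W₂] [IsDomain W₂] [IsDiscreteValuationRing W₂]
  [Algebra A₁ A₂] [Algebra A₁ W₁] [Algebra A₂ W₂] [Algebra W₁ W₂] [Algebra A₁ W₂]
  [IsScalarTower A₁ A₂ W₂] [IsScalarTower A₁ W₁ W₂]
  (h12 : Function.Injective (algebraMap A₁ A₂)) (h1W : Function.Injective (algebraMap A₁ W₁))
  (h2W : Function.Injective (algebraMap A₂ W₂)) (hWW : Function.Injective (algebraMap W₁ W₂))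
  [IsLocalHom (algebraMap A₁ A₂)] [IsLocalHom (algebraMap A₁ W₁)] [IsLocalHom (algebraMap A₂ W₂)]
  [IsLocalHom (algebraMap W₁ W₂)] [IsLocalHom (algebraMap A₁ W₂)]
  [Field K₁] [Field K₂] [Field M₁] [Field M₂]
  [Algebra A₁ K₁] [IsFractionRing A₁ K₁] [Algebra A₂ K₂] [IsFractionRing A₂ K₂] [Algebra K₁ K₂]
  [Algebra A₁ K₂] [IsScalarTower A₁ K₁ K₂] [IsScalarTower A₁ A₂ K₂]
  [Algebra W₁ M₁] [IsFractionRing W₁ M₁] [Algebra W₂ M₂] [IsFractionRing W₂ M₂] [Algebra M₁ M₂]
  [Algebra W₁ M₂] [IsScalarTower W₁ M₁ M₂] [IsScalarTower W₁ W₂ M₂]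
  [IsPurelyInseparable K₁ K₂] (hdegK : Module.finrank K₁ K₂ = p)
  [IsPurelyInseparable M₁ M₂] (hdegM : Module.finrank M₁ M₂ = p)

omit hp in
lemma charP_residue (R F : Type u) [CommRing R] [IsLocalRing R] [Field F] [Algebra R F]
    [FaithfulSMul R F] [CharP F p] (hp : p.Prime) : CharP (ResidueField R) p := by
  rw [CharP.charP_iff_prime_eq_zero hp]
  have h1 : (p : R) = 0 := by
    apply FaithfulSMul.algebraMap_injective R F
    rw [map_natCast, map_zero]
    exact CharP.cast_eq_zero F p
  have h2 : (p : ResidueField R) = residue R (p : R) := (map_natCast (residue R) p).symm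
  rw [h2, h1, map_zero]

include h12 h1W h2W hWW hdegK hdegM in
theorem core (hN : Nag.N2' W₁) (hwu : IsWeaklyUnramified A₂ W₂)
    [Algebra.IsAlgebraic (ResidueField A₂) (ResidueField W₂)]
    [hgr : Algebra.IsGeometricallyReduced (ResidueField A₂) (ResidueField W₂)] :
    IsWeaklyUnramified A₁ W₁ ∧
      Algebra.IsGeometricallyReduced (ResidueField A₁) (ResidueField W₁) := by
  have hp' : p.Prime := hp.out
  haveI cK₁ : CharP K₁ p := PIstep.charP_of_pi p hp' K₁ K₂ hdegK
  haveI cM₁ : CharP M₁ p := PIstep.charP_of_pi p hp' M₁ M₂ hdegM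
  haveI cK₂ : CharP K₂ p := charP_of_injective_algebraMap (algebraMap K₁ K₂).injective p
  haveI ck₁ : CharP (ResidueField A₁) p := charP_residue p A₁ K₁ hp'
  haveI ck₂ : CharP (ResidueField A₂) p := charP_residue p A₂ K₂ hp'
  haveI cF₁ : CharP (ResidueField W₁) p := charP_residue p W₁ M₁ hp'
  haveI t1 : IsScalarTower (ResidueField A₁) (ResidueField A₂) (ResidueField W₂) := by
    apply IsScalarTower.of_algebraMap_eq
    intro x
    obtain ⟨a, rfl⟩ := residue_surjective x
    show residue W₂ (algebraMap A₁ W₂ a) = residue W₂ (algebraMap A₂ W₂ (algebraMap A₁ A₂ a))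
    rw [← IsScalarTower.algebraMap_apply]
  haveI t2 : IsScalarTower (ResidueField A₁) (ResidueField W₁) (ResidueField W₂) := by
    apply IsScalarTower.of_algebraMap_eq
    intro x
    obtain ⟨a, rfl⟩ := residue_surjective x
    show residue W₂ (algebraMap A₁ W₂ a) = residue W₂ (algebraMap W₁ W₂ (algebraMap A₁ W₁ a))
    rw [← IsScalarTower.algebraMap_apply]
  -- ramification indices
  have ht1 := ramificationIdx_tower A₁ W₁ W₂ h1W hWW
  have ht2 := ramificationIdx_tower A₁ A₂ W₂ h12 h2W
  have he₂ : Ideal.ramificationIdx' (maximalIdeal A₂) (maximalIdeal W₂) = 1 :=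
    (isWeaklyUnramified_iff A₂ W₂ h2W).1 hwu
  rw [he₂, mul_one] at ht2
  rw [ht2] at ht1
  have hpos₁ := ramificationIdx_pos A₁ W₁ h1W
  have hposW := ramificationIdx_pos W₁ W₂ hWW
  have hdichA := PIstep.ram_dichotomy p hp' h12 hdegK
  have hdichW := PIstep.ram_dichotomy p hp' hWW hdegM
  have hM₂ : MacLane (ResidueField A₂) (ResidueField W₂) p := macLane_of_isGeometricallyReduced p
  haveI hsep₂ : Algebra.IsSeparable (ResidueField A₂) (ResidueField W₂) :=
    Groth.Agent.Helper2.Cartier.isSeparable_of_isGeometricallyReduced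
  have hsurj_of_one : Module.finrank (ResidueField A₁) (ResidueField A₂) = 1 →
      Function.Surjective (algebraMap (ResidueField A₁) (ResidueField A₂)) := by
    intro hf x
    obtain ⟨r, hr⟩ := (finrank_eq_one_iff_of_nonzero' (1 : ResidueField A₂) one_ne_zero).1 hf x
    exact ⟨r, by rw [← hr, Algebra.smul_def, mul_one]⟩
  by_cases hle : ∀ c : ResidueField A₂, algebraMap (ResidueField A₂) (ResidueField W₂) c ∈
      Set.range (algebraMap (ResidueField W₁) (ResidueField W₂))
  · -- the residue field of `W₂` equals that of `W₁`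
    have hsurj : Function.Surjective (algebraMap (ResidueField W₁) (ResidueField W₂)) :=
      surj_of_le p hle (pow_mem_res (B := W₁) (C := W₂) p hp' hdegM)
    have heW1 : Ideal.ramificationIdx' (maximalIdeal W₁) (maximalIdeal W₂) ≠ 1 := by
      intro h
      exact not_immediate p hp' hdegM hN ((isWeaklyUnramified_iff W₁ W₂ hWW).2 h) hsurj
    have heW : Ideal.ramificationIdx' (maximalIdeal W₁) (maximalIdeal W₂) = p := by
      rcases hdichW with h | ⟨h, -⟩
      · exact absurd h heW1
      · exact h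
    rw [heW] at ht1
    rcases hdichA with h | ⟨h, hf⟩
    · exfalso
      rw [h] at ht1
      have := hp'.two_le
      have h3 : p ∣ 1 := ⟨_, by rw [ht1, mul_comm]⟩
      exact hp'.one_lt.ne' (Nat.dvd_one.1 h3)
    · rw [h] at ht1
      have he₁ : Ideal.ramificationIdx' (maximalIdeal A₁) (maximalIdeal W₁) = 1 := by
        have h4 : 1 * p = Ideal.ramificationIdx' (maximalIdeal A₁) (maximalIdeal W₁) * p := by
          rw [one_mul]; exact ht1
        exact (Nat.eq_of_mul_eq_mul_right hp'.pos h4).symm
      refine ⟨(isWeaklyUnramified_iff A₁ W₁ h1W).2 he₁, ?_⟩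
      exact isGeometricallyReduced_of_macLane p (macLane_of_surj p (hsurj_of_one hf) hM₂)
  · push Not at hle
    obtain ⟨β, hβ⟩ := hle
    obtain ⟨α, hα⟩ := pow_mem_res (B := A₁) (C := A₂) p hp' hdegK β
    have hns : ¬ Function.Surjective (algebraMap (ResidueField A₁) (ResidueField A₂)) := by
      intro hs
      obtain ⟨c, rfl⟩ := hs β
      apply hβ
      refine ⟨algebraMap (ResidueField A₁) (ResidueField W₁) c, ?_⟩
      rw [← IsScalarTower.algebraMap_apply, ← IsScalarTower.algebraMap_apply]
    have heA : Ideal.ramificationIdx' (maximalIdeal A₁) (maximalIdeal A₂) = 1 := by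
      rcases hdichA with h | ⟨-, hf⟩
      · exact h
      · exact absurd (hsurj_of_one hf) hns
    rw [heA] at ht1
    have he₁ : Ideal.ramificationIdx' (maximalIdeal A₁) (maximalIdeal W₁) = 1 :=
      Nat.eq_one_of_mul_eq_one_right ht1.symm
    refine ⟨(isWeaklyUnramified_iff A₁ W₁ h1W).2 he₁, ?_⟩
    haveI : FiniteDimensional K₁ K₂ := Module.finite_of_finrank_pos (by rw [hdegK]; exact hp'.pos)
    obtain ⟨hfin, hle'⟩ := Groth.Agent.S7132.result A₁ A₂ K₁ K₂ h12
    rw [heA, one_mul, hdegK] at hle'
    haveI := hfin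
    exact isGeometricallyReduced_of_macLane p (macLane_of_not_mem p hle' β α hα.symm hβ hM₂)

end Core

end Sq
end Groth.Agent.Helper9.EtRamLib
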