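import Mathlib
import Groth.Prelude.Def_EtRam
import Groth.Prelude.Def_Found
import Groth.Agent.Lib.Helper9.EtRam.Dom35

set_option autoImplicit false
set_option linter.style.haveILetI false
set_option linter.unusedSectionVars false

/-!
# The N-2 property passes to valuation rings of finite extensions (helper9)
-/

namespace Groth.Agent.Helper9.EtRamLib
namespace Sq
open IsLocalRing EtRam

universe u

theorem isDedekindDomain_of_finite (A K L : Type*) [CommRing A] [IsDedekindDomain A]
    [Field K] [Algebra A K] [IsFractionRing A K] [Field L] [Algebra K L] [Algebra A L]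
    [IsScalarTower A K L] [FiniteDimensional K L] [Module.Finite A (integralClosure A L)] :
    IsDedekindDomain (integralClosure A L) :=
  have : IsFractionRing (integralClosure A L) L :=
    integralClosure.isFractionRing_of_finite_extension K L
  have : Algebra.IsIntegral A (integralClosure A L) := IsIntegralClosure.isIntegral_algebra A L
  have h3 : IsIntegrallyClosed (integralClosure A L) :=
    integralClosure.isIntegrallyClosedOfFiniteExtension K
  { IsNoetherianRing.of_finite A (integralClosure A L),
    Ring.DimensionLEOne.of_isIntegral A (integralClosure A L),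
    h3 with : IsDedekindDomain (integralClosure A L) }

section Transfer
variable {B M₁ : Type u} (L : Type u) [CommRing B] [IsDomain B] [IsDiscreteValuationRing B] [Field L]
  [Algebra B L] [IsFractionRing B L] [Field M₁] [Algebra L M₁] [FiniteDimensional L M₁]
  [Algebra B M₁] [IsScalarTower B L M₁]

include L in
theorem n2'_of_dominates (hB : Nag.N2' B) (W : ValuationSubring M₁)
    (hW : Dominates B (algebraMap B M₁) W) : Nag.N2' W := by
  classical
  haveI hfinS : Module.Finite B (integralClosure B M₁) := hB L M₁
  haveI : IsDedekindDomain (integralClosure B M₁) := isDedekindDomain_of_finite B L M₁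
  haveI : IsFractionRing (integralClosure B M₁) M₁ :=
    integralClosure.isFractionRing_of_finite_extension L M₁
  have hSV := Dict.hSV hW
  have hq : Dict.center W hSV ≠ ⊥ := Dict.center_ne_bot L hW
  letI algSW : Algebra (integralClosure B M₁) W := (Dict.incl W hSV).toAlgebra
  haveI : IsScalarTower (integralClosure B M₁) W M₁ := IsScalarTower.of_algebraMap_eq (fun s => rfl)
  -- `W` is the localization at its center
  haveI hloc : IsLocalization (Dict.center W hSV).primeCompl W := by
    rw [isLocalization_iff]
    refine ⟨?_, ?_, ?_⟩
    · rintro ⟨t, ht⟩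
      have ht' : t ∉ Dict.center W hSV := ht
      have h1 := Dict.val_eq_one_of_not_mem W hSV ht'
      show IsUnit (Dict.incl W hSV t)
      rw [ValuationSubring.valuation_eq_one_iff]
      exact h1
    · intro z
      obtain ⟨a, t, ht, hz⟩ := Dict.exists_frac W hSV hq z.2
      refine ⟨(a, ⟨t, ht⟩), ?_⟩
      apply Subtype.ext
      show (z : M₁) * algebraMap _ M₁ t = algebraMap _ M₁ a
      rw [hz, mul_assoc, inv_mul_cancel₀ (Dict.ne_zero_of_not_mem W hSV ht), mul_one]
    · intro x y hxy
      refine ⟨1, ?_⟩
      have h1 : algebraMap (integralClosure B M₁) M₁ x = algebraMap (integralClosure B M₁) M₁ y :=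
        congrArg (fun w : W => (w : M₁)) hxy
      rw [IsFractionRing.injective (integralClosure B M₁) M₁ h1]
  apply Nag.n2'_of_n2at M₁
  intro E _ _ _ _ _
  letI algBE : Algebra B E := ((algebraMap M₁ E).comp (algebraMap B M₁)).toAlgebra
  letI algLE : Algebra L E := ((algebraMap M₁ E).comp (algebraMap L M₁)).toAlgebra
  haveI : IsScalarTower B M₁ E := IsScalarTower.of_algebraMap_eq (fun _ => rfl)
  haveI : IsScalarTower L M₁ E := IsScalarTower.of_algebraMap_eq (fun _ => rfl)
  haveI : IsScalarTower B L E := IsScalarTower.of_algebraMap_eq (fun b => by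
    show algebraMap M₁ E (algebraMap B M₁ b) = algebraMap M₁ E (algebraMap L M₁ (algebraMap B L b))
    rw [← IsScalarTower.algebraMap_apply B L M₁])
  haveI : FiniteDimensional L E := FiniteDimensional.trans L M₁ E
  haveI hfinE : Module.Finite B (integralClosure B E) := hB L E
  haveI : IsScalarTower (integralClosure B M₁) M₁ E := inferInstance
  haveI : IsScalarTower (integralClosure B M₁) W E := IsScalarTower.of_algebraMap_eq (fun s => by
    show algebraMap M₁ E (algebraMap _ M₁ s) = algebraMap W E (Dict.incl W hSV s)
    rw [IsScalarTower.algebraMap_apply W M₁ E]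
    rfl)
  haveI : IsScalarTower B (integralClosure B M₁) E := IsScalarTower.of_algebraMap_eq (fun b => by
    show algebraMap M₁ E (algebraMap B M₁ b) =
      algebraMap M₁ E (algebraMap _ M₁ (algebraMap B (integralClosure B M₁) b))
    rfl)
  haveI : Algebra.IsIntegral B (integralClosure B M₁) := IsIntegralClosure.isIntegral_algebra B M₁
  letI algBW : Algebra B W := (RingHom.codRestrict (algebraMap B M₁) W hW.1).toAlgebra
  haveI : IsScalarTower B W M₁ := IsScalarTower.of_algebraMap_eq (fun _ => rfl)
  haveI : IsScalarTower B W E := IsScalarTower.of_algebraMap_eq (fun b => by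
    show algebraMap M₁ E (algebraMap B M₁ b) = algebraMap W E (algebraMap B W b)
    rw [IsScalarTower.algebraMap_apply W M₁ E]
    rfl)
  obtain ⟨G, hG⟩ := hfinE.fg_top
  change Module.Finite W (Subalgebra.toSubmodule (integralClosure W E))
  rw [Module.Finite.iff_fg]
  refine ⟨G.image (fun g : integralClosure B E => (g : E)), ?_⟩
  apply le_antisymm
  · rw [Submodule.span_le]
    intro y hy
    rw [Finset.coe_image] at hy
    obtain ⟨g, -, rfl⟩ := hy
    have : IsIntegral B (g : E) := g.2
    exact this.tower_top
  · intro x hx
    have hx' : IsIntegral W x := hx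
    obtain ⟨⟨t, ht⟩, hint⟩ :=
      IsIntegral.exists_multiple_integral_of_isLocalization (Dict.center W hSV).primeCompl x hx'
    have hint' : IsIntegral B (t • x) := isIntegral_trans _ hint
    have ht' : t ∉ Dict.center W hSV := ht
    -- `t • x` lies in the span of `G`
    have hmem : (⟨t • x, hint'⟩ : integralClosure B E) ∈ Submodule.span B (G : Set _) := by
      rw [hG]; trivial
    have hmem2 : t • x ∈ Submodule.span W ((G.image (fun g : integralClosure B E => (g : E)) : Finset E) : Set E) := by
      have h1 : t • x ∈ Submodule.span B ((G.image (fun g : integralClosure B E => (g : E)) : Finset E) : Set E) := by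
        have h2 := Submodule.apply_mem_span_image_of_mem_span
          (integralClosure B E).val.toLinearMap hmem
        rw [Finset.coe_image]
        exact h2
      exact Submodule.span_le_restrictScalars B W _ h1
    -- divide by `t`
    have hu : IsUnit (Dict.incl W hSV t) := by
      rw [ValuationSubring.valuation_eq_one_iff]
      exact Dict.val_eq_one_of_not_mem W hSV ht'
    obtain ⟨u, hu⟩ := hu
    have hx2 : x = ((u⁻¹ : Wˣ) : W) • (t • x) := by
      have h3 : t • x = (u : W) • x := by
        rw [hu, Algebra.smul_def, Algebra.smul_def,
          IsScalarTower.algebraMap_apply (integralClosure B M₁) W E t]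
        rfl
      rw [h3, smul_smul, Units.inv_mul, one_smul]
    rw [hx2]
    exact Submodule.smul_mem _ _ hmem2

end Transfer

end Sq
end Groth.Agent.Helper9.EtRamLib
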