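import Mathlib
import Groth.Prelude.Def_EtRam
import Groth.Prelude.Def_Found
import Groth.Agent.Lib.Helper9.EtRam.Dom36

set_option autoImplicit false
set_option linter.style.haveILetI false
set_option linter.unusedSectionVars false

/-!
# Compositum with a purely inseparable degree `p` extension; residue algebraicity (helper9)
-/

namespace Groth.Agent.Helper9.EtRamLib
namespace Sq
open IsLocalRing EtRam TensorProduct

universe u

section Compositum
variable (p : ℕ) [hp : Fact p.Prime] (K₁ K₂ M₁ : Type u) [Field K₁] [Field K₂] [Field M₁]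
  [Algebra K₁ K₂] [Algebra K₁ M₁] [IsPurelyInseparable K₁ K₂]
  (hdeg : Module.finrank K₁ K₂ = p) [Algebra.IsSeparable K₁ M₁]

include hdeg in
theorem exists_compositum :
    ∃ (M₂ : Type u) (_ : Field M₂) (_ : Algebra M₁ M₂) (_ : Algebra K₂ M₂) (_ : Algebra K₁ M₂)
      (_ : IsScalarTower K₁ M₁ M₂) (_ : IsScalarTower K₁ K₂ M₂),
      IsPurelyInseparable M₁ M₂ ∧ Module.finrank M₁ M₂ = p ∧
      Algebra.adjoin M₁ (Set.range (algebraMap K₂ M₂)) = ⊤ := by
  have hp' : p.Prime := hp.out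
  haveI : CharP K₁ p := PIstep.charP_of_pi p hp' K₁ K₂ hdeg
  haveI : CharP M₁ p := charP_of_injective_algebraMap (algebraMap K₁ M₁).injective p
  haveI : ExpChar M₁ p := ExpChar.prime hp'
  haveI : FiniteDimensional K₁ K₂ := Module.finite_of_finrank_pos (by rw [hdeg]; exact hp'.pos)
  haveI : Nontrivial (M₁ ⊗[K₁] K₂) := inferInstance
  obtain ⟨𝔪, h𝔪⟩ := Ideal.exists_maximal (M₁ ⊗[K₁] K₂)
  letI : Field ((M₁ ⊗[K₁] K₂) ⧸ 𝔪) := Ideal.Quotient.field 𝔪
  letI algK₂ : Algebra K₂ ((M₁ ⊗[K₁] K₂) ⧸ 𝔪) :=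
    ((Ideal.Quotient.mk 𝔪).comp
      (Algebra.TensorProduct.includeRight : K₂ →ₐ[K₁] M₁ ⊗[K₁] K₂).toRingHom).toAlgebra
  haveI tw : IsScalarTower K₁ K₂ ((M₁ ⊗[K₁] K₂) ⧸ 𝔪) := IsScalarTower.of_algebraMap_eq (fun k => by
    show Ideal.Quotient.mk 𝔪 (algebraMap K₁ (M₁ ⊗[K₁] K₂) k) =
      Ideal.Quotient.mk 𝔪 (Algebra.TensorProduct.includeRight (algebraMap K₁ K₂ k))
    rw [AlgHom.commutes])
  haveI : CharP ((M₁ ⊗[K₁] K₂) ⧸ 𝔪) p :=
    charP_of_injective_algebraMap (algebraMap M₁ ((M₁ ⊗[K₁] K₂) ⧸ 𝔪)).injective p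
  have hK₂map : ∀ k : K₂, algebraMap K₂ ((M₁ ⊗[K₁] K₂) ⧸ 𝔪) k =
      Ideal.Quotient.mk 𝔪 ((1 : M₁) ⊗ₜ[K₁] k) := fun k => rfl
  have hM₁map : ∀ m : M₁, algebraMap M₁ ((M₁ ⊗[K₁] K₂) ⧸ 𝔪) m =
      Ideal.Quotient.mk 𝔪 (m ⊗ₜ[K₁] (1 : K₂)) := fun m => rfl
  have hadj : Algebra.adjoin M₁ (Set.range (algebraMap K₂ ((M₁ ⊗[K₁] K₂) ⧸ 𝔪))) = ⊤ := by
    rw [eq_top_iff]
    rintro x -
    obtain ⟨t, rfl⟩ := Ideal.Quotient.mk_surjective x
    induction t using TensorProduct.induction_on with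
    | zero => rw [map_zero]; exact zero_mem _
    | tmul l k =>
      have : (l ⊗ₜ[K₁] k : M₁ ⊗[K₁] K₂) = l • ((1 : M₁) ⊗ₜ[K₁] k) := by
        rw [TensorProduct.smul_tmul', smul_eq_mul, mul_one]
      rw [this]
      have h2 : Ideal.Quotient.mk 𝔪 (l • ((1 : M₁) ⊗ₜ[K₁] k)) =
          l • Ideal.Quotient.mk 𝔪 ((1 : M₁) ⊗ₜ[K₁] k) := rfl
      rw [h2]
      have h3 : Ideal.Quotient.mk 𝔪 ((1 : M₁) ⊗ₜ[K₁] k) ∈
          Algebra.adjoin M₁ (Set.range (algebraMap K₂ ((M₁ ⊗[K₁] K₂) ⧸ 𝔪))) :=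
        Algebra.subset_adjoin ⟨k, rfl⟩
      exact Subalgebra.smul_mem _ h3 l
    | add x y hx hy => rw [map_add]; exact add_mem hx hy
  -- `p`-th powers
  have hpow : ∀ y : (M₁ ⊗[K₁] K₂) ⧸ 𝔪, y ^ p ∈
      Set.range (algebraMap M₁ ((M₁ ⊗[K₁] K₂) ⧸ 𝔪)) := by
    intro y
    obtain ⟨t, rfl⟩ := Ideal.Quotient.mk_surjective y
    induction t using TensorProduct.induction_on with
    | zero => exact ⟨0, by rw [map_zero, map_zero, zero_pow hp'.ne_zero]⟩
    | tmul m k =>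
      obtain ⟨c, hc⟩ := PIstep.pow_mem_range p hp' K₁ K₂ hdeg k
      refine ⟨c • m ^ p, ?_⟩
      rw [hM₁map, ← map_pow, Algebra.TensorProduct.tmul_pow, ← hc,
        Algebra.algebraMap_eq_smul_one, TensorProduct.tmul_smul, TensorProduct.smul_tmul']
    | add x y hx hy =>
      obtain ⟨a, ha⟩ := hx
      obtain ⟨b, hb⟩ := hy
      refine ⟨a + b, ?_⟩
      rw [map_add, map_add, add_pow_char, ha, hb]
  haveI hpi : IsPurelyInseparable M₁ ((M₁ ⊗[K₁] K₂) ⧸ 𝔪) := by
    rw [isPurelyInseparable_iff_pow_mem M₁ p]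
    intro y
    exact ⟨1, by rw [pow_one]; exact hpow y⟩
  -- the degree
  have hle : Module.finrank M₁ ((M₁ ⊗[K₁] K₂) ⧸ 𝔪) ≤ p := by
    have hT : Module.finrank M₁ (M₁ ⊗[K₁] K₂) = p := by
      rw [Module.finrank_baseChange, hdeg]
    have hq : Module.finrank M₁ ((M₁ ⊗[K₁] K₂) ⧸ 𝔪.restrictScalars M₁) =
        Module.finrank M₁ ((M₁ ⊗[K₁] K₂) ⧸ 𝔪) := rfl
    rw [← hq, ← hT]
    exact Submodule.finrank_quotient_le _
  haveI : FiniteDimensional M₁ ((M₁ ⊗[K₁] K₂) ⧸ 𝔪) := by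
    have : Module.Finite M₁ ((M₁ ⊗[K₁] K₂) ⧸ 𝔪.restrictScalars M₁) := inferInstance
    exact this
  have hge : p ≤ Module.finrank M₁ ((M₁ ⊗[K₁] K₂) ⧸ 𝔪) := by
    -- an element of `K₂` outside `K₁`
    obtain ⟨θ, hθ⟩ : ∃ θ : K₂, θ ∉ Set.range (algebraMap K₁ K₂) := by
      by_contra hall
      push Not at hall
      have h1 : Module.finrank K₁ K₂ = 1 := by
        rw [← Subalgebra.bot_eq_top_iff_finrank_eq_one]
        exact ((Algebra.surjective_algebraMap_iff).1 hall).symm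
      rw [hdeg] at h1
      exact hp'.ne_one h1
    obtain ⟨a₀, ha₀⟩ := PIstep.pow_mem_range p hp' K₁ K₂ hdeg θ
    set θ' := algebraMap K₂ ((M₁ ⊗[K₁] K₂) ⧸ 𝔪) θ with hθ'
    have hθ'p : θ' ^ p = algebraMap M₁ ((M₁ ⊗[K₁] K₂) ⧸ 𝔪) (algebraMap K₁ M₁ a₀) := by
      rw [hθ', ← map_pow, ← ha₀, ← IsScalarTower.algebraMap_apply, ← IsScalarTower.algebraMap_apply]
    have hθ'n : θ' ∉ Set.range (algebraMap M₁ ((M₁ ⊗[K₁] K₂) ⧸ 𝔪)) := by
      rintro ⟨b, hb⟩
      have hbp : b ^ p = algebraMap K₁ M₁ a₀ := by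
        apply (algebraMap M₁ ((M₁ ⊗[K₁] K₂) ⧸ 𝔪)).injective
        rw [map_pow, hb, hθ'p]
      have hbs : IsSeparable K₁ b := Algebra.IsSeparable.isSeparable K₁ b
      obtain ⟨c, hc⟩ := mem_range_of_sep_of_pow p hbs ⟨a₀, hbp.symm⟩
      apply hθ
      refine ⟨c, ?_⟩
      apply (algebraMap K₂ ((M₁ ⊗[K₁] K₂) ⧸ 𝔪)).injective
      rw [← hθ', ← hb, ← hc, ← IsScalarTower.algebraMap_apply, ← IsScalarTower.algebraMap_apply]
    have hd := natDegree_minpoly_of_pow p hθ'p hθ'n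
    rw [← hd]
    exact minpoly.natDegree_le θ'
  exact ⟨(M₁ ⊗[K₁] K₂) ⧸ 𝔪, inferInstance, inferInstance, algK₂, inferInstance, inferInstance, tw,
    hpi, le_antisymm hle hge, hadj⟩

end Compositum


section ResAlg
open Polynomial
variable {K M : Type u} [Field K] [Field M] [Algebra K M] [Algebra.IsAlgebraic K M]
  (W : ValuationSubring M)

/-- the residue field extension of an algebraic extension is algebraic -/
theorem residue_isAlgebraic :
    @Algebra.IsAlgebraic (ResidueField (W.comap (algebraMap K M))) (ResidueField W) _ _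
      (ResidueField.map (inclOfComap W (algebraMap K M))).toAlgebra := by
  letI : Algebra (W.comap (algebraMap K M)) W := (inclOfComap W (algebraMap K M)).toAlgebra
  letI : Algebra (ResidueField (W.comap (algebraMap K M))) (ResidueField W) :=
    (ResidueField.map (inclOfComap W (algebraMap K M))).toAlgebra
  constructor
  intro x
  obtain ⟨y, rfl⟩ := residue_surjective x
  obtain ⟨P, hP0, hPy⟩ := Algebra.IsAlgebraic.isAlgebraic (R := K) (y : M)
  have hne : P.support.Nonempty := by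
    rw [Finset.nonempty_iff_ne_empty, Ne, Polynomial.support_eq_empty]
    exact hP0
  obtain ⟨i₀, hi₀, hmax⟩ := Finset.exists_max_image P.support
    (fun i => W.valuation (algebraMap K M (P.coeff i))) hne
  set d := P.coeff i₀ with hd
  have hd0 : d ≠ 0 := Polynomial.mem_support_iff.1 hi₀
  have hvd : W.valuation (algebraMap K M d) ≠ 0 := by
    rw [Ne, map_eq_zero, map_eq_zero]; exact hd0
  set P' : K[X] := C d⁻¹ * P with hP'
  have hcoeff : ∀ i, P'.coeff i = d⁻¹ * P.coeff i := fun i => by rw [hP', coeff_C_mul]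
  have hmem : ∀ i, algebraMap K M (P'.coeff i) ∈ W := by
    intro i
    rw [← W.valuation_le_one_iff, hcoeff, map_mul, map_mul, map_inv₀, map_inv₀]
    by_cases hi : i ∈ P.support
    · have := hmax i hi
      rw [inv_mul_le_iff₀ (zero_lt_iff.2 hvd), mul_one]
      exact this
    · rw [Polynomial.notMem_support_iff.1 hi, map_zero, map_zero, mul_zero]
      exact zero_le_one
  have hlift : P' ∈ Polynomial.lifts (W.comap (algebraMap K M)).subtype := by
    rw [Polynomial.lifts_iff_coeff_lifts]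
    intro i
    exact ⟨⟨P'.coeff i, hmem i⟩, rfl⟩
  obtain ⟨Q, hQ⟩ := hlift
  replace hQ : Q.map (W.comap (algebraMap K M)).subtype = P' := hQ
  refine ⟨Q.map (residue _), ?_, ?_⟩
  · intro h0
    have h1 : (Q.map (residue (W.comap (algebraMap K M)))).coeff i₀ = 0 := by rw [h0, coeff_zero]
    rw [coeff_map] at h1
    have h2 : Q.coeff i₀ = 1 := by
      apply Subtype.ext
      have := congrArg (fun R => R.coeff i₀) hQ
      simp only [coeff_map] at this
      show ((W.comap (algebraMap K M)).subtype (Q.coeff i₀)) = 1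
      rw [this, hcoeff, ← hd, inv_mul_cancel₀ hd0]
    rw [h2, map_one] at h1
    exact one_ne_zero h1
  · rw [aeval_def, eval₂_map]
    have hcomp : (algebraMap (ResidueField (W.comap (algebraMap K M))) (ResidueField W)).comp
        (residue (W.comap (algebraMap K M))) =
        (residue W).comp (algebraMap (W.comap (algebraMap K M)) W) := by
      ext a; rfl
    rw [hcomp, ← Polynomial.hom_eval₂]
    have hz : eval₂ (algebraMap (W.comap (algebraMap K M)) W) y Q = 0 := by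
      apply Subtype.ext
      show W.subtype (eval₂ (algebraMap (W.comap (algebraMap K M)) W) y Q) = 0
      rw [Polynomial.hom_eval₂]
      have hcomp2 : W.subtype.comp (algebraMap (W.comap (algebraMap K M)) W) =
          (algebraMap K M).comp (W.comap (algebraMap K M)).subtype := by
        ext a; rfl
      rw [hcomp2, ← eval₂_map, hQ, hP', eval₂_mul, eval₂_C]
      have : eval₂ (algebraMap K M) (W.subtype y) P = 0 := hPy
      rw [this, mul_zero]
    rw [hz, map_zero]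

end ResAlg

end Sq
end Groth.Agent.Helper9.EtRamLib
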