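import Mathlib
import Groth.Prelude.Def_EtRam
import Groth.Prelude.Def_Found
import Groth.Agent.Lib.Helper9.EtRam.Dom37

set_option autoImplicit false
set_option linter.style.haveILetI false
set_option linter.unusedSectionVars false

/-!
# Descent of solutions along a purely inseparable degree `p` step: the local statement (helper9)
-/

namespace Groth.Agent.Helper9.EtRamLib
namespace Sq
open IsLocalRing EtRam

universe u

lemma resAlg_eq (R S : Type*) [CommRing R] [IsLocalRing R] [CommRing S] [IsLocalRing S]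
    [Algebra R S] [IsLocalHom (algebraMap R S)] :
    (ResidueField.instAlgebra : Algebra (ResidueField R) (ResidueField S)) =
      (ResidueField.map (algebraMap R S)).toAlgebra := by
  apply Algebra.algebra_ext
  intro r
  obtain ⟨a, rfl⟩ := residue_surjective r
  rfl

section Bridge
variable (p : ℕ) [hp : Fact p.Prime] {K₁ K₂ M₁ M₂ : Type u} [Field K₁] [Field K₂] [Field M₁]
  [Field M₂] [Algebra K₁ K₂] [Algebra K₁ M₁] [Algebra M₁ M₂] [Algebra K₂ M₂] [Algebra K₁ M₂]
  [IsScalarTower K₁ K₂ M₂] [IsScalarTower K₁ M₁ M₂]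
  [IsPurelyInseparable K₁ K₂] (hdegK : Module.finrank K₁ K₂ = p)
  [IsPurelyInseparable M₁ M₂] (hdegM : Module.finrank M₁ M₂ = p)
  [Algebra.IsAlgebraic K₂ M₂] (W₂ : ValuationSubring M₂)

include hdegK hdegM in
theorem descend_step
    (d1 : IsDiscreteValuationRing ((W₂.comap (algebraMap M₁ M₂)).comap (algebraMap K₁ M₁)))
    (d2 : IsDiscreteValuationRing (W₂.comap (algebraMap K₂ M₂)))
    (d3 : IsDiscreteValuationRing (W₂.comap (algebraMap M₁ M₂)))
    (d4 : IsDiscreteValuationRing W₂)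
    (hN : Nag.N2' (W₂.comap (algebraMap M₁ M₂)))
    (hwu : letI : Algebra (W₂.comap (algebraMap K₂ M₂)) W₂ :=
        (inclOfComap W₂ (algebraMap K₂ M₂)).toAlgebra
      IsWeaklyUnramified (W₂.comap (algebraMap K₂ M₂)) W₂)
    (hgr : @Algebra.IsGeometricallyReduced (ResidueField (W₂.comap (algebraMap K₂ M₂)))
        (ResidueField W₂) _ _ (ResidueField.map (inclOfComap W₂ (algebraMap K₂ M₂))).toAlgebra) :
    @IsWeaklyUnramified ((W₂.comap (algebraMap M₁ M₂)).comap (algebraMap K₁ M₁))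
        (W₂.comap (algebraMap M₁ M₂)) _ _ _ _
        (inclOfComap (W₂.comap (algebraMap M₁ M₂)) (algebraMap K₁ M₁)).toAlgebra ∧
    @Algebra.IsGeometricallyReduced
      (ResidueField ((W₂.comap (algebraMap M₁ M₂)).comap (algebraMap K₁ M₁)))
      (ResidueField (W₂.comap (algebraMap M₁ M₂))) _ _
      (ResidueField.map (inclOfComap (W₂.comap (algebraMap M₁ M₂)) (algebraMap K₁ M₁))).toAlgebra := by
  have hcomm : ∀ x : K₁, algebraMap M₁ M₂ (algebraMap K₁ M₁ x) =
      algebraMap K₂ M₂ (algebraMap K₁ K₂ x) := fun x => by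
    rw [← IsScalarTower.algebraMap_apply, ← IsScalarTower.algebraMap_apply]
  -- algebra structures
  letI a1W : Algebra ((W₂.comap (algebraMap M₁ M₂)).comap (algebraMap K₁ M₁))
      (W₂.comap (algebraMap M₁ M₂)) :=
    (inclOfComap (W₂.comap (algebraMap M₁ M₂)) (algebraMap K₁ M₁)).toAlgebra
  letI a2W : Algebra (W₂.comap (algebraMap K₂ M₂)) W₂ :=
    (inclOfComap W₂ (algebraMap K₂ M₂)).toAlgebra
  letI aWW : Algebra (W₂.comap (algebraMap M₁ M₂)) W₂ :=
    (inclOfComap W₂ (algebraMap M₁ M₂)).toAlgebra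
  have hmem12 : ∀ x : ((W₂.comap (algebraMap M₁ M₂)).comap (algebraMap K₁ M₁)),
      ((algebraMap K₁ K₂).comp
        ((W₂.comap (algebraMap M₁ M₂)).comap (algebraMap K₁ M₁)).subtype) x ∈
        W₂.comap (algebraMap K₂ M₂) := by
    intro x
    show algebraMap K₂ M₂ (algebraMap K₁ K₂ (x : K₁)) ∈ W₂
    rw [← hcomm]
    exact x.2
  letI a12 : Algebra ((W₂.comap (algebraMap M₁ M₂)).comap (algebraMap K₁ M₁))
      (W₂.comap (algebraMap K₂ M₂)) :=
    (RingHom.codRestrict ((algebraMap K₁ K₂).comp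
      ((W₂.comap (algebraMap M₁ M₂)).comap (algebraMap K₁ M₁)).subtype)
      (W₂.comap (algebraMap K₂ M₂)) hmem12).toAlgebra
  letI a1W₂ : Algebra ((W₂.comap (algebraMap M₁ M₂)).comap (algebraMap K₁ M₁)) W₂ :=
    ((algebraMap (W₂.comap (algebraMap M₁ M₂)) W₂).comp
      (algebraMap ((W₂.comap (algebraMap M₁ M₂)).comap (algebraMap K₁ M₁))
        (W₂.comap (algebraMap M₁ M₂)))).toAlgebra
  haveI : IsScalarTower ((W₂.comap (algebraMap M₁ M₂)).comap (algebraMap K₁ M₁))
      (W₂.comap (algebraMap M₁ M₂)) W₂ := IsScalarTower.of_algebraMap_eq (fun _ => rfl)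
  haveI : IsScalarTower ((W₂.comap (algebraMap M₁ M₂)).comap (algebraMap K₁ M₁))
      (W₂.comap (algebraMap K₂ M₂)) W₂ := IsScalarTower.of_algebraMap_eq (fun x => by
    apply Subtype.ext
    show algebraMap M₁ M₂ (algebraMap K₁ M₁ (x : K₁)) =
      algebraMap K₂ M₂ (algebraMap K₁ K₂ (x : K₁))
    exact hcomm _)
  -- injectivity
  have h12 : Function.Injective (algebraMap ((W₂.comap (algebraMap M₁ M₂)).comap
      (algebraMap K₁ M₁)) (W₂.comap (algebraMap K₂ M₂))) := by
    intro x y hxy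
    apply Subtype.ext
    apply (algebraMap K₁ K₂).injective
    exact congrArg Subtype.val hxy
  have h1W : Function.Injective (algebraMap ((W₂.comap (algebraMap M₁ M₂)).comap
      (algebraMap K₁ M₁)) (W₂.comap (algebraMap M₁ M₂))) := by
    intro x y hxy
    apply Subtype.ext
    apply (algebraMap K₁ M₁).injective
    exact congrArg Subtype.val hxy
  have h2W : Function.Injective (algebraMap (W₂.comap (algebraMap K₂ M₂)) W₂) := by
    intro x y hxy
    apply Subtype.ext
    apply (algebraMap K₂ M₂).injective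
    exact congrArg Subtype.val hxy
  have hWW : Function.Injective (algebraMap (W₂.comap (algebraMap M₁ M₂)) W₂) := by
    intro x y hxy
    apply Subtype.ext
    apply (algebraMap M₁ M₂).injective
    exact congrArg Subtype.val hxy
  -- local homomorphisms
  haveI l1W : IsLocalHom (algebraMap ((W₂.comap (algebraMap M₁ M₂)).comap (algebraMap K₁ M₁))
      (W₂.comap (algebraMap M₁ M₂))) :=
    isLocalHom_inclOfComap (W₂.comap (algebraMap M₁ M₂)) (algebraMap K₁ M₁)
  haveI l2W : IsLocalHom (algebraMap (W₂.comap (algebraMap K₂ M₂)) W₂) :=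
    isLocalHom_inclOfComap W₂ (algebraMap K₂ M₂)
  haveI lWW : IsLocalHom (algebraMap (W₂.comap (algebraMap M₁ M₂)) W₂) :=
    isLocalHom_inclOfComap W₂ (algebraMap M₁ M₂)
  haveI l1W₂ : IsLocalHom (algebraMap ((W₂.comap (algebraMap M₁ M₂)).comap (algebraMap K₁ M₁))
      W₂) := RingHom.isLocalHom_comp _ _
  haveI l12 : IsLocalHom (algebraMap ((W₂.comap (algebraMap M₁ M₂)).comap (algebraMap K₁ M₁))
      (W₂.comap (algebraMap K₂ M₂))) := by
    constructor
    intro a ha
    have h1 : IsUnit (algebraMap _ W₂ (algebraMap ((W₂.comap (algebraMap M₁ M₂)).comap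
        (algebraMap K₁ M₁)) (W₂.comap (algebraMap K₂ M₂)) a)) := ha.map _
    rw [← IsScalarTower.algebraMap_apply] at h1
    exact l1W₂.map_nonunit a h1
  -- fraction fields
  letI a1K₂ : Algebra ((W₂.comap (algebraMap M₁ M₂)).comap (algebraMap K₁ M₁)) K₂ :=
    ((algebraMap K₁ K₂).comp (algebraMap _ K₁)).toAlgebra
  haveI : IsScalarTower ((W₂.comap (algebraMap M₁ M₂)).comap (algebraMap K₁ M₁)) K₁ K₂ :=
    IsScalarTower.of_algebraMap_eq (fun _ => rfl)
  haveI : IsScalarTower ((W₂.comap (algebraMap M₁ M₂)).comap (algebraMap K₁ M₁))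
      (W₂.comap (algebraMap K₂ M₂)) K₂ := IsScalarTower.of_algebraMap_eq (fun _ => rfl)
  letI aWM₂ : Algebra (W₂.comap (algebraMap M₁ M₂)) M₂ :=
    ((algebraMap M₁ M₂).comp (algebraMap _ M₁)).toAlgebra
  haveI : IsScalarTower (W₂.comap (algebraMap M₁ M₂)) M₁ M₂ :=
    IsScalarTower.of_algebraMap_eq (fun _ => rfl)
  haveI : IsScalarTower (W₂.comap (algebraMap M₁ M₂)) W₂ M₂ :=
    IsScalarTower.of_algebraMap_eq (fun _ => rfl)
  -- residue hypotheses
  haveI halg : Algebra.IsAlgebraic (ResidueField (W₂.comap (algebraMap K₂ M₂)))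
      (ResidueField W₂) := by
    rw [resAlg_eq]
    exact residue_isAlgebraic W₂
  haveI hgr' : Algebra.IsGeometricallyReduced (ResidueField (W₂.comap (algebraMap K₂ M₂)))
      (ResidueField W₂) := by
    rw [resAlg_eq]
    exact hgr
  have hcore := core p ((W₂.comap (algebraMap M₁ M₂)).comap (algebraMap K₁ M₁))
    (W₂.comap (algebraMap K₂ M₂)) (W₂.comap (algebraMap M₁ M₂)) W₂ K₁ K₂ M₁ M₂
    h12 h1W h2W hWW hdegK hdegM hN hwu
  refine ⟨hcore.1, ?_⟩
  have h2 := hcore.2
  rw [resAlg_eq] at h2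
  exact h2

end Bridge

end Sq
end Groth.Agent.Helper9.EtRamLib
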