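import Mathlib
import Groth.Prelude.Def_EtRam
import Groth.Prelude.Def_Found
import Groth.Agent.Lib.Helper9.EtRam.Dom38

set_option autoImplicit false
set_option linter.style.haveILetI false
set_option linter.unusedSectionVars false

/-!
# Descent of solutions along a purely inseparable degree `p` step (helper9)
-/

namespace Groth.Agent.Helper9.EtRamLib
namespace Sq
open IsLocalRing EtRam

universe u

section Sep
variable (K : Type u) {L K₁ M₁ : Type u} [Field K] [Field L] [Field K₁] [Field M₁]
  [Algebra K L] [Algebra K K₁] [Algebra K M₁] [Algebra L M₁] [Algebra K₁ M₁]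
  [IsScalarTower K L M₁] [IsScalarTower K K₁ M₁] [Algebra.IsSeparable K L]

include K in
lemma isSeparable_of_adjoin (hadj : Algebra.adjoin L (Set.range (algebraMap K₁ M₁)) = ⊤) :
    Algebra.IsSeparable K₁ M₁ := by
  have h1 : ∀ l : L, IsSeparable K₁ (algebraMap L M₁ l) := by
    intro l
    have h2 : IsSeparable K l := Algebra.IsSeparable.isSeparable K l
    have h3 : IsSeparable K (algebraMap L M₁ l) := by
      unfold IsSeparable at h2 ⊢
      rw [minpoly.algebraMap_eq (algebraMap L M₁).injective]
      exact h2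
    exact IsSeparable.tower_top K₁ h3
  rw [← separableClosure.eq_top_iff, eq_top_iff]
  rintro y -
  have hy : y ∈ Algebra.adjoin L (Set.range (algebraMap K₁ M₁)) := by rw [hadj]; trivial
  induction hy using Algebra.adjoin_induction with
  | mem x hx =>
    obtain ⟨k, rfl⟩ := hx
    exact (separableClosure K₁ M₁).algebraMap_mem k
  | algebraMap l => exact mem_separableClosure_iff.2 (h1 l)
  | add x y _ _ hx hy => exact add_mem hx hy
  | mul x y _ _ hx hy => exact mul_mem hx hy

end Sep


section Step
variable (A B K L : Type u) [CommRing A] [IsDomain A] [IsDiscreteValuationRing A]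
    [CommRing B] [IsDomain B] [IsDiscreteValuationRing B] [Algebra A B]
    [IsLocalHom (algebraMap A B)]
    [Field K] [Field L] [Algebra A K] [IsFractionRing A K] [Algebra B L] [IsFractionRing B L]
    [Algebra K L] [Algebra A L] [IsScalarTower A K L] [IsScalarTower A B L]
    [Algebra.IsSeparable K L]

include A in
/-- the DVR-ness of the valuation subrings attached to a local extension -/
lemma dvr_pair (K₁ M : Type u) [Field K₁] [Field M] [Algebra K K₁] [FiniteDimensional K K₁]
    [Algebra K M] [Algebra L M] [Algebra K₁ M] [IsScalarTower K L M] [IsScalarTower K K₁ M]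
    (hadj : Algebra.adjoin L (Set.range (algebraMap K₁ M)) = ⊤) (W : ValuationSubring M)
    (hW : Dominates B ((algebraMap L M).comp (algebraMap B L)) W) :
    IsDiscreteValuationRing (W.comap (algebraMap K₁ M)) ∧ IsDiscreteValuationRing W ∧
      FiniteDimensional L M := by
  set f := algebraMap K₁ M with hf
  set g₁ := (algebraMap L M).comp (algebraMap B L) with hg₁
  set gK₁ := (algebraMap K K₁).comp (algebraMap A K) with hgK₁
  have hcompat0 : f.comp gK₁ = g₁.comp (algebraMap A B) := by
    ext a
    simp only [f, gK₁, g₁, RingHom.comp_apply]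
    rw [← IsScalarTower.algebraMap_apply K K₁ M, ← IsScalarTower.algebraMap_apply A B L,
      IsScalarTower.algebraMap_apply A K L, ← IsScalarTower.algebraMap_apply K L M]
  have hWA : Dominates A (f.comp gK₁) W := hcompat0 ▸ dom_comp_local hW
  have hV₁dom : Dominates A gK₁ (W.comap f) := dom_comap hWA
  have hV₁dvr : IsDiscreteValuationRing (W.comap f) :=
    isDVR_of_dominates (A := A) (K := K) (g := gK₁) (fun a => rfl) hV₁dom
  haveI hfin : FiniteDimensional L M := finite_of_adjoin_eq_top (K := K) hadj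
  have hWdvr : IsDiscreteValuationRing W :=
    isDVR_of_dominates (A := B) (K := L) (g := g₁) (fun a => rfl) hW
  exact ⟨hV₁dvr, hWdvr, hfin⟩

include A in
theorem step (hB : CAlg.IsNagata B) (p : ℕ) [hp : Fact p.Prime]
    (K₁ K₂ : Type u) [Field K₁] [Field K₂] [Algebra K K₁] [Algebra K K₂] [Algebra K₁ K₂]
    [IsScalarTower K K₁ K₂] [FiniteDimensional K K₁] [FiniteDimensional K K₂]
    [IsPurelyInseparable K₁ K₂] (hdeg : Module.finrank K₁ K₂ = p)
    (h₂ : IsSolution B K L K₂) : IsSolution B K L K₁ := by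
  intro M₁ _ _ _ _ _ _ hadj W₁ hW₁
  haveI hsepM₁ : Algebra.IsSeparable K₁ M₁ := isSeparable_of_adjoin K hadj
  obtain ⟨M₂, iF, iA1, iA2, iA3, iT1, iT2, hpi, hdegM, hgen⟩ := exists_compositum p K₁ K₂ M₁ hdeg
  letI := iF
  letI := iA1
  letI := iA2
  letI := iA3
  haveI := iT1
  haveI := iT2
  haveI := hpi
  letI algLM₂ : Algebra L M₂ := ((algebraMap M₁ M₂).comp (algebraMap L M₁)).toAlgebra
  letI algKM₂ : Algebra K M₂ := ((algebraMap M₁ M₂).comp (algebraMap K M₁)).toAlgebra
  haveI : IsScalarTower L M₁ M₂ := IsScalarTower.of_algebraMap_eq (fun _ => rfl)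
  haveI : IsScalarTower K M₁ M₂ := IsScalarTower.of_algebraMap_eq (fun _ => rfl)
  haveI : IsScalarTower K L M₂ := IsScalarTower.of_algebraMap_eq (fun c => by
    show algebraMap M₁ M₂ (algebraMap K M₁ c) = algebraMap M₁ M₂ (algebraMap L M₁ (algebraMap K L c))
    rw [← IsScalarTower.algebraMap_apply K L M₁])
  haveI : IsScalarTower K K₁ M₂ := IsScalarTower.of_algebraMap_eq (fun c => by
    show algebraMap M₁ M₂ (algebraMap K M₁ c) = algebraMap K₁ M₂ (algebraMap K K₁ c)
    rw [IsScalarTower.algebraMap_apply K K₁ M₁, ← IsScalarTower.algebraMap_apply K₁ M₁ M₂])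
  haveI : IsScalarTower K K₂ M₂ := IsScalarTower.of_algebraMap_eq (fun c => by
    rw [IsScalarTower.algebraMap_apply K K₁ M₂, IsScalarTower.algebraMap_apply K₁ K₂ M₂,
      ← IsScalarTower.algebraMap_apply K K₁ K₂])
  -- generation
  have hadj₂ : Algebra.adjoin L (Set.range (algebraMap K₂ M₂)) = ⊤ := by
    set S := Algebra.adjoin L (Set.range (algebraMap K₂ M₂)) with hS
    have h1 : ∀ m : M₁, algebraMap M₁ M₂ m ∈ S := by
      intro m
      have hm : m ∈ Algebra.adjoin L (Set.range (algebraMap K₁ M₁)) := by rw [hadj]; trivial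
      induction hm using Algebra.adjoin_induction with
      | mem x hx =>
        obtain ⟨k, rfl⟩ := hx
        rw [← IsScalarTower.algebraMap_apply K₁ M₁ M₂, IsScalarTower.algebraMap_apply K₁ K₂ M₂]
        exact Algebra.subset_adjoin ⟨_, rfl⟩
      | algebraMap l =>
        rw [← IsScalarTower.algebraMap_apply L M₁ M₂]
        exact S.algebraMap_mem l
      | add x y _ _ hx hy => rw [map_add]; exact add_mem hx hy
      | mul x y _ _ hx hy => rw [map_mul]; exact mul_mem hx hy
    rw [eq_top_iff]
    rintro y -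
    have hy : y ∈ Algebra.adjoin M₁ (Set.range (algebraMap K₂ M₂)) := by rw [hgen]; trivial
    induction hy using Algebra.adjoin_induction with
    | mem x hx => exact Algebra.subset_adjoin hx
    | algebraMap m => exact h1 m
    | add x y _ _ hx hy => exact add_mem hx hy
    | mul x y _ _ hx hy => exact mul_mem hx hy
  -- valuation subring upstairs
  obtain ⟨W₂, hW₂⟩ := exists_dom_ext W₁ (algebraMap M₁ M₂)
  have hcomap : W₂.comap (algebraMap M₁ M₂) = W₁ := comap_eq_of_dom hW₂
  have hW₂B : Dominates B ((algebraMap L M₂).comp (algebraMap B L)) W₂ := by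
    have := dom_trans hW₁ hW₂
    exact this
  have hsol := h₂ M₂ hadj₂ W₂ hW₂B
  obtain ⟨d1', d3', hfin₁⟩ := dvr_pair A B K L K₁ M₁ hadj W₁ hW₁
  obtain ⟨d2, d4, hfin₂⟩ := dvr_pair A B K L K₂ M₂ hadj₂ W₂ hW₂B
  have d3 : IsDiscreteValuationRing (W₂.comap (algebraMap M₁ M₂)) := hcomap.symm ▸ d3'
  have d1 : IsDiscreteValuationRing ((W₂.comap (algebraMap M₁ M₂)).comap (algebraMap K₁ M₁)) :=
    hcomap.symm ▸ d1'
  -- N-2
  letI algBM₁ : Algebra B M₁ := ((algebraMap L M₁).comp (algebraMap B L)).toAlgebra
  haveI : IsScalarTower B L M₁ := IsScalarTower.of_algebraMap_eq (fun _ => rfl)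
  have hN' : Nag.N2' W₁ := n2'_of_dominates L (Nag.n2'_of_isNagata hB) W₁ hW₁
  have hN : Nag.N2' (W₂.comap (algebraMap M₁ M₂)) := hcomap.symm ▸ hN'
  -- algebraicity
  haveI : Algebra.IsAlgebraic K₁ M₁ := inferInstance
  haveI : Algebra.IsAlgebraic M₁ M₂ := inferInstance
  haveI : Algebra.IsAlgebraic K₁ M₂ := Algebra.IsAlgebraic.trans K₁ M₁ M₂
  haveI : Algebra.IsAlgebraic K₂ M₂ := Algebra.IsAlgebraic.tower_top (K := K₁) K₂
  have hres := descend_step p hdeg hdegM W₂ d1 d2 d3 d4 hN hsol.1 hsol.2
  exact hcomap ▸ hres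

end Step


section Induction
variable (A B K L : Type u) [CommRing A] [IsDomain A] [IsDiscreteValuationRing A]
    [CommRing B] [IsDomain B] [IsDiscreteValuationRing B] [Algebra A B]
    [IsLocalHom (algebraMap A B)]
    [Field K] [Field L] [Algebra A K] [IsFractionRing A K] [Algebra B L] [IsFractionRing B L]
    [Algebra K L] [Algebra A L] [IsScalarTower A K L] [IsScalarTower A B L]
    [Algebra.IsSeparable K L]

/-- in a nontrivial purely inseparable extension there is an element outside the base whose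
`p`-th power lies in the base -/
lemma exists_pow_mem (p : ℕ) [hp : Fact p.Prime] (K₁ K₂ : Type u) [Field K₁] [Field K₂]
    [Algebra K₁ K₂] [CharP K₁ p] [IsPurelyInseparable K₁ K₂]
    (hne : ¬ Function.Surjective (algebraMap K₁ K₂)) :
    ∃ θ : K₂, θ ∉ Set.range (algebraMap K₁ K₂) ∧ θ ^ p ∈ Set.range (algebraMap K₁ K₂) := by
  classical
  haveI : ExpChar K₁ p := ExpChar.prime hp.out
  have hx : ∃ x : K₂, x ∉ Set.range (algebraMap K₁ K₂) := by
    by_contra hcon
    push Not at hcon
    exact hne hcon
  obtain ⟨x, hx⟩ := hx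
  have hex : ∃ m : ℕ, x ^ p ^ m ∈ Set.range (algebraMap K₁ K₂) :=
    (isPurelyInseparable_iff_pow_mem K₁ p).1 inferInstance x
  have hm0 : Nat.find hex ≠ 0 := by
    intro h0
    have := Nat.find_spec hex
    rw [h0, pow_zero, pow_one] at this
    exact hx this
  obtain ⟨m, hm⟩ := Nat.exists_eq_succ_of_ne_zero hm0
  refine ⟨x ^ p ^ m, ?_, ?_⟩
  · exact Nat.find_min hex (by rw [hm]; exact Nat.lt_succ_self m)
  · have := Nat.find_spec hex
    rw [hm, pow_succ, pow_mul] at this
    exact this

include A in
theorem descent (hB : CAlg.IsNagata B) (p : ℕ) [hp : Fact p.Prime] (n : ℕ) :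
    ∀ (K₁ K₂ : Type u) [Field K₁] [Field K₂] [Algebra K K₁] [Algebra K K₂] [Algebra K₁ K₂]
    [IsScalarTower K K₁ K₂] [FiniteDimensional K K₁] [FiniteDimensional K K₂]
    [IsPurelyInseparable K₁ K₂], Module.finrank K₁ K₂ = p ^ (n + 1) →
    IsSolution B K L K₂ → IsSolution B K L K₁ := by
  have hp' : p.Prime := hp.out
  induction n with
  | zero =>
    intro K₁ K₂ _ _ _ _ _ _ _ _ _ hdeg h₂
    rw [zero_add, pow_one] at hdeg
    exact step A B K L hB p K₁ K₂ hdeg h₂
  | succ n ih =>
    intro K₁ K₂ _ _ _ _ _ _ _ _ _ hdeg h₂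
    haveI : FiniteDimensional K₁ K₂ := Module.Finite.of_restrictScalars_finite K K₁ K₂
    -- characteristic
    haveI : CharP K₁ p := by
      obtain ⟨q, hq⟩ : ∃ q, ExpChar K₁ q := ⟨ringExpChar K₁, inferInstance⟩
      haveI := hq
      obtain ⟨m, hm⟩ := IsPurelyInseparable.finrank_eq_pow (F := K₁) K₂ q
      rw [hdeg] at hm
      cases hq with
      | zero =>
        rw [one_pow] at hm
        exact absurd hm (Nat.one_lt_pow (Nat.succ_ne_zero _) hp'.one_lt).ne'
      | prime hq =>
        have hm0 : m ≠ 0 := by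
          rintro rfl
          rw [pow_zero] at hm
          exact (Nat.one_lt_pow (Nat.succ_ne_zero _) hp'.one_lt).ne' hm
        have hdvd : q ∣ p ^ (n + 1 + 1) := by rw [hm]; exact dvd_pow_self q hm0
        have : q = p := (Nat.prime_dvd_prime_iff_eq hq hp').1 (hq.dvd_of_dvd_pow hdvd)
        subst this
        infer_instance
    have hne : ¬ Function.Surjective (algebraMap K₁ K₂) := by
      intro hs
      have h1 : Module.finrank K₁ K₂ = 1 := by
        rw [← Subalgebra.bot_eq_top_iff_finrank_eq_one]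
        exact ((Algebra.surjective_algebraMap_iff).1 hs).symm
      rw [hdeg] at h1
      exact (Nat.one_lt_pow (Nat.succ_ne_zero _) hp'.one_lt).ne' h1
    obtain ⟨θ, hθ, ⟨a₀, ha₀⟩⟩ := exists_pow_mem p K₁ K₂ hne
    -- the intermediate field
    have hint : IsIntegral K₁ θ := Algebra.IsIntegral.isIntegral θ
    have hd1 : Module.finrank K₁ (IntermediateField.adjoin K₁ {θ}) = p := by
      rw [IntermediateField.adjoin.finrank hint]
      exact natDegree_minpoly_of_pow p ha₀.symm hθ
    have hd2 : Module.finrank (IntermediateField.adjoin K₁ {θ}) K₂ = p ^ (n + 1) := by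
      have h1 := Module.finrank_mul_finrank K₁ (IntermediateField.adjoin K₁ {θ}) K₂
      rw [hd1, hdeg, pow_succ' p (n + 1)] at h1
      exact Nat.eq_of_mul_eq_mul_left hp'.pos h1
    haveI : FiniteDimensional K (IntermediateField.adjoin K₁ {θ}) :=
      Module.Finite.trans K₁ (IntermediateField.adjoin K₁ {θ})
    haveI : IsPurelyInseparable K₁ (IntermediateField.adjoin K₁ {θ}) :=
      IsPurelyInseparable.tower_bot K₁ (IntermediateField.adjoin K₁ {θ}) K₂
    haveI : IsPurelyInseparable (IntermediateField.adjoin K₁ {θ}) K₂ :=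
      IsPurelyInseparable.tower_top K₁ (IntermediateField.adjoin K₁ {θ}) K₂
    haveI : IsScalarTower K (IntermediateField.adjoin K₁ {θ}) K₂ :=
      IsScalarTower.of_algebraMap_eq (fun c => rfl)
    haveI : IsScalarTower K K₁ (IntermediateField.adjoin K₁ {θ}) :=
      IsScalarTower.of_algebraMap_eq (fun c => by
        apply Subtype.ext
        show algebraMap K K₂ c = algebraMap K₁ K₂ (algebraMap K K₁ c)
        exact IsScalarTower.algebraMap_apply K K₁ K₂ c)
    have h₁' : IsSolution B K L (IntermediateField.adjoin K₁ {θ}) :=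
      ih (IntermediateField.adjoin K₁ {θ}) K₂ hd2 h₂
    exact step A B K L hB p K₁ (IntermediateField.adjoin K₁ {θ}) hd1 h₁'

end Induction


section Final
variable (A B K L : Type u) [CommRing A] [IsDomain A] [IsDiscreteValuationRing A]
    [CommRing B] [IsDomain B] [IsDiscreteValuationRing B] [Algebra A B]
    [IsLocalHom (algebraMap A B)]
    [Field K] [Field L] [Algebra A K] [IsFractionRing A K] [Algebra B L] [IsFractionRing B L]
    [Algebra K L] [Algebra A L] [IsScalarTower A K L] [IsScalarTower A B L]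
    [Algebra.IsSeparable K L]

include A in
theorem separable_solution (hB : CAlg.IsNagata B)
    (K₂ : Type u) [Field K₂] [Algebra K K₂] [FiniteDimensional K K₂]
    (h₂ : IsSolution B K L K₂) :
    ∃ (K₃ : Type u) (_ : Field K₃) (_ : Algebra K K₃) (_ : FiniteDimensional K K₃)
      (_ : Algebra.IsSeparable K K₃), IsSolution B K L K₃ := by
  by_cases hsep : Algebra.IsSeparable K K₂
  · exact ⟨K₂, inferInstance, inferInstance, inferInstance, hsep, h₂⟩
  · obtain h0 | ⟨p, hp, hpK⟩ := CharP.exists' K
    · exfalso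
      apply hsep
      infer_instance
    · haveI := hp
      haveI := hpK
      have hp' : p.Prime := hp.out
      haveI : ExpChar K p := ExpChar.prime hp'
      haveI : ExpChar (separableClosure K K₂) p :=
        expChar_of_injective_algebraMap (algebraMap K (separableClosure K K₂)).injective p
      obtain ⟨m, hm⟩ := IsPurelyInseparable.finrank_eq_pow (F := separableClosure K K₂) K₂ p
      have hm0 : m ≠ 0 := by
        rintro rfl
        rw [pow_zero, IntermediateField.finrank_eq_one_iff_eq_top, separableClosure.eq_top_iff]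
          at hm
        exact hsep hm
      obtain ⟨n, rfl⟩ := Nat.exists_eq_succ_of_ne_zero hm0
      have h₃ := descent A B K L hB p n (separableClosure K K₂) K₂ hm h₂
      exact ⟨separableClosure K K₂, inferInstance, inferInstance, inferInstance, inferInstance, h₃⟩

end Final

end Sq
end Groth.Agent.Helper9.EtRamLib
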