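import Mathlib
import Groth.Prelude.Def_EtRam
import Groth.Prelude.Def_Found
import Groth.Agent.Lib.Helper9.EtRam.Dom39

set_option autoImplicit false
set_option linter.style.haveILetI false
set_option linter.unusedSectionVars false

/-!
# A Krasner-type approximation lemma for purely inseparable degree `p` generators (helper9)
-/

namespace Groth.Agent.Helper9.EtRamLib
namespace Kr
open IsLocalRing EtRam Polynomial

universe u

section ValSum
variable {Ω : Type*} [Field Ω] {Γ : Type*} [LinearOrderedCommGroupWithZero Γ] (v : Valuation Ω Γ)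

/-- a finite sum whose nonzero terms have pairwise distinct valuations dominates each term -/
lemma le_map_sum_of_distinct {ι : Type*} (s : Finset ι) (t : ι → Ω)
    (hd : ∀ i ∈ s, ∀ k ∈ s, i ≠ k → t i ≠ 0 → v (t i) ≠ v (t k)) :
    ∀ i ∈ s, v (t i) ≤ v (∑ k ∈ s, t k) := by
  classical
  intro i hi
  obtain ⟨k₀, hk₀, hmax⟩ := Finset.exists_max_image s (fun k => v (t k)) ⟨i, hi⟩
  rcases eq_or_ne (t k₀) 0 with h0 | h0
  · have h1 : v (t i) ≤ 0 := by
      have := hmax i hi
      simpa [h0] using this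
    exact le_trans h1 zero_le
  · have hsum : v (∑ k ∈ s, t k) = v (t k₀) := by
      apply Valuation.map_sum_eq_of_lt v hk₀
      intro k hk
      rw [Finset.mem_sdiff, Finset.mem_singleton] at hk
      exact lt_of_le_of_ne (hmax k hk.1) (fun h => hd k₀ hk₀ k hk.1 (Ne.symm hk.2) h0 h.symm)
    rw [hsum]
    exact hmax i hi

variable {E : Type*} [Field E] [Algebra E Ω]

/-- valuation independence of powers when the values of `x, …, x^{p-1}` avoid the value group of `E` -/
lemma vb_a (p : ℕ) (x : Ω) (hx : x ≠ 0)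
    (ha : ∀ i, 0 < i → i < p → ∀ c : E, c ≠ 0 → v x ^ i ≠ v (algebraMap E Ω c))
    (b : ℕ → E) : ∀ i < p, v (algebraMap E Ω (b i)) * v x ^ i ≤
      v (∑ k ∈ Finset.range p, algebraMap E Ω (b k) * x ^ k) := by
  intro i hi
  have hγ : v x ≠ 0 := (Valuation.ne_zero_iff v).2 hx
  have key := le_map_sum_of_distinct v (Finset.range p) (fun k => algebraMap E Ω (b k) * x ^ k) ?_
    i (Finset.mem_range.2 hi)
  · simpa only [map_mul, map_pow] using key
  · intro k hk l hl hkl hk0 heq
    rw [Finset.mem_range] at hk hl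
    simp only [map_mul, map_pow] at heq
    have hbk : b k ≠ 0 := by
      intro h; apply hk0; rw [h, map_zero, zero_mul]
    have hvk : v (algebraMap E Ω (b k)) ≠ 0 := by
      rw [Valuation.ne_zero_iff, Ne, map_eq_zero]; exact hbk
    have hbl : b l ≠ 0 := by
      intro h
      rw [h, map_zero, map_zero, zero_mul] at heq
      exact (mul_ne_zero hvk (pow_ne_zero _ hγ)) heq
    have hvl : v (algebraMap E Ω (b l)) ≠ 0 := by
      rw [Valuation.ne_zero_iff, Ne, map_eq_zero]; exact hbl
    rcases lt_or_gt_of_ne hkl with hlt | hlt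
    · -- k < l
      apply ha (l - k) (Nat.sub_pos_of_lt hlt) (by omega) (b k / b l) (div_ne_zero hbk hbl)
      rw [map_div₀, map_div₀, eq_div_iff hvl]
      have h2 : v x ^ l = v x ^ (l - k) * v x ^ k := by rw [← pow_add]; congr 1; omega
      rw [h2] at heq
      have h3 : v (algebraMap E Ω (b k)) * v x ^ k =
          (v x ^ (l - k) * v (algebraMap E Ω (b l))) * v x ^ k := by rw [heq]; ac_rfl
      exact (mul_right_cancel₀ (pow_ne_zero _ hγ) h3).symm
    · -- l < k
      apply ha (k - l) (Nat.sub_pos_of_lt hlt) (by omega) (b l / b k) (div_ne_zero hbl hbk)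
      rw [map_div₀, map_div₀, eq_div_iff hvk]
      have h2 : v x ^ k = v x ^ (k - l) * v x ^ l := by rw [← pow_add]; congr 1; omega
      rw [h2] at heq
      have h3 : v (algebraMap E Ω (b l)) * v x ^ l =
          (v x ^ (k - l) * v (algebraMap E Ω (b k))) * v x ^ l := by rw [← heq]; ac_rfl
      exact (mul_right_cancel₀ (pow_ne_zero _ hγ) h3).symm

end ValSum


section VBb
variable {Ω : Type u} [Field Ω] (V : ValuationSubring Ω) {E : Type u} [Field E] [Algebra E Ω]
  (p : ℕ) [hp : Fact p.Prime] [CharP E p]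

/-- valuation independence of the powers of a unit whose residue is purely inseparable of degree `p`
over the residue field of `E` -/
lemma vb_b (u : Ω) (hu : V.valuation u = 1) (a' : E) (hup : u ^ p = algebraMap E Ω a')
    (hfar : ∀ c : E, 1 ≤ V.valuation (u - algebraMap E Ω c)) (c : ℕ → E) :
    ∀ i < p, V.valuation (algebraMap E Ω (c i)) ≤
      V.valuation (∑ k ∈ Finset.range p, algebraMap E Ω (c k) * u ^ k) := by
  classical
  set j := algebraMap E Ω with hj
  set VE := V.comap j with hVE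
  letI algVE : Algebra VE V := (inclOfComap V j).toAlgebra
  letI algres : Algebra (ResidueField VE) (ResidueField V) :=
    (ResidueField.map (inclOfComap V j)).toAlgebra
  haveI : CharP (ResidueField VE) p := Sq.charP_residue p VE E hp.out
  have huV : u ∈ V := by rw [← V.valuation_le_one_iff, hu]
  have ha'V : a' ∈ VE := by
    show j a' ∈ V
    rw [← V.valuation_le_one_iff, ← hup, map_pow, hu, one_pow]
  set ub : ResidueField V := residue V ⟨u, huV⟩ with hub
  have hubp : ub ^ p = algebraMap (ResidueField VE) (ResidueField V) (residue VE ⟨a', ha'V⟩) := by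
    rw [hub, ← map_pow]
    show _ = ResidueField.map (inclOfComap V j) (residue VE ⟨a', ha'V⟩)
    rw [ResidueField.map_residue]
    congr 1
    exact Subtype.ext hup
  have hubn : ub ∉ Set.range (algebraMap (ResidueField VE) (ResidueField V)) := by
    rintro ⟨r, hr⟩
    obtain ⟨⟨c₁, hc₁⟩, rfl⟩ := residue_surjective r
    have h1 : residue V (inclOfComap V j ⟨c₁, hc₁⟩) = residue V ⟨u, huV⟩ := by
      rw [← ResidueField.map_residue]; exact hr
    have h2 : (inclOfComap V j ⟨c₁, hc₁⟩ - ⟨u, huV⟩ : V) ∈ maximalIdeal V := by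
      rw [← residue_eq_zero_iff, map_sub, h1, sub_self]
    rw [V.valuation_lt_one_iff] at h2
    have h3 := hfar c₁
    have h4 : ((inclOfComap V j ⟨c₁, hc₁⟩ - ⟨u, huV⟩ : V) : Ω) = j c₁ - u := rfl
    rw [h4, Valuation.map_sub_swap] at h2
    exact absurd h2 (not_lt.2 h3)
  have hli := Sq.linearIndependent_pow_of_pow p hubp hubn
  intro i hi
  obtain ⟨k₀, hk₀, hmax⟩ := Finset.exists_max_image (Finset.range p)
    (fun k => V.valuation (j (c k))) ⟨i, Finset.mem_range.2 hi⟩
  rw [Finset.mem_range] at hk₀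
  rcases eq_or_ne (c k₀) 0 with h0 | h0
  · have h1 : V.valuation (j (c i)) ≤ 0 := by
      have := hmax i (Finset.mem_range.2 hi)
      simpa [h0] using this
    exact le_trans h1 zero_le
  · have hv0 : V.valuation (j (c k₀)) ≠ 0 := by
      rw [Valuation.ne_zero_iff, Ne, map_eq_zero]; exact h0
    set d : ℕ → E := fun k => c k / c k₀ with hd
    have hdV : ∀ k, k < p → d k ∈ VE := by
      intro k hk
      show j (d k) ∈ V
      rw [← V.valuation_le_one_iff, hd, map_div₀, map_div₀]
      exact div_le_one_of_le₀ (hmax k (Finset.mem_range.2 hk)) zero_le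
    have hfac : ∑ k ∈ Finset.range p, j (c k) * u ^ k =
        j (c k₀) * ∑ k ∈ Finset.range p, j (d k) * u ^ k := by
      rw [Finset.mul_sum]
      apply Finset.sum_congr rfl
      intro k _
      rw [hd, map_div₀]
      have hj0 : j (c k₀) ≠ 0 := by rw [Ne, map_eq_zero]; exact h0
      field_simp
    rw [hfac, map_mul]
    refine le_trans (hmax i (Finset.mem_range.2 hi)) ?_
    suffices h : 1 ≤ V.valuation (∑ k ∈ Finset.range p, j (d k) * u ^ k) by
      calc V.valuation (j (c k₀)) = V.valuation (j (c k₀)) * 1 := (mul_one _).symm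
        _ ≤ _ := mul_le_mul_right h _
    by_contra hlt
    rw [not_le] at hlt
    -- the element of `V`
    let D : Fin p → VE := fun k => ⟨d k, hdV k k.2⟩
    let T : V := ∑ k : Fin p, inclOfComap V j (D k) * (⟨u, huV⟩ : V) ^ (k : ℕ)
    have hT : (T : Ω) = ∑ k ∈ Finset.range p, j (d k) * u ^ k := by
      rw [← Fin.sum_univ_eq_sum_range (fun k => j (d k) * u ^ k) p]
      show ((∑ k : Fin p, inclOfComap V j (D k) * (⟨u, huV⟩ : V) ^ (k : ℕ) : V) : Ω) = _
      rw [← V.subtype_apply, map_sum]
      rfl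
    have hTm : T ∈ maximalIdeal V := by
      rw [V.valuation_lt_one_iff, hT]
      exact hlt
    have hres : residue V T = 0 := (residue_eq_zero_iff _).2 hTm
    have hres2 : ∑ k : Fin p, residue VE (D k) • ub ^ (k : ℕ) = 0 := by
      rw [← hres]
      show _ = residue V (∑ k : Fin p, inclOfComap V j (D k) * (⟨u, huV⟩ : V) ^ (k : ℕ))
      rw [map_sum]
      apply Finset.sum_congr rfl
      intro k _
      rw [map_mul, map_pow, Algebra.smul_def]
      rfl
    have hzero := (Fintype.linearIndependent_iff.1 hli) (fun k => residue VE (D k)) hres2 ⟨k₀, hk₀⟩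
    have hone : D ⟨k₀, hk₀⟩ = 1 := by
      apply Subtype.ext
      show c k₀ / c k₀ = 1
      exact div_self h0
    rw [hone, map_one] at hzero
    exact one_ne_zero hzero

end VBb


section Approx
variable {Ω : Type u} [Field Ω] (V : ValuationSubring Ω) {E : Type u} [Field E] [Algebra E Ω]
  (p : ℕ) [hp : Fact p.Prime] [CharP E p]

lemma val_pow_sub_pow_le (x x' : Ω) (k : ℕ) :
    V.valuation (x ^ (k + 1) - x' ^ (k + 1)) ≤
      V.valuation (x - x') * max (V.valuation x) (V.valuation x') ^ k := by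
  induction k with
  | zero => simp
  | succ k ih =>
    have h1 : x ^ (k + 1 + 1) - x' ^ (k + 1 + 1) =
        x * (x ^ (k + 1) - x' ^ (k + 1)) + (x - x') * x' ^ (k + 1) := by ring
    rw [h1]
    apply Valuation.map_add_le
    · rw [map_mul]
      calc V.valuation x * V.valuation (x ^ (k + 1) - x' ^ (k + 1))
          ≤ max (V.valuation x) (V.valuation x') *
            (V.valuation (x - x') * max (V.valuation x) (V.valuation x') ^ k) :=
            mul_le_mul' (le_max_left _ _) ih
        _ = V.valuation (x - x') * max (V.valuation x) (V.valuation x') ^ (k + 1) := by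
            rw [pow_succ]; ac_rfl
    · rw [map_mul, map_pow]
      exact mul_le_mul_right (pow_le_pow_left₀ zero_le (le_max_right _ _) _) _

/-- Bezout in the value group -/
lemma exists_val_eq_of_pow {γ : V.ValueGroup} (hγ : γ ≠ 0) {i : ℕ} (hi0 : 0 < i) (hip : i < p)
    {c a : E} (hc : c ≠ 0) (ha : a ≠ 0)
    (h1 : γ ^ i = V.valuation (algebraMap E Ω c)) (h2 : γ ^ p = V.valuation (algebraMap E Ω a)) :
    ∃ b : E, b ≠ 0 ∧ γ = V.valuation (algebraMap E Ω b) := by
  have hcop : Nat.Coprime p i := Nat.coprime_of_lt_prime hi0.ne' hip hp.out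
  have hbz := Nat.gcd_eq_gcd_ab p i
  rw [hcop.gcd_eq_one] at hbz
  set s := Nat.gcdA p i
  set t := Nat.gcdB p i
  refine ⟨a ^ s * c ^ t, mul_ne_zero (zpow_ne_zero _ ha) (zpow_ne_zero _ hc), ?_⟩
  rw [map_mul, map_zpow₀, map_zpow₀, map_mul, map_zpow₀, map_zpow₀, ← h1, ← h2,
    ← zpow_natCast, ← zpow_natCast, ← zpow_mul, ← zpow_mul, ← zpow_add₀ hγ, ← hbz]
  simp


/-- valuation independence of `1, x, …, x^{p-1}` over `E` when `0` is a best approximation of `x` -/
lemma vb (x : Ω) (hx : x ≠ 0) (a : E) (hxp : x ^ p = algebraMap E Ω a)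
    (h0 : ∀ c : E, V.valuation x ≤ V.valuation (x - algebraMap E Ω c)) (b : ℕ → E) :
    ∀ i < p, V.valuation (algebraMap E Ω (b i)) * V.valuation x ^ i ≤
      V.valuation (∑ k ∈ Finset.range p, algebraMap E Ω (b k) * x ^ k) := by
  set j := algebraMap E Ω with hj
  have hγ : V.valuation x ≠ 0 := (Valuation.ne_zero_iff _).2 hx
  have ha : a ≠ 0 := by
    intro h
    rw [h, map_zero] at hxp
    exact hx (pow_eq_zero_iff (hp.out.ne_zero) |>.1 hxp)
  by_cases hcase : ∀ i, 0 < i → i < p → ∀ c : E, c ≠ 0 → V.valuation x ^ i ≠ V.valuation (j c)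
  · exact vb_a V.valuation p x hx hcase b
  · push Not at hcase
    obtain ⟨i₁, hi₁0, hi₁p, c₁, hc₁, hval₁⟩ := hcase
    have hvalp : V.valuation x ^ p = V.valuation (j a) := by rw [← map_pow, hxp]
    obtain ⟨b₀, hb₀, hvb₀⟩ := exists_val_eq_of_pow V p hγ hi₁0 hi₁p hc₁ ha hval₁ hvalp
    have hjb₀ : j b₀ ≠ 0 := by rw [Ne, map_eq_zero]; exact hb₀
    set u := x / j b₀ with hu
    have hu1 : V.valuation u = 1 := by
      rw [hu, map_div₀, ← hvb₀, div_self hγ]
    have hup : u ^ p = j (a / b₀ ^ p) := by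
      rw [hu, div_pow, hxp, map_div₀, map_pow]
    have hfar : ∀ c : E, 1 ≤ V.valuation (u - j c) := by
      intro c
      have h1 : u - j c = (x - j (b₀ * c)) / j b₀ := by
        rw [hu, map_mul]; field_simp
      rw [h1, map_div₀, ← hvb₀, le_div_iff₀ (zero_lt_iff.2 hγ), one_mul]
      exact h0 _
    intro i hi
    have key := vb_b V p u hu1 (a / b₀ ^ p) hup hfar (fun k => b k * b₀ ^ k) i hi
    have hsum : ∑ k ∈ Finset.range p, j (b k * b₀ ^ k) * u ^ k =
        ∑ k ∈ Finset.range p, j (b k) * x ^ k := by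
      apply Finset.sum_congr rfl
      intro k _
      rw [hu, map_mul, map_pow, div_pow]
      field_simp
    rw [hsum] at key
    have hval : V.valuation (j (b i * b₀ ^ i)) = V.valuation (j (b i)) * V.valuation x ^ i := by
      rw [map_mul, map_mul, map_pow, map_pow, ← hvb₀]
    rw [← hval]
    exact key

/-- the approximation lemma in reduced form: `0` is a best approximation of `x` in `E` and `x'` is
closer to `x` than `0` -/
lemma approx_reduced (x x' : Ω) (a : E) (hxp : x ^ p = algebraMap E Ω a)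
    (h0 : ∀ c : E, V.valuation x ≤ V.valuation (x - algebraMap E Ω c))
    (h1 : V.valuation (x - x') < V.valuation x) (b : ℕ → E) (hb : ∃ i < p, b i ≠ 0) :
    V.valuation (∑ k ∈ Finset.range p, algebraMap E Ω (b k) * x ^ k -
        ∑ k ∈ Finset.range p, algebraMap E Ω (b k) * x' ^ k) <
      V.valuation (∑ k ∈ Finset.range p, algebraMap E Ω (b k) * x ^ k) := by
  set j := algebraMap E Ω with hj
  have hγ : V.valuation x ≠ 0 := ne_of_gt (lt_of_le_of_lt zero_le h1)
  have hx : x ≠ 0 := (Valuation.ne_zero_iff _).1 hγ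
  have hx' : V.valuation x' = V.valuation x := by
    have : x' = x - (x - x') := by ring
    rw [this]
    exact Valuation.map_sub_eq_of_lt_left _ h1
  have hVB := vb V p x hx a hxp h0 b
  obtain ⟨i₀, hi₀, hbi₀⟩ := hb
  have hS0 : V.valuation (∑ k ∈ Finset.range p, j (b k) * x ^ k) ≠ 0 := by
    have h2 := hVB i₀ hi₀
    have h3 : V.valuation (j (b i₀)) * V.valuation x ^ i₀ ≠ 0 := by
      apply mul_ne_zero
      · rw [Valuation.ne_zero_iff, Ne, map_eq_zero]; exact hbi₀
      · exact pow_ne_zero _ hγ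
    exact ne_of_gt (lt_of_lt_of_le (zero_lt_iff.2 h3) h2)
  rw [← Finset.sum_sub_distrib]
  apply Valuation.map_sum_lt _ hS0
  intro k hk
  rw [Finset.mem_range] at hk
  rw [← mul_sub, map_mul]
  rcases Nat.eq_zero_or_pos k with hk0 | hk0
  · rw [hk0, pow_zero, pow_zero, sub_self, map_zero, mul_zero]
    exact zero_lt_iff.2 hS0
  · rcases eq_or_ne (b k) 0 with hbk | hbk
    · rw [hbk, map_zero, map_zero, zero_mul]
      exact zero_lt_iff.2 hS0
    · have hvb : 0 < V.valuation (j (b k)) := by
        rw [zero_lt_iff, Valuation.ne_zero_iff, Ne, map_eq_zero]; exact hbk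
      refine lt_of_lt_of_le ?_ (hVB k hk)
      apply mul_lt_mul_of_pos_left _ hvb
      obtain ⟨k', rfl⟩ : ∃ k', k = k' + 1 := ⟨k - 1, by omega⟩
      refine lt_of_le_of_lt (val_pow_sub_pow_le V x x' k') ?_
      rw [hx', max_self, pow_succ, mul_comm]
      exact mul_lt_mul_of_pos_left h1 (pow_pos (zero_lt_iff.2 hγ) _)


/-- **Krasner-type approximation**: if `x ^ p ∈ E`, `c₀` is a best approximation of `x` in `E`, and
`x'` is closer to `x` than `c₀`, then `g(x')` approximates `g(x)` for all nonzero `g ∈ E[X]` of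
degree `< p`. -/
theorem approx [CharP Ω p] (x x' : Ω) (a : E) (hxp : x ^ p = algebraMap E Ω a) (c₀ : E)
    (hc₀ : ∀ c : E, V.valuation (x - algebraMap E Ω c₀) ≤ V.valuation (x - algebraMap E Ω c))
    (h1 : V.valuation (x - x') < V.valuation (x - algebraMap E Ω c₀))
    (g : E[X]) (hg : g ≠ 0) (hdeg : g.natDegree < p) :
    V.valuation (aeval x g - aeval x' g) < V.valuation (aeval x g) := by
  set j := algebraMap E Ω with hj
  set y := x - j c₀ with hy
  set y' := x' - j c₀ with hy'
  set h : E[X] := g.comp (X + C c₀) with hh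
  have hhdeg : h.natDegree < p := by
    rw [hh, natDegree_comp, natDegree_X_add_C, mul_one]; exact hdeg
  have hh0 : h ≠ 0 := by
    intro h0
    apply hg
    have : h.comp (X - C c₀) = g := by
      rw [hh, comp_assoc]
      simp
    rw [← this, h0, zero_comp]
  have hax : aeval x g = aeval y h := by
    rw [hh, aeval_comp]
    have : aeval y (X + C c₀ : E[X]) = x := by simp [hy, hj]
    rw [this]
  have hax' : aeval x' g = aeval y' h := by
    rw [hh, aeval_comp]
    have : aeval y' (X + C c₀ : E[X]) = x' := by simp [hy', hj]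
    rw [this]
  have hsum : ∀ w : Ω, aeval w h = ∑ k ∈ Finset.range p, j (h.coeff k) * w ^ k := by
    intro w
    rw [aeval_eq_sum_range' hhdeg]
    apply Finset.sum_congr rfl
    intro k _
    rw [Algebra.smul_def]
  have hyp : y ^ p = j (a - c₀ ^ p) := by
    rw [hy, sub_pow_char, hxp, map_sub, map_pow]
  have h0' : ∀ c : E, V.valuation y ≤ V.valuation (y - j c) := by
    intro c
    have : y - j c = x - j (c₀ + c) := by rw [hy, map_add]; ring
    rw [this]
    exact hc₀ _
  have h1' : V.valuation (y - y') < V.valuation y := by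
    have : y - y' = x - x' := by rw [hy, hy']; ring
    rw [this]; exact h1
  have hb : ∃ i < p, h.coeff i ≠ 0 := by
    refine ⟨h.natDegree, hhdeg, ?_⟩
    rw [coeff_natDegree]
    exact leadingCoeff_ne_zero.2 hh0
  have key := approx_reduced V p y y' (a - c₀ ^ p) hyp h0' h1' (fun k => h.coeff k) hb
  rw [hax, hax', hsum y, hsum y']
  exact key

/-- in a discretely valued field a best approximation exists as soon as the distances are bounded
below -/
lemma exists_closest [IsDiscreteValuationRing V] (x : Ω) (δ : V.ValueGroup) (hδ : δ ≠ 0)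
    (hbd : ∀ c : E, δ ≤ V.valuation (x - algebraMap E Ω c)) :
    ∃ c₀ : E, ∀ c : E, V.valuation (x - algebraMap E Ω c₀) ≤ V.valuation (x - algebraMap E Ω c) := by
  classical
  set j := algebraMap E Ω with hj
  obtain ⟨π, hπ⟩ := IsDiscreteValuationRing.exists_irreducible V
  have hπ0 : (π : Ω) ≠ 0 := by
    intro h
    exact hπ.ne_zero (Subtype.ext h)
  have hvπ0 : V.valuation (π : Ω) ≠ 0 := (Valuation.ne_zero_iff _).2 hπ0
  have hvπ1 : V.valuation (π : Ω) < 1 := by
    rw [← V.valuation_lt_one_iff]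
    exact (IsDiscreteValuationRing.irreducible_iff_uniformizer π).1 hπ ▸ Ideal.mem_span_singleton_self π
  -- every nonzero value is a power of `v π`
  have hgen : ∀ w : Ω, w ≠ 0 → ∃ n : ℤ, V.valuation w = V.valuation (π : Ω) ^ n := by
    intro w hw
    have hmem : ∀ w : Ω, w ≠ 0 → w ∈ V → ∃ n : ℕ, V.valuation w = V.valuation (π : Ω) ^ n := by
      intro w hw hwV
      have hw' : (⟨w, hwV⟩ : V) ≠ 0 := fun h => hw (congrArg Subtype.val h)
      obtain ⟨n, u, hu⟩ := IsDiscreteValuationRing.eq_unit_mul_pow_irreducible hw' hπ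
      refine ⟨n, ?_⟩
      have h2 : w = (u : V) * (π : Ω) ^ n := by
        have := congrArg Subtype.val hu
        simpa using this
      rw [h2, map_mul, map_pow, (V.valuation_eq_one_iff _).1 u.isUnit, one_mul]
    rcases V.mem_or_inv_mem w with hwV | hwV
    · obtain ⟨n, hn⟩ := hmem w hw hwV
      exact ⟨n, by rw [hn, zpow_natCast]⟩
    · obtain ⟨n, hn⟩ := hmem w⁻¹ (inv_ne_zero hw) hwV
      refine ⟨-n, ?_⟩
      rw [zpow_neg, zpow_natCast, ← hn, map_inv₀, inv_inv]
  obtain ⟨d, hd⟩ := V.valuation_surjective δ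
  have hd0 : d ≠ 0 := by
    intro h; rw [h, map_zero] at hd; exact hδ hd.symm
  obtain ⟨m, hm⟩ := hgen d hd0
  have hne : ∀ c : E, x - j c ≠ 0 := by
    intro c h
    have := hbd c
    rw [h, map_zero] at this
    exact hδ (le_antisymm this zero_le)
  -- the set of exponents
  let P : ℤ → Prop := fun n => ∃ c : E, V.valuation (x - j c) = V.valuation (π : Ω) ^ n
  have hPbd : ∀ n, P n → n ≤ m := by
    rintro n ⟨c, hc⟩
    by_contra hlt
    rw [not_le] at hlt
    have h2 := hbd c
    rw [hc, ← hd, hm] at h2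
    have h3 : V.valuation (π : Ω) ^ n < V.valuation (π : Ω) ^ m := by
      have : V.valuation (π : Ω) ^ n = V.valuation (π : Ω) ^ m * V.valuation (π : Ω) ^ (n - m) := by
        rw [← zpow_add₀ hvπ0]; congr 1; ring
      rw [this]
      calc _ < V.valuation (π : Ω) ^ m * 1 :=
            mul_lt_mul_of_pos_left (zpow_lt_one_of_pos hvπ0 hvπ1 (by omega))
              (zero_lt_iff.2 (zpow_ne_zero _ hvπ0))
        _ = _ := mul_one _
    exact absurd h2 (not_le.2 h3)
  have hPne : ∃ n, P n := by
    obtain ⟨n, hn⟩ := hgen (x - j 0) (hne 0)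
    exact ⟨n, 0, hn⟩
  obtain ⟨n₀, ⟨c₀, hc₀⟩, hmax⟩ := Int.exists_greatest_of_bdd ⟨m, hPbd⟩ hPne
  refine ⟨c₀, fun c => ?_⟩
  obtain ⟨n, hn⟩ := hgen (x - j c) (hne c)
  have hle : n ≤ n₀ := hmax n ⟨c, hn⟩
  rw [hc₀, hn]
  have : V.valuation (π : Ω) ^ n₀ = V.valuation (π : Ω) ^ n * V.valuation (π : Ω) ^ (n₀ - n) := by
    rw [← zpow_add₀ hvπ0]; congr 1; ring
  rw [this]
  rcases eq_or_lt_of_le hle with heq | hlt
  · rw [heq, sub_self, zpow_zero, mul_one]
  · calc _ ≤ V.valuation (π : Ω) ^ n * 1 :=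
          mul_le_mul_right (le_of_lt (zpow_lt_one_of_pos hvπ0 hvπ1 (by omega))) _
      _ = _ := mul_one _

end Approx

end Kr
end Groth.Agent.Helper9.EtRamLib
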