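import Mathlib
import Groth.Prelude.Def_EtRam
import Groth.Prelude.Def_Found
import Groth.Agent.Lib.Helper9.EtRam.Dom40

set_option autoImplicit false
set_option linter.style.haveILetI false
set_option linter.unusedSectionVars false

/-!
# Value sets and residue sets of subfields of a valued field (helper9)
-/

namespace Groth.Agent.Helper9.EtRamLib
namespace Kr
open IsLocalRing EtRam Polynomial Groth.Agent.Helper2.Sep

universe u

section Basic
variable {Ω : Type u} [Field Ω] (V : ValuationSubring Ω)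

/-- the set of values of a subset -/
def vimg (S : Set Ω) : Set V.ValueGroup := V.valuation '' S

/-- the set of residues of a subset -/
def rimg (S : Set Ω) : Set (ResidueField V) := {r | ∃ y ∈ S, ∃ h : y ∈ V, residue V ⟨y, h⟩ = r}

variable {F : Type u} [Field F] (j : F →+* Ω)

lemma val_comap_le_iff (y y' : F) :
    (V.comap j).valuation y ≤ (V.comap j).valuation y' ↔ V.valuation (j y) ≤ V.valuation (j y') := by
  rw [ValuationSubring.valuation_le_iff, ValuationSubring.valuation_le_iff]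
  constructor
  · rintro ⟨a, ha⟩
    refine ⟨⟨j a, a.2⟩, ?_⟩
    show j a * j y' = j y
    rw [← map_mul, ha]
  · rintro ⟨b, hb⟩
    rcases eq_or_ne y' 0 with h0 | h0
    · refine ⟨0, ?_⟩
      rw [h0, map_zero, mul_zero] at hb
      rw [h0, mul_zero]
      exact (j.injective (by rw [map_zero]; exact hb.symm)).symm
    · have hj0 : j y' ≠ 0 := by rw [Ne, map_eq_zero]; exact h0
      have hb' : (b : Ω) = j (y / y') := by
        rw [map_div₀, eq_div_iff hj0]; exact hb
      refine ⟨⟨y / y', ?_⟩, ?_⟩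
      · show j (y / y') ∈ V
        rw [← hb']; exact b.2
      · show y / y' * y' = y
        exact div_mul_cancel₀ y h0

lemma val_comap_eq_iff (y y' : F) :
    (V.comap j).valuation y = (V.comap j).valuation y' ↔ V.valuation (j y) = V.valuation (j y') := by
  rw [le_antisymm_iff, le_antisymm_iff, val_comap_le_iff, val_comap_le_iff]

lemma range_resMap :
    Set.range (ResidueField.map (inclOfComap V j)) = rimg V (Set.range j) := by
  ext r
  constructor
  · rintro ⟨t, rfl⟩
    obtain ⟨⟨y, hy⟩, rfl⟩ := residue_surjective t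
    exact ⟨j y, ⟨y, rfl⟩, hy, (ResidueField.map_residue (inclOfComap V j) ⟨y, hy⟩).symm⟩
  · rintro ⟨_, ⟨y, rfl⟩, hy, rfl⟩
    exact ⟨residue _ ⟨y, hy⟩, ResidueField.map_residue (inclOfComap V j) ⟨y, hy⟩⟩

end Basic


section WU
variable {Ω : Type u} [Field Ω] (V : ValuationSubring Ω)

lemma val_eq_zpow [IsDiscreteValuationRing V] {π : V} (hπ : Irreducible π) {w : Ω} (hw : w ≠ 0) :
    ∃ n : ℤ, V.valuation w = V.valuation (π : Ω) ^ n := by
  have hmem : ∀ w : Ω, w ≠ 0 → w ∈ V → ∃ n : ℕ, V.valuation w = V.valuation (π : Ω) ^ n := by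
    intro w hw hwV
    have hw' : (⟨w, hwV⟩ : V) ≠ 0 := fun h => hw (congrArg Subtype.val h)
    obtain ⟨n, u, hu⟩ := IsDiscreteValuationRing.eq_unit_mul_pow_irreducible hw' hπ
    refine ⟨n, ?_⟩
    have h2 : w = (u : V) * (π : Ω) ^ n := by
      have := congrArg Subtype.val hu
      simpa using this
    rw [h2, map_mul, map_pow, (V.valuation_eq_one_iff _).1 u.isUnit, one_mul]
  rcases V.mem_or_inv_mem w with hwV | hwV
  · obtain ⟨n, hn⟩ := hmem w hw hwV
    exact ⟨n, by rw [hn, zpow_natCast]⟩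
  · obtain ⟨n, hn⟩ := hmem w⁻¹ (inv_ne_zero hw) hwV
    refine ⟨-n, ?_⟩
    rw [zpow_neg, zpow_natCast, ← hn, map_inv₀, inv_inv]

variable {F₁ F₂ : Type u} [Field F₁] [Field F₂] (ι : F₁ →+* F₂) (W : ValuationSubring F₂)

/-- weak unramifiedness of `W ∩ F₁ → W` in terms of values -/
theorem wu_iff (h1 : IsDiscreteValuationRing (W.comap ι)) (h2 : IsDiscreteValuationRing W) :
    (letI : Algebra (W.comap ι) W := (inclOfComap W ι).toAlgebra
     IsWeaklyUnramified (W.comap ι) W) ↔
      ∀ y : F₂, ∃ x : F₁, W.valuation y = W.valuation (ι x) := by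
  letI : Algebra (W.comap ι) W := (inclOfComap W ι).toAlgebra
  constructor
  · intro hwu y
    rcases eq_or_ne y 0 with rfl | hy
    · exact ⟨0, by rw [map_zero, map_zero, map_zero]⟩
    obtain ⟨π₁, hπ₁⟩ := IsDiscreteValuationRing.exists_irreducible (W.comap ι)
    have hm₁ : maximalIdeal (W.comap ι) = Ideal.span {π₁} :=
      (IsDiscreteValuationRing.irreducible_iff_uniformizer π₁).1 hπ₁
    have hm₂ : maximalIdeal W = Ideal.span {inclOfComap W ι π₁} := by
      have h := hwu
      unfold IsWeaklyUnramified at h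
      rw [hm₁, Ideal.map_span, Set.image_singleton] at h
      exact h.symm
    have hπ₂ : Irreducible (inclOfComap W ι π₁) :=
      (IsDiscreteValuationRing.irreducible_iff_uniformizer _).2 hm₂
    obtain ⟨n, hn⟩ := val_eq_zpow W hπ₂ hy
    refine ⟨(π₁ : F₁) ^ n, ?_⟩
    rw [hn, map_zpow₀, map_zpow₀]
    rfl
  · intro h
    obtain ⟨π₂, hπ₂⟩ := IsDiscreteValuationRing.exists_irreducible W
    have hm₂ : maximalIdeal W = Ideal.span {π₂} :=
      (IsDiscreteValuationRing.irreducible_iff_uniformizer π₂).1 hπ₂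
    obtain ⟨x, hx⟩ := h (π₂ : F₂)
    have hvπ : W.valuation (π₂ : F₂) < 1 := by
      rw [← W.valuation_lt_one_iff, hm₂]; exact Ideal.mem_span_singleton_self π₂
    have hxlt : W.valuation (ι x) < 1 := hx ▸ hvπ
    have hxW : x ∈ W.comap ι := by
      show ι x ∈ W
      rw [← W.valuation_le_one_iff]; exact le_of_lt hxlt
    have hxm : (⟨x, hxW⟩ : W.comap ι) ∈ maximalIdeal (W.comap ι) := by
      rw [(W.comap ι).valuation_lt_one_iff]
      exact (val_comap_lt_one_iff W ι x).2 hxlt
    obtain ⟨a, ha⟩ := (W.valuation_eq_iff _ _).1 hx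
    unfold IsWeaklyUnramified
    apply le_antisymm
    · rw [Ideal.map_le_iff_le_comap]
      intro b hb
      exact map_nonunit (inclOfComap W ι) b hb
    · rw [hm₂, Ideal.span_le, Set.singleton_subset_iff]
      have : π₂ = (a : W) * inclOfComap W ι ⟨x, hxW⟩ := Subtype.ext ha.symm
      rw [this]
      exact Ideal.mul_mem_left _ _ (Ideal.mem_map_of_mem _ hxm)

end WU


section MLS

/-- MacLane's criterion phrased for two subsets of a field -/
def MLS {k : Type*} [Field k] (p : ℕ) (R₁ R₂ : Set k) : Prop :=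
  ∀ (n : ℕ) (s : Fin n → k), (∀ i, s i ∈ R₂) →
    (∀ c : Fin n → k, (∀ i, c i ∈ R₁) → ∑ i, c i * s i = 0 → ∀ i, c i = 0) →
    (∀ c : Fin n → k, (∀ i, c i ∈ R₁) → ∑ i, c i * s i ^ p = 0 → ∀ i, c i = 0)

lemma macLane_iff_mls {k₁ k₂ k : Type*} [Field k₁] [Field k₂] [Field k] [Algebra k₁ k₂]
    (φ : k₂ →+* k) (p : ℕ) :
    MacLane k₁ k₂ p ↔ MLS p (Set.range (φ.comp (algebraMap k₁ k₂))) (Set.range φ) := by
  have hφ : Function.Injective φ := φ.injective
  have hψ : Function.Injective (φ.comp (algebraMap k₁ k₂)) := (φ.comp (algebraMap k₁ k₂)).injective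
  constructor
  · intro hM n s hs hind c hc hsum
    choose s' hs' using hs
    choose g hg using hc
    have hli : LinearIndependent k₁ s' := by
      rw [Fintype.linearIndependent_iff]
      intro g' hg' i
      have h1 := hind (fun i => φ.comp (algebraMap k₁ k₂) (g' i)) (fun i => ⟨g' i, rfl⟩) (by
        have : ∑ i, φ.comp (algebraMap k₁ k₂) (g' i) * s i = φ (∑ i, g' i • s' i) := by
          rw [map_sum]
          apply Finset.sum_congr rfl
          intro i _
          rw [Algebra.smul_def, map_mul, hs' i]; rfl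
        rw [this, hg', map_zero]) i
      exact hψ (by rw [h1, map_zero])
    have hli' := hM n s' hli
    rw [Fintype.linearIndependent_iff] at hli'
    have h2 : ∑ i, g i • (s' i) ^ p = 0 := by
      apply hφ
      rw [map_zero, ← hsum, map_sum]
      apply Finset.sum_congr rfl
      intro i _
      rw [Algebra.smul_def, map_mul, map_pow, hs' i, ← hg i]; rfl
    intro i
    rw [← hg i, hli' g h2 i, map_zero]
  · intro hM n s' hli
    rw [Fintype.linearIndependent_iff] at hli ⊢
    intro g hg i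
    have h1 := hM n (fun i => φ (s' i)) (fun i => ⟨s' i, rfl⟩) (by
      intro c hc hsum i
      choose g' hg' using hc
      have h2 : ∑ i, g' i • s' i = 0 := by
        apply hφ
        rw [map_zero, ← hsum, map_sum]
        apply Finset.sum_congr rfl
        intro i _
        rw [Algebra.smul_def, map_mul, ← hg' i]; rfl
      rw [← hg' i, hli g' h2 i, map_zero])
      (fun i => φ.comp (algebraMap k₁ k₂) (g i)) (fun i => ⟨g i, rfl⟩) (by
        have : ∑ i, φ.comp (algebraMap k₁ k₂) (g i) * φ (s' i) ^ p = φ (∑ i, g i • s' i ^ p) := by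
          rw [map_sum]
          apply Finset.sum_congr rfl
          intro i _
          rw [Algebra.smul_def, map_mul, map_pow]; rfl
        rw [this, hg, map_zero]) i
    exact hψ (by rw [h1, map_zero])

variable {Ω : Type u} [Field Ω] (V : ValuationSubring Ω)
  {F₁ F₂ : Type u} [Field F₁] [Field F₂] (ι : F₁ →+* F₂) (j : F₂ →+* Ω)

lemma range_resMap_comp :
    Set.range ((ResidueField.map (inclOfComap V j)).comp
      (ResidueField.map (inclOfComap (V.comap j) ι))) = rimg V (Set.range (j.comp ι)) := by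
  ext r
  constructor
  · rintro ⟨t, rfl⟩
    obtain ⟨⟨y, hy⟩, rfl⟩ := residue_surjective t
    refine ⟨j (ι y), ⟨y, rfl⟩, hy, ?_⟩
    rw [RingHom.comp_apply, ResidueField.map_residue (inclOfComap (V.comap j) ι) ⟨y, hy⟩,
      ResidueField.map_residue (inclOfComap V j)]
    rfl
  · rintro ⟨_, ⟨y, rfl⟩, hy, rfl⟩
    refine ⟨residue _ ⟨y, hy⟩, ?_⟩
    rw [RingHom.comp_apply, ResidueField.map_residue (inclOfComap (V.comap j) ι) ⟨y, hy⟩,
      ResidueField.map_residue (inclOfComap V j)]
    rfl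

/-- geometric reducedness of the residue extension of `(V ∩ F₂) ∩ F₁ → V ∩ F₂` in terms of residue
sets inside the residue field of `V` -/
theorem gr_iff (p : ℕ) [hp : Fact p.Prime] [CharP F₁ p] :
    @Algebra.IsGeometricallyReduced (ResidueField ((V.comap j).comap ι)) (ResidueField (V.comap j)) _ _
        (ResidueField.map (inclOfComap (V.comap j) ι)).toAlgebra ↔
      MLS p (rimg V (Set.range (j.comp ι))) (rimg V (Set.range j)) := by
  letI : Algebra (ResidueField ((V.comap j).comap ι)) (ResidueField (V.comap j)) :=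
    (ResidueField.map (inclOfComap (V.comap j) ι)).toAlgebra
  haveI : CharP (ResidueField ((V.comap j).comap ι)) p :=
    Sq.charP_residue p ((V.comap j).comap ι) F₁ hp.out
  rw [isGeometricallyReduced_iff_macLane p,
    macLane_iff_mls (ResidueField.map (inclOfComap V j)) p, range_resMap]
  have : Set.range ((ResidueField.map (inclOfComap V j)).comp
      (algebraMap (ResidueField ((V.comap j).comap ι)) (ResidueField (V.comap j)))) =
      rimg V (Set.range (j.comp ι)) := range_resMap_comp V ι j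
  rw [this]

end MLS

section Transfer
variable {Ω : Type u} [Field Ω] (V : ValuationSubring Ω)
  {F₂ F₃ G₂ G₃ : Type u} [Field F₂] [Field F₃] [Field G₂] [Field G₃]
  (ι₂ : F₂ →+* G₂) (ι₃ : F₃ →+* G₃) (j₂ : G₂ →+* Ω) (j₃ : G₃ →+* Ω)

/-- weak unramifiedness and separability of the residue extension only depend on the value sets and
the residue sets inside a common valued overfield -/
theorem transfer (p : ℕ) [hp : Fact p.Prime] [CharP F₂ p] [CharP F₃ p]
    (d₂ : IsDiscreteValuationRing (V.comap j₂)) (d₂' : IsDiscreteValuationRing ((V.comap j₂).comap ι₂))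
    (d₃ : IsDiscreteValuationRing (V.comap j₃)) (d₃' : IsDiscreteValuationRing ((V.comap j₃).comap ι₃))
    (hvF : vimg V (Set.range (j₂.comp ι₂)) = vimg V (Set.range (j₃.comp ι₃)))
    (hvG : vimg V (Set.range j₂) = vimg V (Set.range j₃))
    (hrF : rimg V (Set.range (j₂.comp ι₂)) = rimg V (Set.range (j₃.comp ι₃)))
    (hrG : rimg V (Set.range j₂) = rimg V (Set.range j₃))
    (hwu : @IsWeaklyUnramified ((V.comap j₂).comap ι₂) (V.comap j₂) _ _ _ _
      (inclOfComap (V.comap j₂) ι₂).toAlgebra)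
    (hgr : @Algebra.IsGeometricallyReduced (ResidueField ((V.comap j₂).comap ι₂))
        (ResidueField (V.comap j₂)) _ _
        (ResidueField.map (inclOfComap (V.comap j₂) ι₂)).toAlgebra) :
    @IsWeaklyUnramified ((V.comap j₃).comap ι₃) (V.comap j₃) _ _ _ _
      (inclOfComap (V.comap j₃) ι₃).toAlgebra ∧
    @Algebra.IsGeometricallyReduced (ResidueField ((V.comap j₃).comap ι₃))
        (ResidueField (V.comap j₃)) _ _
        (ResidueField.map (inclOfComap (V.comap j₃) ι₃)).toAlgebra := by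
  constructor
  · rw [wu_iff ι₃ (V.comap j₃) d₃' d₃]
    rw [wu_iff ι₂ (V.comap j₂) d₂' d₂] at hwu
    intro y
    have h1 : V.valuation (j₃ y) ∈ vimg V (Set.range j₃) := ⟨j₃ y, ⟨y, rfl⟩, rfl⟩
    rw [← hvG] at h1
    obtain ⟨_, ⟨y₂, rfl⟩, hy₂⟩ := h1
    obtain ⟨x₂, hx₂⟩ := hwu y₂
    rw [val_comap_eq_iff] at hx₂
    have h2 : V.valuation (j₂ (ι₂ x₂)) ∈ vimg V (Set.range (j₂.comp ι₂)) :=
      ⟨j₂ (ι₂ x₂), ⟨x₂, rfl⟩, rfl⟩
    rw [hvF] at h2
    obtain ⟨_, ⟨x₃, rfl⟩, hx₃⟩ := h2
    refine ⟨x₃, ?_⟩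
    rw [val_comap_eq_iff, ← hy₂, hx₂, ← hx₃]
    rfl
  · rw [gr_iff V ι₃ j₃ p, ← hrF, ← hrG, ← gr_iff V ι₂ j₂ p]
    exact hgr

end Transfer


section KRC
variable {Ω : Type u} [Field Ω] (V : ValuationSubring Ω) {E : Type u} [Field E] [Algebra E Ω]
  (p : ℕ) [hp : Fact p.Prime] [CharP E p] [CharP Ω p]

lemma exists_reduce (w : Ω) (q : E[X]) (hq : q.Monic) (hqd : q.natDegree = p)
    (hqw : aeval w q = 0) (g : E[X]) :
    ∃ g' : E[X], g'.natDegree < p ∧ aeval w g' = aeval w g := by
  have hq1 : q ≠ 1 := by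
    intro h
    rw [h, natDegree_one] at hqd
    exact hp.out.ne_zero hqd.symm
  refine ⟨g %ₘ q, ?_, ?_⟩
  · rw [← hqd]; exact natDegree_modByMonic_lt g hq hq1
  · conv_rhs => rw [← modByMonic_add_div g q]
    rw [map_add, map_mul, hqw, zero_mul, add_zero]

variable (x x' : Ω) (a : E) (hxp : x ^ p = algebraMap E Ω a) (c₀ : E)
  (hc₀ : ∀ c : E, V.valuation (x - algebraMap E Ω c₀) ≤ V.valuation (x - algebraMap E Ω c))
  (h1 : V.valuation (x - x') < V.valuation (x - algebraMap E Ω c₀))

include hxp hc₀ h1 in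
lemma krc_pair (g : E[X]) (hdeg : g.natDegree < p) :
    V.valuation (aeval x g) = V.valuation (aeval x' g) ∧
    ∀ (h : aeval x g ∈ V) (h' : aeval x' g ∈ V),
      residue V ⟨aeval x g, h⟩ = residue V ⟨aeval x' g, h'⟩ := by
  rcases eq_or_ne g 0 with rfl | hg
  · refine ⟨by simp, fun h h' => ?_⟩
    congr 1
    apply Subtype.ext
    simp
  have key := approx V p x x' a hxp c₀ hc₀ h1 g hg hdeg
  have hval : V.valuation (aeval x' g) = V.valuation (aeval x g) := by
    have : aeval x' g = aeval x g - (aeval x g - aeval x' g) := by ring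
    rw [this]
    exact Valuation.map_sub_eq_of_lt_left _ key
  refine ⟨hval.symm, fun h h' => ?_⟩
  rw [← sub_eq_zero, ← map_sub, residue_eq_zero_iff, V.valuation_lt_one_iff]
  show V.valuation (aeval x g - aeval x' g) < 1
  exact lt_of_lt_of_le key ((V.valuation_le_one_iff _).2 h)

include hxp hc₀ h1 in
/-- the fields `E[x]` and `E[x']` have the same value sets and residue sets -/
theorem krc (q' : E[X]) (hq' : q'.Monic) (hq'd : q'.natDegree = p) (hq'x : aeval x' q' = 0) :
    vimg V (Set.range (aeval x : E[X] → Ω)) = vimg V (Set.range (aeval x' : E[X] → Ω)) ∧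
    rimg V (Set.range (aeval x : E[X] → Ω)) = rimg V (Set.range (aeval x' : E[X] → Ω)) := by
  have hq : (X ^ p - C a : E[X]).Monic := monic_X_pow_sub_C a hp.out.ne_zero
  have hqd : (X ^ p - C a : E[X]).natDegree = p := natDegree_X_pow_sub_C
  have hqx : aeval x (X ^ p - C a : E[X]) = 0 := by
    rw [map_sub, map_pow, aeval_X, aeval_C, hxp, sub_self]
  have hpair := krc_pair V p x x' a hxp c₀ hc₀ h1
  constructor
  · apply Set.Subset.antisymm
    · rintro _ ⟨_, ⟨g, rfl⟩, rfl⟩
      obtain ⟨g', hg'd, hg'⟩ := exists_reduce p x _ hq hqd hqx g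
      exact ⟨aeval x' g', ⟨g', rfl⟩, by rw [← hg', (hpair g' hg'd).1]⟩
    · rintro _ ⟨_, ⟨g, rfl⟩, rfl⟩
      obtain ⟨g', hg'd, hg'⟩ := exists_reduce p x' _ hq' hq'd hq'x g
      exact ⟨aeval x g', ⟨g', rfl⟩, by rw [← hg', (hpair g' hg'd).1]⟩
  · apply Set.Subset.antisymm
    · rintro _ ⟨_, ⟨g, rfl⟩, h, rfl⟩
      obtain ⟨g', hg'd, hg'⟩ := exists_reduce p x _ hq hqd hqx g
      have hV : aeval x g' ∈ V := hg' ▸ h
      have hV' : aeval x' g' ∈ V := by
        rw [← V.valuation_le_one_iff, ← (hpair g' hg'd).1, V.valuation_le_one_iff]; exact hV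
      refine ⟨aeval x' g', ⟨g', rfl⟩, hV', ?_⟩
      rw [← (hpair g' hg'd).2 hV hV']
      congr 1
      exact Subtype.ext hg'
    · rintro _ ⟨_, ⟨g, rfl⟩, h, rfl⟩
      obtain ⟨g', hg'd, hg'⟩ := exists_reduce p x' _ hq' hq'd hq'x g
      have hV' : aeval x' g' ∈ V := hg' ▸ h
      have hV : aeval x g' ∈ V := by
        rw [← V.valuation_le_one_iff, (hpair g' hg'd).1, V.valuation_le_one_iff]; exact hV'
      refine ⟨aeval x g', ⟨g', rfl⟩, hV, ?_⟩
      rw [(hpair g' hg'd).2 hV hV']
      congr 1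
      exact Subtype.ext hg'

end KRC

end Kr
end Groth.Agent.Helper9.EtRamLib
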