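import Mathlib
import Groth.Prelude.Def_EtRam
import Groth.Prelude.Def_Found
import Groth.Agent.Lib.Helper9.EtRam.Dom41

set_option autoImplicit false
set_option linter.style.haveILetI false
set_option linter.unusedSectionVars false

/-!
# Distance of a `p`-th root from a compositum: non-`p`-th-power and the uniform bound (helper9)
-/

namespace Groth.Agent.Helper9.EtRamLib
namespace Kr
open IsLocalRing EtRam Polynomial TensorProduct

universe u

section NP
variable (K : Type u) {L K₁ K₂ M₁ : Type u} [Field K] [Field L] [Field K₁] [Field K₂] [Field M₁]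
  [Algebra K L] [Algebra K K₁] [Algebra K₁ K₂] [Algebra K M₁] [Algebra L M₁] [Algebra K₁ M₁]
  [IsScalarTower K L M₁] [IsScalarTower K K₁ M₁] [FiniteDimensional K K₁]
  [Algebra.IsGeometricallyReduced K L]

include K in
/-- a compositum of a separable extension `L/K` with a finite extension `K₁/K` is separable over
`K₁` -/
lemma geomReduced_compositum (hadj : Algebra.adjoin L (Set.range (algebraMap K₁ M₁)) = ⊤) :
    Algebra.IsGeometricallyReduced K₁ M₁ := by
  apply geomReduced_of_tensor_surj K K₁ L M₁ (IsScalarTower.toAlgHom K L M₁)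
  set Φ := Algebra.TensorProduct.lift (Algebra.ofId K₁ M₁) (IsScalarTower.toAlgHom K L M₁)
    (fun _ _ => Commute.all _ _) with hΦ
  intro m
  have hm : m ∈ Algebra.adjoin L (Set.range (algebraMap K₁ M₁)) := by rw [hadj]; trivial
  induction hm using Algebra.adjoin_induction with
  | mem x hx =>
    obtain ⟨k, rfl⟩ := hx
    exact ⟨k ⊗ₜ 1, by simp [hΦ, Algebra.ofId_apply]⟩
  | algebraMap l =>
    exact ⟨1 ⊗ₜ l, by simp [hΦ]⟩
  | add x y _ _ hx hy =>
    obtain ⟨a, rfl⟩ := hx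
    obtain ⟨b, rfl⟩ := hy
    exact ⟨a + b, map_add _ _ _⟩
  | mul x y _ _ hx hy =>
    obtain ⟨a, rfl⟩ := hx
    obtain ⟨b, rfl⟩ := hy
    exact ⟨a * b, map_mul _ _ _⟩

include K in
/-- a `p`-th root generating a purely inseparable extension of `K₁` does not exist in a compositum
of `K₁` with the separable extension `L/K` -/
lemma not_pow (p : ℕ) [hp : Fact p.Prime] [CharP K₁ p] [Algebra.IsAlgebraic K₁ K₂]
    (hadj : Algebra.adjoin L (Set.range (algebraMap K₁ M₁)) = ⊤)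
    (θ : K₂) (hθ : θ ∉ Set.range (algebraMap K₁ K₂)) (a₀ : K₁)
    (hθp : θ ^ p = algebraMap K₁ K₂ a₀) (c : M₁) : c ^ p ≠ algebraMap K₁ M₁ a₀ := by
  intro hc
  haveI : Algebra.IsGeometricallyReduced K₁ M₁ := geomReduced_compositum K hadj
  haveI : IsReduced (K₂ ⊗[K₁] M₁) := inferInstance
  haveI : CharP (K₂ ⊗[K₁] M₁) p :=
    charP_of_injective_algebraMap (algebraMap K₁ (K₂ ⊗[K₁] M₁)).injective p
  set ν : K₂ ⊗[K₁] M₁ := θ ⊗ₜ 1 - 1 ⊗ₜ c with hν
  have hνp : ν ^ p = 0 := by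
    rw [hν, sub_pow_char, Algebra.TensorProduct.tmul_pow, Algebra.TensorProduct.tmul_pow, one_pow,
      one_pow, hθp, hc, Algebra.algebraMap_eq_smul_one, Algebra.algebraMap_eq_smul_one,
      TensorProduct.smul_tmul, sub_self]
  have hν0 : ν = 0 := IsReduced.eq_zero _ ⟨p, hνp⟩
  have hθ' : θ ∉ Submodule.span K₁ ({1} : Set K₂) := by
    intro h
    rw [Submodule.mem_span_singleton] at h
    obtain ⟨k, hk⟩ := h
    exact hθ ⟨k, by rw [Algebra.algebraMap_eq_smul_one, hk]⟩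
  obtain ⟨f, hfθ, hf⟩ := Submodule.exists_le_ker_of_notMem hθ'
  have hf1 : f 1 = 0 := hf (Submodule.subset_span (Set.mem_singleton _))
  have h1 : TensorProduct.lid K₁ M₁ (LinearMap.rTensor M₁ f ν) = 0 := by rw [hν0, map_zero, map_zero]
  rw [hν, map_sub, map_sub, LinearMap.rTensor_tmul, LinearMap.rTensor_tmul, hf1,
    TensorProduct.lid_tmul, TensorProduct.lid_tmul, zero_smul, sub_zero] at h1
  rw [← Algebra.algebraMap_eq_smul_one, map_eq_zero] at h1
  exact hfθ h1

end NP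


section Helpers

/-- in a DVR every nonzero element divides a power of a nonzero non-unit -/
lemma exists_dvd_pow {B : Type*} [CommRing B] [IsDomain B] [IsDiscreteValuationRing B]
    {t : B} (ht : t ∈ maximalIdeal B) (ht0 : t ≠ 0) {b : B} (hb : b ≠ 0) : ∃ k : ℕ, b ∣ t ^ k := by
  obtain ⟨ϖ, hϖ⟩ := IsDiscreteValuationRing.exists_irreducible B
  obtain ⟨k, u, hu⟩ := IsDiscreteValuationRing.eq_unit_mul_pow_irreducible hb hϖ
  obtain ⟨e, u', hu'⟩ := IsDiscreteValuationRing.eq_unit_mul_pow_irreducible ht0 hϖ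
  have he : e ≠ 0 := by
    rintro rfl
    rw [pow_zero, mul_one] at hu'
    rw [hu'] at ht
    exact (mem_maximalIdeal _).1 ht u'.isUnit
  refine ⟨k, ?_⟩
  rw [hu, hu', mul_pow, ← pow_mul]
  have hle : k ≤ e * k := Nat.le_mul_of_pos_left k (Nat.pos_of_ne_zero he)
  obtain ⟨d, hd⟩ := Nat.exists_eq_add_of_le hle
  refine ⟨(u⁻¹ : Bˣ) * (u' : B) ^ k * ϖ ^ d, ?_⟩
  rw [hd, pow_add]
  have : (u : B) * ((u⁻¹ : Bˣ) : B) = 1 := by rw [← Units.val_mul, mul_inv_cancel, Units.val_one]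
  calc (u' : B) ^ k * (ϖ ^ k * ϖ ^ d)
      = ((u : B) * ((u⁻¹ : Bˣ) : B)) * ((u' : B) ^ k * (ϖ ^ k * ϖ ^ d)) := by rw [this, one_mul]
    _ = _ := by ring

/-- a finitely generated submodule of an algebraic extension of the fraction field of a DVR is
carried into the integral closure by a power of any nonzero non-unit -/
lemma exists_pow_smul_integral {B L M₁ : Type*} [CommRing B] [IsDomain B]
    [IsDiscreteValuationRing B] [Field L] [Algebra B L] [IsFractionRing B L] [Field M₁]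
    [Algebra L M₁] [Algebra.IsAlgebraic L M₁] [Algebra B M₁] [IsScalarTower B L M₁]
    {t : B} (ht : t ∈ maximalIdeal B) (ht0 : t ≠ 0) (N : Submodule B M₁) (hN : N.FG) :
    ∃ n : ℕ, ∀ m ∈ N, IsIntegral B (t ^ n • m) := by
  classical
  obtain ⟨T, hT⟩ := hN
  have h1 : ∀ m : M₁, ∃ k : ℕ, IsIntegral B (t ^ k • m) := by
    intro m
    have halg : IsAlgebraic B m := by
      have := Algebra.IsAlgebraic.isAlgebraic (R := L) m
      exact (IsFractionRing.isAlgebraic_iff B L M₁).2 this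
    obtain ⟨b, hb0, hint⟩ := halg.exists_integral_multiple
    obtain ⟨k, d, hd⟩ := exists_dvd_pow ht ht0 hb0
    refine ⟨k, ?_⟩
    rw [hd, mul_comm, mul_smul, Algebra.smul_def]
    exact IsIntegral.mul isIntegral_algebraMap hint
  choose k hk using h1
  refine ⟨T.sup k, fun m hm => ?_⟩
  rw [← hT] at hm
  induction hm using Submodule.span_induction with
  | mem x hx =>
    have hle : k x ≤ T.sup k := Finset.le_sup hx
    obtain ⟨d, hd⟩ := Nat.exists_eq_add_of_le hle
    rw [hd, pow_add, mul_comm, mul_smul]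
    rw [Algebra.smul_def]
    exact IsIntegral.mul isIntegral_algebraMap (hk x)
  | zero => rw [smul_zero]; exact isIntegral_zero
  | add x y _ _ hx hy => rw [smul_add]; exact hx.add hy
  | smul b x _ hx =>
    rw [smul_comm, Algebra.smul_def]
    exact IsIntegral.mul isIntegral_algebraMap hx

end Helpers


section BoundOne

lemma adjoinRoot_pow_mem {M₁ : Type*} [Field M₁] (p : ℕ) [hp : Fact p.Prime] [CharP M₁ p] (a₁ : M₁)
    [Fact (Irreducible (X ^ p - C a₁ : M₁[X]))] (y : AdjoinRoot (X ^ p - C a₁ : M₁[X])) :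
    ∃ m : M₁, AdjoinRoot.of (X ^ p - C a₁ : M₁[X]) m = y ^ p := by
  haveI : CharP (AdjoinRoot (X ^ p - C a₁ : M₁[X])) p :=
    charP_of_injective_algebraMap (AdjoinRoot.of (X ^ p - C a₁ : M₁[X])).injective p
  have hroot : AdjoinRoot.root (X ^ p - C a₁ : M₁[X]) ^ p = AdjoinRoot.of _ a₁ := by
    have := AdjoinRoot.eval₂_root (X ^ p - C a₁ : M₁[X])
    rw [eval₂_sub, eval₂_pow, eval₂_X, eval₂_C, sub_eq_zero] at this
    exact this
  obtain ⟨g, rfl⟩ := AdjoinRoot.mk_surjective y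
  induction g using Polynomial.induction_on' with
  | add g h hg hh =>
    obtain ⟨m, hm⟩ := hg
    obtain ⟨m', hm'⟩ := hh
    exact ⟨m + m', by rw [map_add, map_add, add_pow_char, hm, hm']⟩
  | monomial n c =>
    refine ⟨c ^ p * a₁ ^ n, ?_⟩
    have h1 : AdjoinRoot.mk (X ^ p - C a₁ : M₁[X]) (C c * X ^ n) =
        AdjoinRoot.of _ c * AdjoinRoot.root _ ^ n := by
      rw [map_mul, map_pow, AdjoinRoot.mk_C, AdjoinRoot.mk_X]
    rw [← C_mul_X_pow_eq_monomial, h1, mul_pow, ← pow_mul, mul_comm n p, pow_mul, hroot, map_mul,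
      map_pow, map_pow]

variable {B L M₁ : Type u} [CommRing B] [IsDomain B] [IsDiscreteValuationRing B]
    [Field L] [Algebra B L] [IsFractionRing B L] [Field M₁] [Algebra L M₁] [FiniteDimensional L M₁]
    [Algebra B M₁] [IsScalarTower B L M₁]

include L in
/-- **the uniform bound for one field**: if `a₁` is not a `p`-th power in the finite extension `M₁`
of the fraction field of the N-2 DVR `B`, the distance from `a₁` to the `p`-th powers of `M₁` is
bounded below, uniformly in all valuation rings of `M₁` dominating `B`. -/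
theorem bound_one (hB : Nag.N2' B) (p : ℕ) [hp : Fact p.Prime] [CharP M₁ p]
    {t : B} (ht : t ∈ maximalIdeal B) (ht0 : t ≠ 0) (a₁ : M₁) (hnp : ∀ c : M₁, c ^ p ≠ a₁) :
    ∃ n : ℕ, ∀ W₁ : ValuationSubring M₁, Dominates B (algebraMap B M₁) W₁ →
      ∀ c : M₁, (algebraMap B M₁ t) ^ n / (a₁ - c ^ p) ∈ W₁ := by
  classical
  have hirr : Irreducible (X ^ p - C a₁ : M₁[X]) := X_pow_sub_C_irreducible_of_prime hp.out hnp
  haveI : Fact (Irreducible (X ^ p - C a₁ : M₁[X])) := ⟨hirr⟩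
  have hf0 : (X ^ p - C a₁ : M₁[X]) ≠ 0 := hirr.ne_zero
  set M₂ := AdjoinRoot (X ^ p - C a₁ : M₁[X]) with hM₂
  haveI : IsScalarTower L M₁ M₂ := inferInstance
  haveI : IsScalarTower B M₁ M₂ := inferInstance
  haveI : IsScalarTower B L M₂ := inferInstance
  haveI : FiniteDimensional M₁ M₂ := (AdjoinRoot.powerBasis hf0).finite
  haveI : FiniteDimensional L M₂ := Module.Finite.trans M₁ M₂
  haveI hfinS : Module.Finite B (integralClosure B M₂) := hB L M₂
  haveI : IsDedekindDomain (integralClosure B M₂) := Sq.isDedekindDomain_of_finite B L M₂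
  haveI : IsFractionRing (integralClosure B M₂) M₂ :=
    integralClosure.isFractionRing_of_finite_extension L M₂
  haveI : CharP M₂ p := charP_of_injective_algebraMap (algebraMap M₁ M₂).injective p
  set pb := AdjoinRoot.powerBasis hf0 with hpb
  have hdim : pb.dim = p := by
    rw [hpb, AdjoinRoot.powerBasis_dim, natDegree_X_pow_sub_C]
  have h1lt : 1 < pb.dim := by rw [hdim]; exact hp.out.one_lt
  have h0lt : 0 < pb.dim := by rw [hdim]; exact hp.out.pos
  set coord₁ : M₂ →ₗ[M₁] M₁ := pb.basis.coord ⟨1, h1lt⟩ with hcoord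
  set θ₂ : M₂ := AdjoinRoot.root (X ^ p - C a₁ : M₁[X]) with hθ₂
  have hgen : pb.gen = θ₂ := by rw [hpb, AdjoinRoot.powerBasis_gen]
  have hcθ : coord₁ θ₂ = 1 := by
    have : θ₂ = pb.basis ⟨1, h1lt⟩ := by rw [pb.basis_eq_pow, hgen, pow_one]
    rw [this, hcoord, Module.Basis.coord_apply, Module.Basis.repr_self, Finsupp.single_eq_same]
  have hc1 : coord₁ 1 = 0 := by
    have : (1 : M₂) = pb.basis ⟨0, h0lt⟩ := by rw [pb.basis_eq_pow, pow_zero]
    rw [this, hcoord, Module.Basis.coord_apply, Module.Basis.repr_self,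
      Finsupp.single_eq_of_ne (by intro h; exact absurd (congrArg Fin.val h) (by simp))]
  have hθp : θ₂ ^ p = algebraMap M₁ M₂ a₁ := by
    have := AdjoinRoot.eval₂_root (X ^ p - C a₁ : M₁[X])
    rw [eval₂_sub, eval₂_pow, eval₂_X, eval₂_C, sub_eq_zero] at this
    exact this
  -- the bound on the first coordinate of integral elements
  set N : Submodule B M₁ := Submodule.map
    ((coord₁.restrictScalars B).comp (integralClosure B M₂).val.toLinearMap) ⊤ with hN
  have hNfg : N.FG := Submodule.FG.map _ (Module.finite_def.1 hfinS)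
  obtain ⟨n₀, hn₀⟩ := exists_pow_smul_integral (L := L) ht ht0 N hNfg
  refine ⟨p * (n₀ + 1), fun W₁ hW₁ c => ?_⟩
  by_contra hnot
  obtain ⟨W₂, hW₂⟩ := exists_dom_ext W₁ (algebraMap M₁ M₂)
  have hcomap : W₂.comap (algebraMap M₁ M₂) = W₁ := comap_eq_of_dom hW₂
  have hW₂B : Dominates B (algebraMap B M₂) W₂ := by
    have h := dom_trans hW₁ hW₂
    rw [← IsScalarTower.algebraMap_eq B M₁ M₂] at h
    exact h
  set T₁ : M₁ := algebraMap B M₁ t with hT₁
  set T : M₂ := algebraMap B M₂ t with hT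
  have hTT : algebraMap M₁ M₂ T₁ = T := by
    rw [hT₁, hT, ← IsScalarTower.algebraMap_apply B M₁ M₂]
  have hT₁0 : T₁ ≠ 0 := by
    rw [hT₁, Ne, IsScalarTower.algebraMap_apply B L M₁, map_eq_zero]
    exact fun h => ht0 (IsFractionRing.injective B L (by rw [h, map_zero]))
  have hT0 : T ≠ 0 := by rw [← hTT, Ne, map_eq_zero]; exact hT₁0
  have hvT : W₂.valuation T < 1 := hW₂B.2 t ht
  set c₂ : M₂ := algebraMap M₁ M₂ c with hc₂
  have hd : algebraMap M₁ M₂ (a₁ - c ^ p) = (θ₂ - c₂) ^ p := by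
    rw [sub_pow_char, hθp, map_sub, map_pow]
  have hd0 : a₁ - c ^ p ≠ 0 := by
    rw [Ne, sub_eq_zero]; exact fun h => hnp c h.symm
  have hd0' : (θ₂ - c₂) ^ p ≠ 0 := by rw [← hd, Ne, map_eq_zero]; exact hd0
  have hnot₂ : ¬ (T ^ (p * (n₀ + 1)) / (θ₂ - c₂) ^ p ∈ W₂) := by
    intro h
    apply hnot
    rw [← hcomap]
    show algebraMap M₁ M₂ _ ∈ W₂
    rw [map_div₀, map_pow, hTT, hd]
    exact h
  have hlt : W₂.valuation (θ₂ - c₂) < W₂.valuation T ^ (n₀ + 1) := by
    have h1 : 1 < W₂.valuation (T ^ (p * (n₀ + 1)) / (θ₂ - c₂) ^ p) :=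
      not_le.1 (mt (W₂.valuation_le_one_iff _).1 hnot₂)
    rw [map_div₀, one_lt_div₀ (zero_lt_iff.2 ((Valuation.ne_zero_iff _).2 hd0')), map_pow, map_pow,
      mul_comm p, pow_mul] at h1
    exact lt_of_pow_lt_pow_left₀ p zero_le h1
  set y : M₂ := (θ₂ - c₂) / T ^ (n₀ + 1) with hy
  have hyV : y ∈ W₂ := by
    rw [← W₂.valuation_le_one_iff, hy, map_div₀, map_pow]
    exact le_of_lt ((div_lt_one₀ (zero_lt_iff.2 (pow_ne_zero _ ((Valuation.ne_zero_iff _).2 hT0)))).2
      hlt)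
  have hSV := Dict.hSV hW₂B
  have hq : Dict.center W₂ hSV ≠ ⊥ := Dict.center_ne_bot L hW₂B
  obtain ⟨r, s, hs, hyrs⟩ := Dict.exists_frac W₂ hSV hq hyV
  set s₂ : M₂ := algebraMap (integralClosure B M₂) M₂ s with hs₂
  have hvs : W₂.valuation s₂ = 1 := Dict.val_eq_one_of_not_mem W₂ hSV hs
  have hs0 : s₂ ≠ 0 := Dict.ne_zero_of_not_mem W₂ hSV hs
  obtain ⟨s₁, hs₁⟩ := adjoinRoot_pow_mem p a₁ s₂
  have hs₁' : algebraMap M₁ M₂ s₁ = s₂ ^ p := hs₁
  -- the integral element `r * s ^ (p - 1)`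
  have hpow : s₂ ^ p = s₂ ^ (p - 1) * s₂ := by
    rw [← pow_succ, Nat.sub_add_cancel hp.out.one_le]
  have hr' : algebraMap (integralClosure B M₂) M₂ (r * s ^ (p - 1)) = s₁ • y := by
    rw [Algebra.smul_def, hs₁', map_mul, map_pow, hyrs, hpow, ← hs₂]
    rw [mul_comm (s₂ ^ (p - 1) * s₂), mul_assoc, ← mul_assoc s₂⁻¹, mul_comm s₂⁻¹, mul_assoc,
      inv_mul_cancel₀ hs0, mul_one]
  have hmemN : coord₁ (s₁ • y) ∈ N := by
    rw [hN, ← hr']
    exact ⟨r * s ^ (p - 1), trivial, rfl⟩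
  have hcy : coord₁ y = (T₁ ^ (n₀ + 1))⁻¹ := by
    have : y = (T₁ ^ (n₀ + 1))⁻¹ • (θ₂ - c • (1 : M₂)) := by
      rw [hy, Algebra.smul_def, Algebra.smul_def, mul_one, map_inv₀, map_pow, hTT, div_eq_inv_mul]
    rw [this, map_smul, map_sub, map_smul, hcθ, hc1, smul_zero, sub_zero, smul_eq_mul, mul_one]
  have hint : IsIntegral B (s₁ / T₁) := by
    have h := hn₀ _ hmemN
    rw [map_smul, hcy, smul_eq_mul, Algebra.smul_def, map_pow, ← hT₁] at h
    have : T₁ ^ n₀ * (s₁ * (T₁ ^ (n₀ + 1))⁻¹) = s₁ / T₁ := by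
      rw [pow_succ]; field_simp
    rw [this] at h
    exact h
  have hint₂ : IsIntegral B (algebraMap M₁ M₂ (s₁ / T₁)) :=
    hint.map (IsScalarTower.toAlgHom B M₁ M₂)
  have hmem : algebraMap M₁ M₂ (s₁ / T₁) ∈ W₂ :=
    mem_valuationSubring_of_isIntegralElem W₂ (algebraMap B M₂) hW₂B.1 hint₂
  rw [← W₂.valuation_le_one_iff, map_div₀, hTT, hs₁', map_div₀, map_pow, hvs, one_pow,
    div_le_one₀ (zero_lt_iff.2 ((Valuation.ne_zero_iff _).2 hT0))] at hmem
  exact absurd hvT (not_lt.2 hmem)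

end BoundOne

end Kr
end Groth.Agent.Helper9.EtRamLib
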