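import Mathlib
import Groth.Prelude.Def_EtRam
import Groth.Prelude.Def_Found
import Groth.Agent.Lib.Helper9.EtRam.Dom42

set_option autoImplicit false
set_option linter.style.haveILetI false
set_option linter.unusedSectionVars false

/-!
# The uniform bound over all composita (helper9)
-/

namespace Groth.Agent.Helper9.EtRamLib
namespace Kr
open IsLocalRing EtRam Polynomial TensorProduct

universe u

section BoundAll
variable {B K L : Type u} [CommRing B] [IsDomain B] [IsDiscreteValuationRing B] [Field K] [Field L]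
  [Algebra B L] [IsFractionRing B L] [Algebra K L] [Algebra.IsGeometricallyReduced K L]
  (p : ℕ) [hp : Fact p.Prime] [CharP K p]
  {K₁ K₂ : Type u} [Field K₁] [Field K₂] [Algebra K K₁] [Algebra K₁ K₂] [FiniteDimensional K K₁]
  [Algebra.IsAlgebraic K₁ K₂]

lemma bound_field (hB : Nag.N2' B) (θ : K₂) (hθ : θ ∉ Set.range (algebraMap K₁ K₂)) (a₀ : K₁)
    (hθp : θ ^ p = algebraMap K₁ K₂ a₀) {t : B} (ht : t ∈ maximalIdeal B) (ht0 : t ≠ 0)
    (M₁ : Type u) [Field M₁] (Φ : L ⊗[K] K₁ →+* M₁) (hΦ : Function.Surjective Φ) :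
    ∃ n : ℕ, ∀ W₁ : ValuationSubring M₁,
      Dominates B ((Φ.comp (algebraMap L (L ⊗[K] K₁))).comp (algebraMap B L)) W₁ →
      ∀ c : M₁, Φ (1 ⊗ₜ a₀) - c ^ p ≠ 0 ∧
        Φ (algebraMap B L t ⊗ₜ 1) ^ n / (Φ (1 ⊗ₜ a₀) - c ^ p) ∈ W₁ := by
  letI algL : Algebra L M₁ := (Φ.comp (algebraMap L (L ⊗[K] K₁))).toAlgebra
  letI algK : Algebra K M₁ := (Φ.comp (algebraMap K (L ⊗[K] K₁))).toAlgebra
  letI algK₁ : Algebra K₁ M₁ :=
    (Φ.comp (Algebra.TensorProduct.includeRight : K₁ →ₐ[K] L ⊗[K] K₁).toRingHom).toAlgebra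
  letI algB : Algebra B M₁ := ((algebraMap L M₁).comp (algebraMap B L)).toAlgebra
  haveI : IsScalarTower B L M₁ := IsScalarTower.of_algebraMap_eq (fun _ => rfl)
  haveI : IsScalarTower K L M₁ := IsScalarTower.of_algebraMap_eq (fun k => by
    show Φ (algebraMap K (L ⊗[K] K₁) k) = Φ (algebraMap L (L ⊗[K] K₁) (algebraMap K L k))
    rw [← IsScalarTower.algebraMap_apply K L (L ⊗[K] K₁)])
  haveI : IsScalarTower K K₁ M₁ := IsScalarTower.of_algebraMap_eq (fun k => by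
    show Φ (algebraMap K (L ⊗[K] K₁) k) = Φ (Algebra.TensorProduct.includeRight (algebraMap K K₁ k))
    rw [AlgHom.commutes])
  have hK₁map : ∀ k : K₁, algebraMap K₁ M₁ k = Φ ((1 : L) ⊗ₜ[K] k) := fun k => rfl
  have hLmap : ∀ l : L, algebraMap L M₁ l = Φ (l ⊗ₜ[K] (1 : K₁)) := fun l => rfl
  have hadj : Algebra.adjoin L (Set.range (algebraMap K₁ M₁)) = ⊤ := by
    rw [eq_top_iff]
    rintro x -
    obtain ⟨t, rfl⟩ := hΦ x
    induction t using TensorProduct.induction_on with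
    | zero => rw [map_zero]; exact zero_mem _
    | tmul l k =>
      have : (l ⊗ₜ[K] k : L ⊗[K] K₁) = (l ⊗ₜ[K] (1 : K₁)) * ((1 : L) ⊗ₜ[K] k) := by
        rw [Algebra.TensorProduct.tmul_mul_tmul, mul_one, one_mul]
      rw [this, map_mul, ← hLmap, ← hK₁map]
      exact mul_mem (Subalgebra.algebraMap_mem _ l) (Algebra.subset_adjoin ⟨k, rfl⟩)
    | add x y hx hy => rw [map_add]; exact add_mem hx hy
  haveI : CharP K₁ p := charP_of_injective_algebraMap (algebraMap K K₁).injective p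
  haveI : CharP M₁ p := charP_of_injective_algebraMap (algebraMap K₁ M₁).injective p
  have hnp : ∀ c : M₁, c ^ p ≠ algebraMap K₁ M₁ a₀ := not_pow K p hadj θ hθ a₀ hθp
  haveI : FiniteDimensional L M₁ := by
    let ΦL : L ⊗[K] K₁ →ₗ[L] M₁ :=
      { toFun := Φ
        map_add' := map_add Φ
        map_smul' := fun l x => by
          show Φ (l • x) = algebraMap L M₁ l * Φ x
          rw [Algebra.smul_def, map_mul]; rfl }
    exact Module.Finite.of_surjective ΦL hΦ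
  obtain ⟨n, hn⟩ := bound_one (L := L) hB p ht ht0 (algebraMap K₁ M₁ a₀) (fun c hc => hnp c hc)
  refine ⟨n, fun W₁ hW₁ c => ⟨?_, hn W₁ hW₁ c⟩⟩
  rw [Ne, sub_eq_zero]
  exact fun h => hnp c h.symm

lemma bound_prime (hB : Nag.N2' B) (θ : K₂) (hθ : θ ∉ Set.range (algebraMap K₁ K₂)) (a₀ : K₁)
    (hθp : θ ^ p = algebraMap K₁ K₂ a₀) {t : B} (ht : t ∈ maximalIdeal B) (ht0 : t ≠ 0)
    (P : Ideal (L ⊗[K] K₁)) [hP : P.IsPrime] :
    ∃ n : ℕ, ∀ (M₁ : Type u) [Field M₁] (Φ : L ⊗[K] K₁ →+* M₁), Function.Surjective Φ →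
      RingHom.ker Φ = P → ∀ W₁ : ValuationSubring M₁,
      Dominates B ((Φ.comp (algebraMap L (L ⊗[K] K₁))).comp (algebraMap B L)) W₁ →
      ∀ c : M₁, Φ (1 ⊗ₜ a₀) - c ^ p ≠ 0 ∧
        Φ (algebraMap B L t ⊗ₜ 1) ^ n / (Φ (1 ⊗ₜ a₀) - c ^ p) ∈ W₁ := by
  haveI : IsArtinianRing (L ⊗[K] K₁) := IsArtinianRing.of_finite L (L ⊗[K] K₁)
  haveI : P.IsMaximal := IsArtinianRing.isMaximal_of_isPrime P
  letI : Field ((L ⊗[K] K₁) ⧸ P) := Ideal.Quotient.field P
  obtain ⟨n, hn⟩ := bound_field p hB θ hθ a₀ hθp ht ht0 ((L ⊗[K] K₁) ⧸ P) (Ideal.Quotient.mk P)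
    Ideal.Quotient.mk_surjective
  refine ⟨n, ?_⟩
  intro M₁ _ Φ hΦ hker W₁ hW₁ c
  let ψ : (L ⊗[K] K₁) ⧸ P →+* M₁ := Ideal.Quotient.lift P Φ (fun x hx => by
    rw [← hker] at hx; exact hx)
  have hψ : ∀ x, ψ (Ideal.Quotient.mk P x) = Φ x := fun x => Ideal.Quotient.lift_mk P Φ _
  have hWP : Dominates B ((((Ideal.Quotient.mk P)).comp (algebraMap L (L ⊗[K] K₁))).comp
      (algebraMap B L)) (W₁.comap ψ) := by
    apply dom_comap
    have : ψ.comp ((((Ideal.Quotient.mk P)).comp (algebraMap L (L ⊗[K] K₁))).comp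
        (algebraMap B L)) = (Φ.comp (algebraMap L (L ⊗[K] K₁))).comp (algebraMap B L) := by
      ext b
      show ψ (Ideal.Quotient.mk P (algebraMap L (L ⊗[K] K₁) (algebraMap B L b))) = _
      rw [hψ]; rfl
    rw [this]; exact hW₁
  obtain ⟨ct, rfl⟩ := hΦ c
  have key := hn (W₁.comap ψ) hWP (Ideal.Quotient.mk P ct)
  have hd : ψ (Ideal.Quotient.mk P (1 ⊗ₜ a₀) - Ideal.Quotient.mk P ct ^ p) =
      Φ (1 ⊗ₜ a₀) - Φ ct ^ p := by
    rw [map_sub, map_pow, hψ, hψ]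
  constructor
  · rw [← hd, Ne, map_eq_zero]
    exact key.1
  · have h2 : ψ ((Ideal.Quotient.mk P (algebraMap B L t ⊗ₜ 1)) ^ n /
        (Ideal.Quotient.mk P (1 ⊗ₜ a₀) - Ideal.Quotient.mk P ct ^ p)) ∈ W₁ := key.2
    rw [map_div₀, hd, map_pow, hψ] at h2
    exact h2


/-- **the uniform bound**: the distance from `a₀` to the `p`-th powers is bounded below uniformly
over all composita of `L` and `K₁` and all their valuation rings dominating `B`. -/
theorem bound_all (hB : Nag.N2' B) (θ : K₂) (hθ : θ ∉ Set.range (algebraMap K₁ K₂)) (a₀ : K₁)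
    (hθp : θ ^ p = algebraMap K₁ K₂ a₀) {t : B} (ht : t ∈ maximalIdeal B) (ht0 : t ≠ 0) :
    ∃ n₁ : ℕ, ∀ (M₁ : Type u) [Field M₁] [Algebra K M₁] [Algebra L M₁] [Algebra K₁ M₁]
      [IsScalarTower K L M₁] [IsScalarTower K K₁ M₁],
      Algebra.adjoin L (Set.range (algebraMap K₁ M₁)) = ⊤ →
      ∀ (W₁ : ValuationSubring M₁), Dominates B ((algebraMap L M₁).comp (algebraMap B L)) W₁ →
      ∀ c : M₁, algebraMap K₁ M₁ a₀ - c ^ p ≠ 0 ∧
        (algebraMap L M₁ (algebraMap B L t)) ^ n₁ / (algebraMap K₁ M₁ a₀ - c ^ p) ∈ W₁ := by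
  haveI : IsArtinianRing (L ⊗[K] K₁) := IsArtinianRing.of_finite L (L ⊗[K] K₁)
  have h := fun P : PrimeSpectrum (L ⊗[K] K₁) =>
    bound_prime (L := L) p hB θ hθ a₀ hθp ht ht0 P.asIdeal
  choose nP hnP using h
  obtain ⟨n₁, hn₁⟩ := Finite.exists_le nP
  refine ⟨n₁, ?_⟩
  intro M₁ _ _ _ _ _ _ hadj W₁ hW₁ c
  set Φ : L ⊗[K] K₁ →+* M₁ := (Algebra.TensorProduct.productMap (IsScalarTower.toAlgHom K L M₁)
    (IsScalarTower.toAlgHom K K₁ M₁)).toRingHom with hΦdef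
  have hΦt : ∀ (l : L) (k : K₁), Φ (l ⊗ₜ k) = algebraMap L M₁ l * algebraMap K₁ M₁ k := by
    intro l k
    show Algebra.TensorProduct.productMap (IsScalarTower.toAlgHom K L M₁)
      (IsScalarTower.toAlgHom K K₁ M₁) (l ⊗ₜ k) = _
    rw [Algebra.TensorProduct.productMap_apply_tmul]; rfl
  have hΦ : Function.Surjective Φ := by
    intro m
    have hm : m ∈ Algebra.adjoin L (Set.range (algebraMap K₁ M₁)) := by rw [hadj]; trivial
    induction hm using Algebra.adjoin_induction with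
    | mem x hx =>
      obtain ⟨k, rfl⟩ := hx
      exact ⟨1 ⊗ₜ k, by rw [hΦt, map_one, one_mul]⟩
    | algebraMap l => exact ⟨l ⊗ₜ 1, by rw [hΦt, map_one, mul_one]⟩
    | add x y _ _ hx hy =>
      obtain ⟨a, rfl⟩ := hx
      obtain ⟨b, rfl⟩ := hy
      exact ⟨a + b, map_add _ _ _⟩
    | mul x y _ _ hx hy =>
      obtain ⟨a, rfl⟩ := hx
      obtain ⟨b, rfl⟩ := hy
      exact ⟨a * b, map_mul _ _ _⟩
  haveI hprime : (RingHom.ker Φ).IsPrime := RingHom.ker_isPrime Φ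
  set P : PrimeSpectrum (L ⊗[K] K₁) := ⟨RingHom.ker Φ, hprime⟩ with hP
  have hcomp : (Φ.comp (algebraMap L (L ⊗[K] K₁))).comp (algebraMap B L) =
      (algebraMap L M₁).comp (algebraMap B L) := by
    ext b
    show Φ (algebraMap B L b ⊗ₜ 1) = _
    rw [hΦt, map_one, mul_one]; rfl
  have key := hnP P M₁ Φ hΦ rfl W₁ (hcomp ▸ hW₁) c
  rw [hΦt, hΦt, map_one, map_one, one_mul, mul_one] at key
  refine ⟨key.1, ?_⟩
  obtain ⟨d, hd⟩ := Nat.exists_eq_add_of_le (hn₁ P)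
  have hT : algebraMap L M₁ (algebraMap B L t) ∈ W₁ := hW₁.1 t
  rw [hd, pow_add, mul_div_right_comm]
  exact W₁.mul_mem _ _ key.2 (pow_mem hT d)

end BoundAll

end Kr
end Groth.Agent.Helper9.EtRamLib
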