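import Mathlib
import Groth.Prelude.Def_EtRam
import Groth.Prelude.Def_Found
import Groth.Agent.Lib.Helper9.EtRam.Dom43

set_option autoImplicit false
set_option linter.style.haveILetI false
set_option linter.unusedSectionVars false

/-!
# Constructions for the purely inseparable step: generators, the deformed extension, composita,
spanning lemmas (helper9)
-/

namespace Groth.Agent.Helper9.EtRamLib
namespace Kr
open IsLocalRing EtRam Polynomial TensorProduct

universe u

section Gen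

/-- a normalized generator of a purely inseparable extension of degree `p` -/
lemma exists_gen (A K : Type u) [CommRing A] [IsDomain A] [IsDiscreteValuationRing A] [Field K]
    [Algebra A K] [IsFractionRing A K] (p : ℕ) [hp : Fact p.Prime] (K₁ K₂ : Type u) [Field K₁]
    [Field K₂] [Algebra K K₁] [Algebra K₁ K₂] [FiniteDimensional K K₁] [CharP K₁ p]
    [IsPurelyInseparable K₁ K₂] (hdeg : Module.finrank K₁ K₂ = p) {ϖ : A} (hϖ : Irreducible ϖ) :
    ∃ (θ : K₂) (a₀ : K₁), θ ∉ Set.range (algebraMap K₁ K₂) ∧ θ ^ p = algebraMap K₁ K₂ a₀ ∧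
      ((algebraMap K K₁).comp (algebraMap A K)).IsIntegralElem a₀ := by
  have hne : ¬ Function.Surjective (algebraMap K₁ K₂) := by
    intro hs
    have h1 : (⊥ : Subalgebra K₁ K₂) = ⊤ := (Algebra.surjective_algebraMap_iff.1 hs).symm
    rw [Subalgebra.bot_eq_top_iff_finrank_eq_one, hdeg] at h1
    exact hp.out.ne_one h1
  obtain ⟨θ₀, hθ₀, a, ha⟩ := Sq.exists_pow_mem p K₁ K₂ hne
  letI algAK₁ : Algebra A K₁ := ((algebraMap K K₁).comp (algebraMap A K)).toAlgebra
  haveI : IsScalarTower A K K₁ := IsScalarTower.of_algebraMap_eq (fun _ => rfl)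
  have halg : IsAlgebraic A a :=
    (IsFractionRing.isAlgebraic_iff A K K₁).2 (Algebra.IsAlgebraic.isAlgebraic (R := K) a)
  obtain ⟨b, hb0, hint⟩ := halg.exists_integral_multiple
  have hϖm : ϖ ∈ maximalIdeal A := hϖ.not_isUnit
  obtain ⟨m, d, hd⟩ := exists_dvd_pow hϖm hϖ.ne_zero hb0
  have hint2 : IsIntegral A (ϖ ^ m • a) := by
    rw [hd, mul_comm, mul_smul, Algebra.smul_def]
    exact IsIntegral.mul isIntegral_algebraMap hint
  set c : K₁ := algebraMap A K₁ (ϖ ^ m) with hc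
  have hc0 : c ≠ 0 := by
    rw [hc, Ne, IsScalarTower.algebraMap_apply A K K₁, map_eq_zero]
    exact fun h => pow_ne_zero m hϖ.ne_zero (IsFractionRing.injective A K (by rw [h, map_zero]))
  refine ⟨algebraMap K₁ K₂ c * θ₀, c ^ p * a, ?_, ?_, ?_⟩
  · rintro ⟨k, hk⟩
    apply hθ₀
    refine ⟨k / c, ?_⟩
    rw [map_div₀, hk, mul_div_assoc, mul_comm, div_mul_cancel₀]
    rw [Ne, map_eq_zero]; exact hc0
  · rw [mul_pow, ← ha, map_mul, map_pow]
  · have h1 : IsIntegral A (c ^ p * a) := by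
      have hp1 : c ^ p = c ^ (p - 1) * c := by
        rw [← pow_succ, Nat.sub_add_cancel hp.out.one_le]
      rw [hp1, mul_assoc]
      apply IsIntegral.mul
      · exact IsIntegral.pow isIntegral_algebraMap _
      · have : c * a = ϖ ^ m • a := by rw [hc, Algebra.smul_def]
        rw [this]; exact hint2
    exact h1

end Gen

section K3
variable (K K₁ : Type u) [Field K] [Field K₁] [Algebra K K₁] (p : ℕ) [hp : Fact p.Prime]
  [CharP K₁ p]

/-- the separable extension generated by a root of `X ^ p - c X - a₀` -/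
lemma exists_K3 (c a₀ : K₁) (hc : c ≠ 0) :
    ∃ (K₃ : Type u) (_ : Field K₃) (_ : Algebra K K₃) (_ : Algebra K₁ K₃)
      (_ : IsScalarTower K K₁ K₃),
      FiniteDimensional K₁ K₃ ∧ Algebra.IsSeparable K₁ K₃ ∧
      ∃ z : K₃, z ^ p - algebraMap K₁ K₃ c * z - algebraMap K₁ K₃ a₀ = 0 ∧
        ∀ y : K₃, ∃ h : K₁[X], aeval z h = y := by
  set q : K₁[X] := C c * X + C a₀ with hq
  have hqdeg : q.degree < (p : ℕ) := by
    have h1 : q.degree ≤ 1 := degree_linear_le
    refine lt_of_le_of_lt h1 ?_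
    exact_mod_cast hp.out.one_lt
  set f : K₁[X] := X ^ p - q with hf
  have hfm : f.Monic := monic_X_pow_sub hqdeg
  have hf0 : f ≠ 0 := hfm.ne_zero
  have hfnd : f.natDegree = p := by
    rw [hf, natDegree_sub_eq_left_of_natDegree_lt, natDegree_X_pow]
    rw [natDegree_X_pow]
    exact lt_of_le_of_lt natDegree_linear_le hp.out.one_lt
  have hfu : ¬ IsUnit f := by
    intro h
    have := natDegree_eq_zero_of_isUnit h
    rw [hfnd] at this
    exact hp.out.ne_zero this
  have hder : derivative f = - C c := by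
    rw [hf, hq, derivative_sub, derivative_X_pow, derivative_add, derivative_C, add_zero,
      derivative_C_mul, derivative_X, mul_one, CharP.cast_eq_zero K₁ p, C_0, zero_mul, zero_sub]
  have hsep : f.Separable := by
    rw [separable_def, hder]
    refine ⟨0, - C c⁻¹, ?_⟩
    rw [zero_mul, zero_add, neg_mul_neg, ← C_mul, inv_mul_cancel₀ hc, C_1]
  obtain ⟨g, hgirr, hgdvd⟩ := WfDvdMonoid.exists_irreducible_factor hfu hf0
  haveI : Fact (Irreducible g) := ⟨hgirr⟩
  have hgsep : g.Separable := hsep.of_dvd hgdvd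
  have hg0 : g ≠ 0 := hgirr.ne_zero
  set z : AdjoinRoot g := AdjoinRoot.root g with hz
  have hzf : aeval z f = 0 := by
    obtain ⟨r, hr⟩ := hgdvd
    rw [hz, AdjoinRoot.aeval_eq, hr, map_mul, AdjoinRoot.mk_self, zero_mul]
  have hgen : ∀ y : AdjoinRoot g, ∃ h : K₁[X], aeval z h = y := by
    intro y
    obtain ⟨h, rfl⟩ := AdjoinRoot.mk_surjective y
    exact ⟨h, AdjoinRoot.aeval_eq h⟩
  have hzint : IsIntegral K₁ z := ⟨f, hfm, by rw [← aeval_def]; exact hzf⟩
  have hzsep : IsSeparable K₁ z := hsep.of_dvd (minpoly.dvd K₁ z hzf)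
  haveI hfin : FiniteDimensional K₁ (AdjoinRoot g) := (AdjoinRoot.powerBasis hg0).finite
  have hsepalg : Algebra.IsSeparable K₁ (AdjoinRoot g) := by
    rw [← separableClosure.eq_top_iff, eq_top_iff]
    rintro y -
    obtain ⟨h, rfl⟩ := hgen y
    have h1 : Algebra.adjoin K₁ {z} ≤ (separableClosure K₁ (AdjoinRoot g)).toSubalgebra := by
      rw [Algebra.adjoin_le_iff, Set.singleton_subset_iff]
      exact mem_separableClosure_iff.2 hzsep
    exact h1 (aeval_mem_adjoin_singleton K₁ z)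
  refine ⟨AdjoinRoot g, inferInstance, inferInstance, inferInstance, inferInstance, hfin, hsepalg,
    z, ?_, hgen⟩
  rw [hf, hq, map_sub, map_pow, aeval_X, map_add, map_mul, aeval_C, aeval_C, aeval_X] at hzf
  rw [← hzf]; ring

end K3


section Comp

/-- a field containing `M₃` and `K₂` compatibly over `K₁`, finite over `M₃` -/
theorem exists_compositum' (K₁ K₂ M₃ : Type u) [Field K₁] [Field K₂] [Field M₃] [Algebra K₁ K₂]
    [Algebra K₁ M₃] [FiniteDimensional K₁ K₂] :
    ∃ (M₅ : Type u) (_ : Field M₅) (_ : Algebra M₃ M₅) (_ : Algebra K₂ M₅) (_ : Algebra K₁ M₅)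
      (_ : IsScalarTower K₁ M₃ M₅) (_ : IsScalarTower K₁ K₂ M₅), FiniteDimensional M₃ M₅ := by
  haveI : Nontrivial (M₃ ⊗[K₁] K₂) := inferInstance
  obtain ⟨𝔪, h𝔪⟩ := Ideal.exists_maximal (M₃ ⊗[K₁] K₂)
  letI : Field ((M₃ ⊗[K₁] K₂) ⧸ 𝔪) := Ideal.Quotient.field 𝔪
  letI algK₂ : Algebra K₂ ((M₃ ⊗[K₁] K₂) ⧸ 𝔪) :=
    ((Ideal.Quotient.mk 𝔪).comp
      (Algebra.TensorProduct.includeRight : K₂ →ₐ[K₁] M₃ ⊗[K₁] K₂).toRingHom).toAlgebra
  haveI tw : IsScalarTower K₁ K₂ ((M₃ ⊗[K₁] K₂) ⧸ 𝔪) := IsScalarTower.of_algebraMap_eq (fun k => by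
    show Ideal.Quotient.mk 𝔪 (algebraMap K₁ (M₃ ⊗[K₁] K₂) k) =
      Ideal.Quotient.mk 𝔪 (Algebra.TensorProduct.includeRight (algebraMap K₁ K₂ k))
    rw [AlgHom.commutes])
  have hfin : FiniteDimensional M₃ ((M₃ ⊗[K₁] K₂) ⧸ 𝔪) :=
    Module.Finite.of_surjective (Ideal.Quotient.mkₐ M₃ 𝔪).toLinearMap
      (Ideal.Quotient.mkₐ_surjective M₃ 𝔪)
  exact ⟨(M₃ ⊗[K₁] K₂) ⧸ 𝔪, inferInstance, inferInstance, algK₂, inferInstance, inferInstance, tw,
    hfin⟩

end Comp

section Span
variable {K₁ K' F : Type u} [Field K₁] [Field K'] [Field F] [Algebra K₁ K'] [Algebra K' F]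
  [Algebra K₁ F] [IsScalarTower K₁ K' F]

/-- the image of `K' = K₁[w]` in `F` consists of the polynomial expressions in the image of `w` -/
lemma range_eq_aeval (w : K') (hgen : ∀ y : K', ∃ h : K₁[X], aeval w h = y) :
    Set.range (algebraMap K' F) = Set.range (aeval (algebraMap K' F w) : K₁[X] → F) := by
  ext y
  constructor
  · rintro ⟨k, rfl⟩
    obtain ⟨h, rfl⟩ := hgen k
    exact ⟨h, aeval_algebraMap_apply F w h⟩
  · rintro ⟨h, rfl⟩
    exact ⟨aeval w h, (aeval_algebraMap_apply F w h).symm⟩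

variable {L : Type u} [Field L] [Algebra L F] [Algebra.IsAlgebraic L F]

/-- the compositum of `L` and `K' = K₁[w]` inside `F` consists of the polynomial expressions in the
image of `w` with coefficients in the compositum of `L` and `K₁` -/
lemma adjoin_eq_aeval (w : K') (hgen : ∀ y : K', ∃ h : K₁[X], aeval w h = y) :
    (Algebra.adjoin L (Set.range (algebraMap K' F)) : Set F) =
      Set.range (aeval (algebraMap K' F w) :
        (IntermediateField.adjoin L (Set.range (algebraMap K₁ F)))[X] → F) := by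
  set E₁ := IntermediateField.adjoin L (Set.range (algebraMap K₁ F)) with hE₁
  set w₅ := algebraMap K' F w with hw₅
  have hE₁sub : E₁.toSubalgebra = Algebra.adjoin L (Set.range (algebraMap K₁ F)) :=
    IntermediateField.adjoin_toSubalgebra _
  have hmemK₁ : ∀ k : K₁, algebraMap K₁ F k ∈ E₁ :=
    fun k => IntermediateField.subset_adjoin L _ ⟨k, rfl⟩
  let ρ : K₁ →+* E₁ := RingHom.codRestrict (algebraMap K₁ F) E₁ hmemK₁
  have hρ : (algebraMap E₁ F).comp ρ = algebraMap K₁ F := by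
    ext k; rfl
  apply Set.Subset.antisymm
  · have hle : Algebra.adjoin L (Set.range (algebraMap K' F)) ≤
        ((aeval w₅ : E₁[X] →ₐ[E₁] F).range.restrictScalars L) := by
      rw [Algebra.adjoin_le_iff]
      rintro _ ⟨k, rfl⟩
      obtain ⟨h, rfl⟩ := hgen k
      refine ⟨h.map ρ, ?_⟩
      show aeval w₅ (h.map ρ) = _
      rw [aeval_def, eval₂_map, hρ, ← aeval_def, hw₅, aeval_algebraMap_apply]
    intro y hy
    obtain ⟨h, hh⟩ := hle hy
    exact ⟨h, hh⟩
  · rintro _ ⟨h, rfl⟩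
    set S := Algebra.adjoin L (Set.range (algebraMap K' F)) with hS
    have hES : ∀ c : E₁, (c : F) ∈ S := by
      intro c
      have h1 : (c : F) ∈ E₁.toSubalgebra := c.2
      rw [hE₁sub] at h1
      refine Algebra.adjoin_mono ?_ h1
      rintro _ ⟨k, rfl⟩
      exact ⟨algebraMap K₁ K' k, (IsScalarTower.algebraMap_apply K₁ K' F k).symm⟩
    have hwS : w₅ ∈ S := Algebra.subset_adjoin ⟨w, rfl⟩
    show aeval w₅ h ∈ S
    rw [aeval_eq_sum_range]
    refine S.sum_mem (fun i _ => ?_)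
    rw [Algebra.smul_def]
    exact S.mul_mem (hES _) (S.pow_mem hwS i)

end Span

end Kr
end Groth.Agent.Helper9.EtRamLib
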