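import Mathlib
import Groth.Prelude.Def_EtRam
import Groth.Prelude.Def_Found
import Groth.Agent.Lib.Helper9.EtRam.Dom44

set_option autoImplicit false
set_option linter.style.haveILetI false
set_option linter.unusedSectionVars false

/-!
# The purely inseparable step: a separable solution from a purely inseparable one (helper9)
-/

namespace Groth.Agent.Helper9.EtRamLib
namespace Kr
open IsLocalRing EtRam Polynomial TensorProduct

universe u

section KRC'
variable {Ω : Type u} [Field Ω] (V : ValuationSubring Ω) [IsDiscreteValuationRing V]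
  {E : Type u} [Field E] [Algebra E Ω] (p : ℕ) [hp : Fact p.Prime] [CharP E p] [CharP Ω p]

/-- packaged form of `krc`: the generator `x'` of the deformed extension is a root of
`X ^ p - c' X - a` and is closer to `x` than all of `E` -/
theorem krc' (x x' : Ω) (a c' : E) (hxp : x ^ p = algebraMap E Ω a)
    (hx' : x' ^ p - algebraMap E Ω c' * x' - algebraMap E Ω a = 0)
    (δ : V.ValueGroup) (hδ : δ ≠ 0) (hbd : ∀ c : E, δ ≤ V.valuation (x - algebraMap E Ω c))
    (hclose : ∀ c : E, V.valuation (x - x') < V.valuation (x - algebraMap E Ω c)) :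
    vimg V (Set.range (aeval x : E[X] → Ω)) = vimg V (Set.range (aeval x' : E[X] → Ω)) ∧
    rimg V (Set.range (aeval x : E[X] → Ω)) = rimg V (Set.range (aeval x' : E[X] → Ω)) := by
  obtain ⟨c₀, hc₀⟩ := exists_closest V x δ hδ hbd
  set q : E[X] := C c' * X + C a with hq
  have hqdeg : q.degree < (p : ℕ) := by
    refine lt_of_le_of_lt degree_linear_le ?_
    exact_mod_cast hp.out.one_lt
  have hfm : (X ^ p - q).Monic := monic_X_pow_sub hqdeg
  have hfnd : (X ^ p - q).natDegree = p := by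
    rw [natDegree_sub_eq_left_of_natDegree_lt, natDegree_X_pow]
    rw [natDegree_X_pow]
    exact lt_of_le_of_lt natDegree_linear_le hp.out.one_lt
  have hfx : aeval x' (X ^ p - q) = 0 := by
    rw [hq, map_sub, map_pow, aeval_X, map_add, map_mul, aeval_C, aeval_C, aeval_X, ← hx']
    ring
  exact krc V p x x' a hxp c₀ hc₀ (hclose c₀) _ hfm hfnd hfx

end KRC'


section DvrPair
variable (A B K L : Type u) [CommRing A] [IsDomain A] [IsDiscreteValuationRing A]
    [CommRing B] [IsDomain B] [IsDiscreteValuationRing B] [Algebra A B]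
    [IsLocalHom (algebraMap A B)]
    [Field K] [Field L] [Algebra A K] [IsFractionRing A K] [Algebra B L] [IsFractionRing B L]
    [Algebra K L] [Algebra A L] [IsScalarTower A K L] [IsScalarTower A B L]

include A in
/-- the DVR-ness of the valuation subrings attached to a local extension (no separability
assumption) -/
lemma dvr_pair' (K₁ M : Type u) [Field K₁] [Field M] [Algebra K K₁] [FiniteDimensional K K₁]
    [Algebra K M] [Algebra L M] [Algebra K₁ M] [IsScalarTower K L M] [IsScalarTower K K₁ M]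
    (hadj : Algebra.adjoin L (Set.range (algebraMap K₁ M)) = ⊤) (W : ValuationSubring M)
    (hW : Dominates B ((algebraMap L M).comp (algebraMap B L)) W) :
    IsDiscreteValuationRing (W.comap (algebraMap K₁ M)) ∧ IsDiscreteValuationRing W ∧
      FiniteDimensional L M := by
  set f := algebraMap K₁ M with hf
  set g₁ := (algebraMap L M).comp (algebraMap B L) with hg₁
  set gK₁ := (algebraMap K K₁).comp (algebraMap A K) with hgK₁
  have hcompat0 : f.comp gK₁ = g₁.comp (algebraMap A B) := by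
    ext a
    simp only [f, gK₁, g₁, RingHom.comp_apply]
    rw [← IsScalarTower.algebraMap_apply K K₁ M, ← IsScalarTower.algebraMap_apply A B L,
      IsScalarTower.algebraMap_apply A K L, ← IsScalarTower.algebraMap_apply K L M]
  have hWA : Dominates A (f.comp gK₁) W := hcompat0 ▸ dom_comp_local hW
  have hV₁dom : Dominates A gK₁ (W.comap f) := dom_comap hWA
  have hV₁dvr : IsDiscreteValuationRing (W.comap f) :=
    isDVR_of_dominates (A := A) (K := K) (g := gK₁) (fun a => rfl) hV₁dom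
  haveI hfin : FiniteDimensional L M := finite_of_adjoin_eq_top (K := K) hadj
  have hWdvr : IsDiscreteValuationRing W :=
    isDVR_of_dominates (A := B) (K := L) (g := g₁) (fun a => rfl) hW
  exact ⟨hV₁dvr, hWdvr, hfin⟩

end DvrPair

section Core
variable (A B K L : Type u) [CommRing A] [IsDomain A] [IsDiscreteValuationRing A]
    [CommRing B] [IsDomain B] [IsDiscreteValuationRing B] [Algebra A B]
    [IsLocalHom (algebraMap A B)]
    [Field K] [Field L] [Algebra A K] [IsFractionRing A K] [Algebra B L] [IsFractionRing B L]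
    [Algebra K L] [Algebra A L] [IsScalarTower A K L] [IsScalarTower A B L]
    (p : ℕ) [hp : Fact p.Prime] [CharP K p]
    (K₁ K₂ K₃ : Type u) [Field K₁] [Field K₂] [Field K₃] [Algebra K K₁] [Algebra K K₂]
    [Algebra K₁ K₂] [IsScalarTower K K₁ K₂] [FiniteDimensional K K₁] [FiniteDimensional K₁ K₂]
    [Algebra K K₃] [Algebra K₁ K₃] [IsScalarTower K K₁ K₃] [FiniteDimensional K₁ K₃]

include A in
theorem core (hsol : IsSolution B K L K₂)
    (θ : K₂) (a₀ : K₁) (hθp : θ ^ p = algebraMap K₁ K₂ a₀)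
    (hgen₂ : ∀ y : K₂, ∃ h : K₁[X], aeval θ h = y)
    (ha₀ : ((algebraMap K K₁).comp (algebraMap A K)).IsIntegralElem a₀)
    {ϖ : A} (hϖ : Irreducible ϖ) (n₁ : ℕ)
    (hU : ∀ (M₁ : Type u) [Field M₁] [Algebra K M₁] [Algebra L M₁] [Algebra K₁ M₁]
      [IsScalarTower K L M₁] [IsScalarTower K K₁ M₁],
      Algebra.adjoin L (Set.range (algebraMap K₁ M₁)) = ⊤ →
      ∀ (W₁ : ValuationSubring M₁), Dominates B ((algebraMap L M₁).comp (algebraMap B L)) W₁ →
      ∀ c : M₁, algebraMap K₁ M₁ a₀ - c ^ p ≠ 0 ∧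
        (algebraMap L M₁ (algebraMap B L (algebraMap A B ϖ))) ^ n₁ /
          (algebraMap K₁ M₁ a₀ - c ^ p) ∈ W₁)
    (z : K₃)
    (hz : z ^ p - algebraMap K₁ K₃ (algebraMap K K₁ (algebraMap A K ϖ) ^ (n₁ + 1)) * z -
      algebraMap K₁ K₃ a₀ = 0)
    (hgen₃ : ∀ y : K₃, ∃ h : K₁[X], aeval z h = y)
    (M₃ : Type u) [Field M₃] [Algebra K M₃] [Algebra L M₃] [Algebra K₃ M₃] [IsScalarTower K L M₃]
    [IsScalarTower K K₃ M₃]
    (hadj₃ : Algebra.adjoin L (Set.range (algebraMap K₃ M₃)) = ⊤)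
    (W₃ : ValuationSubring M₃) (hW₃ : Dominates B ((algebraMap L M₃).comp (algebraMap B L)) W₃)
    (M₅ : Type u) [Field M₅] [Algebra M₃ M₅] [Algebra K₂ M₅] [Algebra K₁ M₅]
    [IsScalarTower K₁ K₂ M₅]
    (hcompat : ∀ k : K₁, algebraMap M₃ M₅ (algebraMap K₃ M₃ (algebraMap K₁ K₃ k)) =
      algebraMap K₁ M₅ k)
    [FiniteDimensional M₃ M₅] :
    @IsWeaklyUnramified (W₃.comap (algebraMap K₃ M₃)) W₃ _ _ _ _
      (inclOfComap W₃ (algebraMap K₃ M₃)).toAlgebra ∧
    @Algebra.IsGeometricallyReduced (ResidueField (W₃.comap (algebraMap K₃ M₃))) (ResidueField W₃)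
      _ _ (ResidueField.map (inclOfComap W₃ (algebraMap K₃ M₃))).toAlgebra := by
  classical
  -- Stage A : instances on `M₅`
  letI algL₅ : Algebra L M₅ := ((algebraMap M₃ M₅).comp (algebraMap L M₃)).toAlgebra
  letI algK₅ : Algebra K M₅ := ((algebraMap M₃ M₅).comp (algebraMap K M₃)).toAlgebra
  letI algK₃₅ : Algebra K₃ M₅ := ((algebraMap M₃ M₅).comp (algebraMap K₃ M₃)).toAlgebra
  haveI : IsScalarTower L M₃ M₅ := IsScalarTower.of_algebraMap_eq (fun _ => rfl)
  haveI : IsScalarTower K M₃ M₅ := IsScalarTower.of_algebraMap_eq (fun _ => rfl)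
  haveI : IsScalarTower K₃ M₃ M₅ := IsScalarTower.of_algebraMap_eq (fun _ => rfl)
  haveI : IsScalarTower K L M₅ := IsScalarTower.of_algebraMap_eq (fun c => by
    show algebraMap M₃ M₅ (algebraMap K M₃ c) = algebraMap M₃ M₅ (algebraMap L M₃ (algebraMap K L c))
    rw [← IsScalarTower.algebraMap_apply K L M₃])
  haveI : IsScalarTower K₁ K₃ M₅ := IsScalarTower.of_algebraMap_eq (fun k => (hcompat k).symm)
  haveI : IsScalarTower K K₁ M₅ := IsScalarTower.of_algebraMap_eq (fun c => by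
    rw [← hcompat, ← IsScalarTower.algebraMap_apply K K₁ K₃, ← IsScalarTower.algebraMap_apply K K₃ M₃]
    rfl)
  haveI : IsScalarTower K K₂ M₅ := IsScalarTower.of_algebraMap_eq (fun c => by
    rw [IsScalarTower.algebraMap_apply K K₁ M₅, IsScalarTower.algebraMap_apply K₁ K₂ M₅,
      ← IsScalarTower.algebraMap_apply K K₁ K₂])
  haveI : FiniteDimensional K K₃ := Module.Finite.trans K₁ K₃
  haveI : FiniteDimensional K K₂ := Module.Finite.trans K₁ K₂
  haveI hfinLM₃ : FiniteDimensional L M₃ := finite_of_adjoin_eq_top (K := K) hadj₃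
  haveI : FiniteDimensional L M₅ := Module.Finite.trans M₃ M₅
  haveI : Algebra.IsAlgebraic L M₅ := inferInstance
  haveI : CharP K₁ p := charP_of_injective_algebraMap (algebraMap K K₁).injective p
  haveI : CharP K₂ p := charP_of_injective_algebraMap (algebraMap K K₂).injective p
  haveI : CharP K₃ p := charP_of_injective_algebraMap (algebraMap K K₃).injective p
  haveI : CharP M₅ p := charP_of_injective_algebraMap (algebraMap K M₅).injective p
  -- Stage B : the valuation ring upstairs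
  obtain ⟨W₅, hW₅⟩ := exists_dom_ext W₃ (algebraMap M₃ M₅)
  have hcomap₅ : W₅.comap (algebraMap M₃ M₅) = W₃ := comap_eq_of_dom hW₅
  have hW₅B : Dominates B ((algebraMap L M₅).comp (algebraMap B L)) W₅ := by
    have := dom_trans hW₃ hW₅
    exact this
  haveI d₅ : IsDiscreteValuationRing W₅ :=
    isDVR_of_dominates (A := B) (K := L) (g := (algebraMap L M₅).comp (algebraMap B L))
      (fun a => rfl) hW₅B
  -- Stage C : the compositum of `L` and `K₂` inside `M₅`
  set M₂ : IntermediateField L M₅ := IntermediateField.adjoin L (Set.range (algebraMap K₂ M₅))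
    with hM₂
  have hM₂sub : M₂.toSubalgebra = Algebra.adjoin L (Set.range (algebraMap K₂ M₅)) :=
    IntermediateField.adjoin_toSubalgebra _
  have hmemK₂ : ∀ k : K₂, algebraMap K₂ M₅ k ∈ M₂ :=
    fun k => IntermediateField.subset_adjoin L _ ⟨k, rfl⟩
  letI algK₂M₂ : Algebra K₂ M₂ := (RingHom.codRestrict (algebraMap K₂ M₅) M₂ hmemK₂).toAlgebra
  haveI : IsScalarTower K₂ M₂ M₅ := IsScalarTower.of_algebraMap_eq (fun _ => rfl)
  haveI : IsScalarTower K L M₂ := inferInstance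
  haveI : IsScalarTower K K₂ M₂ := IsScalarTower.of_algebraMap_eq (fun c => Subtype.ext (by
    show algebraMap K M₅ c = algebraMap K₂ M₅ (algebraMap K K₂ c)
    exact IsScalarTower.algebraMap_apply K K₂ M₅ c))
  have hadj₂ : Algebra.adjoin L (Set.range (algebraMap K₂ M₂)) = ⊤ := by
    set S := Algebra.adjoin L (Set.range (algebraMap K₂ M₂)) with hS
    have key : ∀ x ∈ Algebra.adjoin L (Set.range (algebraMap K₂ M₅)),
        ∀ h : x ∈ M₂, (⟨x, h⟩ : M₂) ∈ S := by
      intro x hx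
      induction hx using Algebra.adjoin_induction with
      | mem x hx =>
        obtain ⟨k, rfl⟩ := hx
        intro h
        exact Algebra.subset_adjoin ⟨k, Subtype.ext rfl⟩
      | algebraMap l =>
        intro h
        have : (⟨algebraMap L M₅ l, h⟩ : M₂) = algebraMap L M₂ l := Subtype.ext rfl
        rw [this]; exact S.algebraMap_mem l
      | add x y hx' hy' ihx ihy =>
        intro h
        have hx2 : x ∈ M₂ := by rw [← IntermediateField.mem_toSubalgebra, hM₂sub]; exact hx'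
        have hy2 : y ∈ M₂ := by rw [← IntermediateField.mem_toSubalgebra, hM₂sub]; exact hy'
        have : (⟨x + y, h⟩ : M₂) = ⟨x, hx2⟩ + ⟨y, hy2⟩ := Subtype.ext rfl
        rw [this]; exact S.add_mem (ihx hx2) (ihy hy2)
      | mul x y hx' hy' ihx ihy =>
        intro h
        have hx2 : x ∈ M₂ := by rw [← IntermediateField.mem_toSubalgebra, hM₂sub]; exact hx'
        have hy2 : y ∈ M₂ := by rw [← IntermediateField.mem_toSubalgebra, hM₂sub]; exact hy'
        have : (⟨x * y, h⟩ : M₂) = ⟨x, hx2⟩ * ⟨y, hy2⟩ := Subtype.ext rfl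
        rw [this]; exact S.mul_mem (ihx hx2) (ihy hy2)
    rw [eq_top_iff]
    rintro ⟨y, hy⟩ -
    have hy' : y ∈ Algebra.adjoin L (Set.range (algebraMap K₂ M₅)) := by
      rw [← hM₂sub]; exact hy
    exact key y hy' hy
  set W₂ : ValuationSubring M₂ := W₅.comap (algebraMap M₂ M₅) with hW₂def
  have hW₂B : Dominates B ((algebraMap L M₂).comp (algebraMap B L)) W₂ := by
    apply dom_comap
    have : (algebraMap M₂ M₅).comp ((algebraMap L M₂).comp (algebraMap B L)) =
        (algebraMap L M₅).comp (algebraMap B L) := by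
      ext b; rfl
    rw [this]; exact hW₅B
  obtain ⟨hwu₂, hgr₂⟩ := hsol M₂ hadj₂ W₂ hW₂B
  obtain ⟨d₂', d₂, -⟩ := dvr_pair' A B K L K₂ M₂ hadj₂ W₂ hW₂B
  obtain ⟨d₃a, d₃b, -⟩ := dvr_pair' A B K L K₃ M₃ hadj₃ W₃ hW₃
  have d₃ : IsDiscreteValuationRing (W₅.comap (algebraMap M₃ M₅)) := hcomap₅.symm ▸ d₃b
  have d₃' : IsDiscreteValuationRing ((W₅.comap (algebraMap M₃ M₅)).comap (algebraMap K₃ M₃)) :=
    hcomap₅.symm ▸ d₃a
  -- Stage D : the elements and the basic inequalities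
  set v := W₅.valuation with hv
  set gK₁ : A →+* K₁ := (algebraMap K K₁).comp (algebraMap A K) with hgK₁
  set θ₅ : M₅ := algebraMap K₂ M₅ θ with hθ₅
  set z₅ : M₅ := algebraMap K₃ M₅ z with hz₅
  set a₅ : M₅ := algebraMap K₁ M₅ a₀ with ha₅
  set ϖ₅ : M₅ := algebraMap K₁ M₅ (gK₁ ϖ) with hϖ₅
  have hθ₅p : θ₅ ^ p = a₅ := by
    rw [hθ₅, ← map_pow, hθp, ← IsScalarTower.algebraMap_apply K₁ K₂ M₅]
  have hz₅eq : z₅ ^ p - ϖ₅ ^ (n₁ + 1) * z₅ - a₅ = 0 := by
    have := congrArg (algebraMap K₃ M₅) hz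
    rw [map_sub, map_sub, map_mul, map_pow, map_zero, ← IsScalarTower.algebraMap_apply K₁ K₃ M₅,
      ← IsScalarTower.algebraMap_apply K₁ K₃ M₅, map_pow] at this
    exact this
  have hgA : ∀ a : A, ((algebraMap L M₅).comp (algebraMap B L)).comp (algebraMap A B) a =
      algebraMap K₁ M₅ (gK₁ a) := by
    intro a
    simp only [RingHom.comp_apply, hgK₁]
    rw [← IsScalarTower.algebraMap_apply A B L, IsScalarTower.algebraMap_apply A K L,
      ← IsScalarTower.algebraMap_apply K L M₅, IsScalarTower.algebraMap_apply K K₁ M₅]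
  have hW₅A : Dominates A (((algebraMap L M₅).comp (algebraMap B L)).comp (algebraMap A B)) W₅ :=
    dom_comp_local hW₅B
  have hϖm : ϖ ∈ maximalIdeal A := hϖ.not_isUnit
  have hvϖ1 : v ϖ₅ < 1 := by
    have := hW₅A.2 ϖ hϖm
    rw [hgA] at this
    exact this
  have hϖ₅0 : ϖ₅ ≠ 0 := by
    rw [hϖ₅, Ne, map_eq_zero, hgK₁, RingHom.comp_apply, map_eq_zero]
    exact fun h => hϖ.ne_zero (IsFractionRing.injective A K (by rw [h, map_zero]))
  have hvϖ0 : v ϖ₅ ≠ 0 := (Valuation.ne_zero_iff _).2 hϖ₅0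
  have ha₅V : a₅ ∈ W₅ := by
    apply mem_valuationSubring_of_isIntegralElem W₅ ((algebraMap K₁ M₅).comp gK₁)
    · intro r
      have := hW₅A.1 r
      rw [hgA] at this
      exact this
    · obtain ⟨P, hPm, hP⟩ := ha₀
      refine ⟨P, hPm, ?_⟩
      rw [ha₅, ← Polynomial.hom_eval₂, hP, map_zero]
  have hva₅ : v a₅ ≤ 1 := (W₅.valuation_le_one_iff _).2 ha₅V
  have hvz₅ : v z₅ ≤ 1 := by
    by_contra hcon
    rw [not_le] at hcon
    have h1 : z₅ ^ p = ϖ₅ ^ (n₁ + 1) * z₅ + a₅ := by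
      have := hz₅eq
      rw [sub_sub, sub_eq_zero] at this
      exact this
    have h2 : v (z₅ ^ p) ≤ v z₅ := by
      rw [h1]
      apply Valuation.map_add_le
      · rw [map_mul, map_pow]
        calc v ϖ₅ ^ (n₁ + 1) * v z₅ ≤ 1 * v z₅ :=
              mul_le_mul_left (pow_le_one₀ zero_le (le_of_lt hvϖ1)) _
          _ = v z₅ := one_mul _
      · exact le_trans hva₅ (le_of_lt hcon)
    rw [map_pow] at h2
    have h3 : v z₅ < v z₅ ^ p := by
      calc v z₅ = v z₅ ^ 1 := (pow_one _).symm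
        _ < v z₅ ^ p := pow_lt_pow_right₀ hcon hp.out.one_lt
    exact absurd h2 (not_le.2 h3)
  have hs : v (θ₅ - z₅) ^ p ≤ v ϖ₅ ^ (n₁ + 1) := by
    have h1 : (θ₅ - z₅) ^ p = - (ϖ₅ ^ (n₁ + 1) * z₅) := by
      rw [sub_pow_char, hθ₅p]
      have := hz₅eq
      rw [sub_sub, sub_eq_zero] at this
      rw [this]; ring
    rw [← map_pow, h1, Valuation.map_neg, map_mul, map_pow]
    calc v ϖ₅ ^ (n₁ + 1) * v z₅ ≤ v ϖ₅ ^ (n₁ + 1) * 1 := mul_le_mul_right hvz₅ _
      _ = _ := mul_one _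
  -- Stage E : the compositum of `L` and `K₁` inside `M₅` and the uniform bound
  set E₁ : IntermediateField L M₅ := IntermediateField.adjoin L (Set.range (algebraMap K₁ M₅))
    with hE₁
  have hE₁sub : E₁.toSubalgebra = Algebra.adjoin L (Set.range (algebraMap K₁ M₅)) :=
    IntermediateField.adjoin_toSubalgebra _
  have hmemK₁ : ∀ k : K₁, algebraMap K₁ M₅ k ∈ E₁ :=
    fun k => IntermediateField.subset_adjoin L _ ⟨k, rfl⟩
  letI algK₁E₁ : Algebra K₁ E₁ := (RingHom.codRestrict (algebraMap K₁ M₅) E₁ hmemK₁).toAlgebra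
  haveI : IsScalarTower K₁ E₁ M₅ := IsScalarTower.of_algebraMap_eq (fun _ => rfl)
  haveI : IsScalarTower K L E₁ := inferInstance
  haveI : IsScalarTower K K₁ E₁ := IsScalarTower.of_algebraMap_eq (fun c => Subtype.ext (by
    show algebraMap K M₅ c = algebraMap K₁ M₅ (algebraMap K K₁ c)
    exact IsScalarTower.algebraMap_apply K K₁ M₅ c))
  have hadjE : Algebra.adjoin L (Set.range (algebraMap K₁ E₁)) = ⊤ := by
    set S := Algebra.adjoin L (Set.range (algebraMap K₁ E₁)) with hS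
    have key : ∀ x ∈ Algebra.adjoin L (Set.range (algebraMap K₁ M₅)),
        ∀ h : x ∈ E₁, (⟨x, h⟩ : E₁) ∈ S := by
      intro x hx
      induction hx using Algebra.adjoin_induction with
      | mem x hx =>
        obtain ⟨k, rfl⟩ := hx
        intro h
        exact Algebra.subset_adjoin ⟨k, Subtype.ext rfl⟩
      | algebraMap l =>
        intro h
        have : (⟨algebraMap L M₅ l, h⟩ : E₁) = algebraMap L E₁ l := Subtype.ext rfl
        rw [this]; exact S.algebraMap_mem l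
      | add x y hx' hy' ihx ihy =>
        intro h
        have hx2 : x ∈ E₁ := by rw [← IntermediateField.mem_toSubalgebra, hE₁sub]; exact hx'
        have hy2 : y ∈ E₁ := by rw [← IntermediateField.mem_toSubalgebra, hE₁sub]; exact hy'
        have : (⟨x + y, h⟩ : E₁) = ⟨x, hx2⟩ + ⟨y, hy2⟩ := Subtype.ext rfl
        rw [this]; exact S.add_mem (ihx hx2) (ihy hy2)
      | mul x y hx' hy' ihx ihy =>
        intro h
        have hx2 : x ∈ E₁ := by rw [← IntermediateField.mem_toSubalgebra, hE₁sub]; exact hx'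
        have hy2 : y ∈ E₁ := by rw [← IntermediateField.mem_toSubalgebra, hE₁sub]; exact hy'
        have : (⟨x * y, h⟩ : E₁) = ⟨x, hx2⟩ * ⟨y, hy2⟩ := Subtype.ext rfl
        rw [this]; exact S.mul_mem (ihx hx2) (ihy hy2)
    rw [eq_top_iff]
    rintro ⟨y, hy⟩ -
    have hy' : y ∈ Algebra.adjoin L (Set.range (algebraMap K₁ M₅)) := by
      rw [← hE₁sub]; exact hy
    exact key y hy' hy
  set WE : ValuationSubring E₁ := W₅.comap (algebraMap E₁ M₅) with hWEdef
  have hWEB : Dominates B ((algebraMap L E₁).comp (algebraMap B L)) WE := by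
    apply dom_comap
    have : (algebraMap E₁ M₅).comp ((algebraMap L E₁).comp (algebraMap B L)) =
        (algebraMap L M₅).comp (algebraMap B L) := by
      ext b; rfl
    rw [this]; exact hW₅B
  have hUE : ∀ c : E₁, v ϖ₅ ^ n₁ ≤ v (θ₅ - (c : M₅)) ^ p := by
    intro c
    obtain ⟨hne, hmem⟩ := hU E₁ hadjE WE hWEB c
    have hmem' : algebraMap E₁ M₅ ((algebraMap L E₁ (algebraMap B L (algebraMap A B ϖ))) ^ n₁ /
        (algebraMap K₁ E₁ a₀ - c ^ p)) ∈ W₅ := hmem
    have h1 : algebraMap E₁ M₅ (algebraMap L E₁ (algebraMap B L (algebraMap A B ϖ))) = ϖ₅ := by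
      rw [hϖ₅, ← hgA]; rfl
    have h2 : algebraMap E₁ M₅ (algebraMap K₁ E₁ a₀ - c ^ p) = (θ₅ - (c : M₅)) ^ p := by
      rw [sub_pow_char, hθ₅p, map_sub, map_pow]; rfl
    have h3 : (θ₅ - (c : M₅)) ^ p ≠ 0 := by
      rw [← h2, Ne, map_eq_zero]; exact hne
    rw [map_div₀, map_pow, h1, h2, ← W₅.valuation_le_one_iff, map_div₀, map_pow,
      div_le_one₀ (zero_lt_iff.2 ((Valuation.ne_zero_iff _).2 h3)), map_pow] at hmem'
    exact hmem'
  have hcloseE : ∀ c : E₁, v (θ₅ - z₅) < v (θ₅ - algebraMap E₁ M₅ c) := by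
    intro c
    have h1 : v (θ₅ - z₅) ^ p < v (θ₅ - (c : M₅)) ^ p := by
      refine lt_of_le_of_lt hs (lt_of_lt_of_le ?_ (hUE c))
      rw [pow_succ]
      calc v ϖ₅ ^ n₁ * v ϖ₅ < v ϖ₅ ^ n₁ * 1 :=
            mul_lt_mul_of_pos_left hvϖ1 (pow_pos (zero_lt_iff.2 hvϖ0) _)
        _ = _ := mul_one _
    exact lt_of_pow_lt_pow_left₀ p zero_le h1
  have hδ : v ϖ₅ ^ n₁ ≠ 0 := pow_ne_zero _ hvϖ0
  have hbdE : ∀ c : E₁, v ϖ₅ ^ n₁ ≤ v (θ₅ - algebraMap E₁ M₅ c) := by
    intro c
    by_contra hcon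
    rw [not_le] at hcon
    have h1 : v (θ₅ - algebraMap E₁ M₅ c) ≤ 1 :=
      le_trans (le_of_lt hcon) (pow_le_one₀ zero_le (le_of_lt hvϖ1))
    have h2 : v (θ₅ - algebraMap E₁ M₅ c) ^ p ≤ v (θ₅ - algebraMap E₁ M₅ c) :=
      pow_le_of_le_one zero_le h1 hp.out.ne_zero
    exact absurd (le_trans (hUE c) h2) (not_le.2 hcon)
  haveI : CharP E₁ p := charP_of_injective_algebraMap (algebraMap K E₁).injective p
  -- Krasner over `E₁`
  have hkE := krc' W₅ p θ₅ z₅ (algebraMap K₁ E₁ a₀) (algebraMap K₁ E₁ (gK₁ ϖ ^ (n₁ + 1)))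
    (by rw [hθ₅p]; rfl)
    (by
      have h1 : algebraMap E₁ M₅ (algebraMap K₁ E₁ (gK₁ ϖ ^ (n₁ + 1))) = ϖ₅ ^ (n₁ + 1) := by
        show algebraMap K₁ M₅ (gK₁ ϖ ^ (n₁ + 1)) = _
        rw [map_pow]
      have h2 : algebraMap E₁ M₅ (algebraMap K₁ E₁ a₀) = a₅ := rfl
      rw [h1, h2]; exact hz₅eq)
    (v ϖ₅ ^ n₁) hδ hbdE hcloseE
  -- Krasner over `K₁`
  have hkK := krc' W₅ p θ₅ z₅ a₀ (gK₁ ϖ ^ (n₁ + 1))
    (by rw [hθ₅p])
    (by
      have h1 : algebraMap K₁ M₅ (gK₁ ϖ ^ (n₁ + 1)) = ϖ₅ ^ (n₁ + 1) := by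
        rw [map_pow]
      rw [h1]; exact hz₅eq)
    (v ϖ₅ ^ n₁) hδ (fun c => hbdE (algebraMap K₁ E₁ c)) (fun c => hcloseE (algebraMap K₁ E₁ c))
  -- Stage F : identification of the ranges
  have hR1 : Set.range (algebraMap M₂ M₅) = Set.range (aeval θ₅ : E₁[X] → M₅) := by
    have h1 : Set.range (algebraMap M₂ M₅) =
        (Algebra.adjoin L (Set.range (algebraMap K₂ M₅)) : Set M₅) := by
      rw [← hM₂sub]
      ext y
      constructor
      · rintro ⟨m, rfl⟩; exact m.2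
      · intro hy; exact ⟨⟨y, hy⟩, rfl⟩
    rw [h1]
    exact adjoin_eq_aeval θ hgen₂
  have hR2 : Set.range (algebraMap M₃ M₅) = Set.range (aeval z₅ : E₁[X] → M₅) := by
    have h1 : Set.range (algebraMap M₃ M₅) =
        (Algebra.adjoin L (Set.range (algebraMap K₃ M₅)) : Set M₅) := by
      have h2 : (Algebra.adjoin L (Set.range (algebraMap K₃ M₃))).map
          (IsScalarTower.toAlgHom L M₃ M₅) = Algebra.adjoin L (Set.range (algebraMap K₃ M₅)) := by
        rw [AlgHom.map_adjoin]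
        congr 1
        ext y
        constructor
        · rintro ⟨_, ⟨k, rfl⟩, rfl⟩; exact ⟨k, rfl⟩
        · rintro ⟨k, rfl⟩; exact ⟨_, ⟨k, rfl⟩, rfl⟩
      rw [← h2, hadj₃, Algebra.map_top]
      ext y
      constructor
      · rintro ⟨m, rfl⟩; exact ⟨m, rfl⟩
      · rintro ⟨m, rfl⟩; exact ⟨m, rfl⟩
    rw [h1]
    exact adjoin_eq_aeval z hgen₃
  have hc2 : (algebraMap M₂ M₅).comp (algebraMap K₂ M₂) = algebraMap K₂ M₅ := by
    ext k; rfl
  have hc3 : (algebraMap M₃ M₅).comp (algebraMap K₃ M₃) = algebraMap K₃ M₅ := by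
    ext k; rfl
  have hR3 : Set.range ((algebraMap M₂ M₅).comp (algebraMap K₂ M₂)) =
      Set.range (aeval θ₅ : K₁[X] → M₅) := by
    rw [hc2]; exact range_eq_aeval θ hgen₂
  have hR4 : Set.range ((algebraMap M₃ M₅).comp (algebraMap K₃ M₃)) =
      Set.range (aeval z₅ : K₁[X] → M₅) := by
    rw [hc3]; exact range_eq_aeval z hgen₃
  -- Stage G : transfer
  have res := transfer W₅ (algebraMap K₂ M₂) (algebraMap K₃ M₃) (algebraMap M₂ M₅)
    (algebraMap M₃ M₅) p d₂ d₂' d₃ d₃'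
    (by rw [hR3, hR4]; exact hkK.1) (by rw [hR1, hR2]; exact hkE.1)
    (by rw [hR3, hR4]; exact hkK.2) (by rw [hR1, hR2]; exact hkE.2) hwu₂ hgr₂
  exact hcomap₅ ▸ res

end Core

section Main
variable (A B K L : Type u) [CommRing A] [IsDomain A] [IsDiscreteValuationRing A]
    [CommRing B] [IsDomain B] [IsDiscreteValuationRing B] [Algebra A B]
    [IsLocalHom (algebraMap A B)]
    [Field K] [Field L] [Algebra A K] [IsFractionRing A K] [Algebra B L] [IsFractionRing B L]
    [Algebra K L] [Algebra A L] [IsScalarTower A K L] [IsScalarTower A B L]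

include A in
/-- **the purely inseparable step**: if `K₂/K₁` is purely inseparable of degree `p` and `K₂` is a
solution, then some finite separable extension `K₃/K₁` is a solution. -/
theorem pi_step (p : ℕ) (hp : p.Prime) (hinj : Function.Injective (algebraMap A B)) [CharP K p]
    [Algebra.IsGeometricallyReduced K L] (hB : CAlg.IsNagata B)
    (K₁ K₂ : Type u) [Field K₁] [Field K₂] [Algebra K K₁] [Algebra K K₂] [Algebra K₁ K₂]
    [IsScalarTower K K₁ K₂] [FiniteDimensional K K₁] [FiniteDimensional K₁ K₂]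
    (hsol : IsSolution B K L K₂) [IsPurelyInseparable K₁ K₂] (hdeg : Module.finrank K₁ K₂ = p) :
    ∃ (K₃ : Type u) (_ : Field K₃) (_ : Algebra K K₃) (_ : Algebra K₁ K₃)
      (_ : IsScalarTower K K₁ K₃),
      FiniteDimensional K₁ K₃ ∧ Algebra.IsSeparable K₁ K₃ ∧ IsSolution B K L K₃ := by
  haveI : Fact p.Prime := ⟨hp⟩
  haveI : CharP K₁ p := charP_of_injective_algebraMap (algebraMap K K₁).injective p
  obtain ⟨ϖ, hϖ⟩ := IsDiscreteValuationRing.exists_irreducible A
  obtain ⟨θ, a₀, hθ, hθp, ha₀⟩ := exists_gen A K p K₁ K₂ hdeg hϖ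
  have hgen₂ : ∀ y : K₂, ∃ h : K₁[X], aeval θ h = y := by
    intro y
    have h1 : IntermediateField.adjoin K₁ {θ} = ⊤ := PIstep.adjoin_eq_top p hp K₁ K₂ hdeg hθ
    have h2 : y ∈ (IntermediateField.adjoin K₁ {θ}).toSubalgebra := by
      rw [h1]; trivial
    rw [IntermediateField.adjoin_simple_toSubalgebra_of_isAlgebraic
      (Algebra.IsAlgebraic.isAlgebraic θ), Algebra.adjoin_singleton_eq_range_aeval] at h2
    obtain ⟨h, hh⟩ := h2
    exact ⟨h, hh⟩
  have hϖm : ϖ ∈ maximalIdeal A := hϖ.not_isUnit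
  have ht : algebraMap A B ϖ ∈ maximalIdeal B := map_nonunit (algebraMap A B) ϖ hϖm
  have ht0 : algebraMap A B ϖ ≠ 0 := fun h => hϖ.ne_zero (hinj (by rw [h, map_zero]))
  haveI : Algebra.IsAlgebraic K₁ K₂ := Algebra.IsAlgebraic.of_finite K₁ K₂
  obtain ⟨n₁, hn₁⟩ := bound_all (K := K) (L := L) p (Nag.n2'_of_isNagata hB) θ hθ a₀ hθp ht ht0
  have hc : algebraMap K K₁ (algebraMap A K ϖ) ^ (n₁ + 1) ≠ 0 := by
    apply pow_ne_zero
    rw [Ne, map_eq_zero]
    exact fun h => hϖ.ne_zero (IsFractionRing.injective A K (by rw [h, map_zero]))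
  obtain ⟨K₃, iF, iA, iA1, iT, hfin, hsep, z, hz, hgen₃⟩ :=
    exists_K3 K K₁ p (algebraMap K K₁ (algebraMap A K ϖ) ^ (n₁ + 1)) a₀ hc
  refine ⟨K₃, iF, iA, iA1, iT, hfin, hsep, ?_⟩
  letI := iF
  letI := iA
  letI := iA1
  haveI := iT
  haveI := hfin
  intro M₃ _ _ _ _ _ _ hadj₃ W₃ hW₃
  letI algK₁M₃ : Algebra K₁ M₃ := ((algebraMap K₃ M₃).comp (algebraMap K₁ K₃)).toAlgebra
  obtain ⟨M₅, i1, i2, i3, i4, i5, i6, hfin5⟩ := exists_compositum' K₁ K₂ M₃
  letI := i1
  letI := i2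
  letI := i3
  letI := i4
  haveI := i5
  haveI := i6
  haveI := hfin5
  exact core A B K L p K₁ K₂ K₃ hsol θ a₀ hθp hgen₂ ha₀ hϖ n₁ hn₁ z hz hgen₃ M₃ hadj₃ W₃ hW₃ M₅
    (fun k => (IsScalarTower.algebraMap_apply K₁ M₃ M₅ k).symm)

end Main

end Kr
end Groth.Agent.Helper9.EtRamLib
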